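import Cfsg.Agent.TensorUnitary.Invariant
import Cfsg.Agent.TensorMax.Basic

/-!
# The tensor product of two unitary forms
-/

set_option autoImplicit false
set_option linter.unusedSectionVars false

namespace CfsgLib.TensorUnitary

open Matrix Cfsg.Geo CfsgLib.MaxSub CfsgLib.TensorMax
open scoped Kronecker

variable {F : Type*} [Field F] {a b : ℕ}

/-- The rows of a vector of `F^a ⊗ F^b`. -/
def row (v : Idx a b → F) (i : Fin a) : Fin b → F := fun k => v (i, k)

theorem row_ten (x : Fin a → F) (y : Fin b → F) (i : Fin a) : row (ten x y) i = x i • y := rfl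

theorem sum_ten_row (v : Idx a b → F) : ∑ i, ten (Pi.single i 1) (row v i) = v := by
  funext ⟨j, k⟩
  rw [Finset.sum_apply, Finset.sum_eq_single j]
  · simp [ten, row]
  · intro i _ hij; simp [ten, Ne.symm hij]
  · simp

theorem ten_induction {P : (Idx a b → F) → Prop} (hadd : ∀ v w, P v → P w → P (v + w))
    (h0 : P 0) (h : ∀ x y, P (ten x y)) (v : Idx a b → F) : P v := by
  rw [← sum_ten_row v]
  exact Finset.sum_induction _ P hadd h0 fun i _ => h _ _

theorem mat_ext_ten {A B : Matrix (Idx a b) (Idx a b) F}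
    (h : ∀ x y, A *ᵥ ten x y = B *ᵥ ten x y) : A = B :=
  Matrix.ext_iff_mulVec.mpr fun v => ten_induction (P := fun v => A *ᵥ v = B *ᵥ v)
    (fun v w hv hw => by rw [mulVec_add, mulVec_add, hv, hw]) (by rw [mulVec_zero, mulVec_zero]) h v

/-- The tensor product of two forms. -/
def form (f₁ : (Fin a → F) → (Fin a → F) → F) (f₂ : (Fin b → F) → (Fin b → F) → F)
    (v w : Idx a b → F) : F :=
  ∑ i, ∑ j, f₁ (Pi.single i 1) (Pi.single j 1) * f₂ (row v i) (row w j)

/-- The contraction with `w` in the second factor. -/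
def ev (f₂ : (Fin b → F) → (Fin b → F) → F) (w : Fin b → F) (v : Idx a b → F) : Fin a → F :=
  fun i => f₂ (row v i) w

variable {σ : F ≃+* F} {f₁ : (Fin a → F) → (Fin a → F) → F} {f₂ : (Fin b → F) → (Fin b → F) → F}

section

variable (hf₂ : IsUnitaryForm σ f₂)
include hf₂

theorem ev_add (w : Fin b → F) (v v' : Idx a b → F) :
    ev f₂ w (v + v') = ev f₂ w v + ev f₂ w v' :=
  funext fun _ => hf₂.add_left _ _ _

theorem ev_smul (w : Fin b → F) (k : F) (v : Idx a b → F) : ev f₂ w (k • v) = k • ev f₂ w v :=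
  funext fun _ => hf₂.smul_left _ _ _

theorem ev_zero (w : Fin b → F) : ev f₂ w (0 : Idx a b → F) = 0 := by
  simpa using ev_smul hf₂ w 0 (0 : Idx a b → F)

theorem ev_sub (w : Fin b → F) (v v' : Idx a b → F) :
    ev f₂ w (v - v') = ev f₂ w v - ev f₂ w v' :=
  funext fun _ => (sesqForm_of_unitary hf₂).sub_left _ _ _

theorem ev_add_right (w w' : Fin b → F) (v : Idx a b → F) :
    ev f₂ (w + w') v = ev f₂ w v + ev f₂ w' v :=
  funext fun _ => (sesqForm_of_unitary hf₂).add_right _ _ _

theorem ev_smul_right (k : F) (w : Fin b → F) (v : Idx a b → F) :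
    ev f₂ (k • w) v = σ k • ev f₂ w v :=
  funext fun _ => (sesqForm_of_unitary hf₂).smul_right _ _ _

theorem ev_ten (w : Fin b → F) (x : Fin a → F) (y : Fin b → F) :
    ev f₂ w (ten x y) = f₂ y w • x := by
  funext i
  rw [ev, row_ten, hf₂.smul_left, Pi.smul_apply, smul_eq_mul, mul_comm]

/-- The contraction as a linear map. -/
def evL (w : Fin b → F) : (Idx a b → F) →ₗ[F] (Fin a → F) where
  toFun := ev f₂ w
  map_add' := ev_add hf₂ w
  map_smul' k v := ev_smul hf₂ w k v

/-- The Kronecker product with a rank one matrix. -/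
theorem kron_pMat_mulVec (A : Matrix (Fin a) (Fin a) F) (c : Fin b → F) (v : Idx a b → F) :
    (A ⊗ₖ pMat f₂ c) *ᵥ v = ten (A *ᵥ ev f₂ c v) c := by
  induction v using ten_induction with
  | hadd v w hv hw => rw [mulVec_add, hv, hw, ev_add hf₂, mulVec_add, ten_add_left]
  | h0 => rw [mulVec_zero, ev_zero hf₂, mulVec_zero, ten_eq_zero.mpr (Or.inl rfl)]
  | h x y => rw [kron_mulVec_ten, pMat_mulVec hf₂, ev_ten hf₂, mulVec_smul, ten_smul_left, ten_smul_right]

end

section Form

variable (hf₁ : IsUnitaryForm σ f₁) (hf₂ : IsUnitaryForm σ f₂)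
include hf₁ hf₂

omit hf₂ in
theorem expand (u x : Fin a → F) :
    f₁ u x = ∑ i, ∑ j, f₁ (Pi.single i 1) (Pi.single j 1) * (u i * σ (x j)) := by
  have hs := sesqForm_of_unitary hf₁
  rw [← hs.dot_leftVec x u, dotProduct]
  refine Finset.sum_congr rfl fun i _ => ?_
  rw [leftVec, hf₁.herm (Pi.single i 1) x, ← hs.dot_leftVec (Pi.single i 1) x, dotProduct, map_sum,
    Finset.sum_mul]
  refine Finset.sum_congr rfl fun j _ => ?_
  rw [map_mul, leftVec, ← hf₁.herm]
  ring

theorem form_ten_right (v : Idx a b → F) (x : Fin a → F) (y : Fin b → F) :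
    form f₁ f₂ v (ten x y) = f₁ (ev f₂ y v) x := by
  rw [expand hf₁ (ev f₂ y v) x, form]
  refine Finset.sum_congr rfl fun i _ => Finset.sum_congr rfl fun j _ => ?_
  rw [row_ten, (sesqForm_of_unitary hf₂).smul_right, ev]
  ring

theorem form_ten_ten (x x' : Fin a → F) (y y' : Fin b → F) :
    form f₁ f₂ (ten x y) (ten x' y') = f₁ x x' * f₂ y y' := by
  rw [form_ten_right hf₁ hf₂, ev_ten hf₂, hf₁.smul_left, mul_comm]

theorem form_add_left (u v w : Idx a b → F) :
    form f₁ f₂ (u + v) w = form f₁ f₂ u w + form f₁ f₂ v w := by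
  simp only [form, ← Finset.sum_add_distrib]
  refine Finset.sum_congr rfl fun i _ => Finset.sum_congr rfl fun j _ => ?_
  rw [show row (u + v) i = row u i + row v i from rfl, hf₂.add_left, mul_add]

theorem form_herm (u v : Idx a b → F) : form f₁ f₂ u v = σ (form f₁ f₂ v u) := by
  simp only [form, map_sum, map_mul]
  rw [Finset.sum_comm]
  refine Finset.sum_congr rfl fun i _ => Finset.sum_congr rfl fun j _ => ?_
  rw [← hf₁.herm, ← hf₂.herm]

theorem form_eq_zero {v : Idx a b → F} (h : ∀ x y, form f₁ f₂ v (ten x y) = 0) : v = 0 := by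
  have hev : ∀ y, ev f₂ y v = 0 := fun y => by
    by_contra hne
    obtain ⟨x, hx⟩ := (hf₁.nondegenerate _ hne).2
    exact hx (by rw [← form_ten_right hf₁ hf₂, h])
  funext ⟨i, k⟩
  have hrow : row v i = 0 := by
    by_contra hne
    obtain ⟨y, hy⟩ := (hf₂.nondegenerate _ hne).2
    exact hy (congrFun (hev y) i)
  exact congrFun hrow k

/-- The tensor product of unitary forms is unitary. -/
theorem isUnitary_form : IsUnitaryForm σ (form f₁ f₂) where
  ne_refl := hf₁.ne_refl
  involutive := hf₁.involutive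
  add_left := form_add_left hf₁ hf₂
  smul_left c u v := by
    simp only [form, Finset.mul_sum]
    refine Finset.sum_congr rfl fun i _ => Finset.sum_congr rfl fun j _ => ?_
    rw [show row (c • u) i = c • row u i from rfl, hf₂.smul_left]
    ring
  herm := form_herm hf₁ hf₂
  nondegenerate v hv := by
    have h : ∃ y, form f₁ f₂ v y ≠ 0 := by
      by_contra hcon
      push Not at hcon
      exact hv (form_eq_zero hf₁ hf₂ fun x y => hcon _)
    obtain ⟨y, hy⟩ := h
    exact ⟨⟨y, fun h => hy (by rw [form_herm hf₁ hf₂, h, map_zero])⟩, y, hy⟩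

/-- An element preserving the form on pure tensors is an isometry. -/
theorem isom_of_ten {g : GL (Idx a b) F}
    (h : ∀ x y x' y', form f₁ f₂ ((g : Matrix (Idx a b) (Idx a b) F) *ᵥ ten x y)
      ((g : Matrix (Idx a b) (Idx a b) F) *ᵥ ten x' y') = f₁ x x' * f₂ y y') :
    g ∈ isom (form f₁ f₂) := by
  have hs := sesqForm_of_unitary (isUnitary_form hf₁ hf₂)
  intro u v
  induction u using ten_induction with
  | hadd u w hu hw => rw [mulVec_add, hs.add_left, hu, hw, hs.add_left]
  | h0 => rw [mulVec_zero, hs.zero_left, hs.zero_left]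
  | h x y =>
    induction v using ten_induction with
    | hadd u w hu hw => rw [mulVec_add, hs.add_right, hu, hw, hs.add_right]
    | h0 => rw [mulVec_zero, hs.zero_right, hs.zero_right]
    | h x' y' => rw [h, form_ten_ten hf₁ hf₂]

/-- Pure tensors of elements of `su` lie in `su`. -/
theorem krG_mem_su {S : GL (Fin a) F} (hS : S ∈ su f₁) {T : GL (Fin b) F} (hT : T ∈ su f₂) :
    krG (S, T) ∈ su (form f₁ f₂) := by
  refine ⟨isom_of_ten hf₁ hf₂ fun x y x' y' => ?_, (krG_mem_tensSL hS.2 hT.2).2⟩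
  rw [krG_val, kron_mulVec_ten, kron_mulVec_ten, form_ten_ten hf₁ hf₂, hS.1, hT.1]

end Form

/-- The stabiliser of the tensor decomposition in the special unitary group. -/
def tensU (f₁ : (Fin a → F) → (Fin a → F) → F) (f₂ : (Fin b → F) → (Fin b → F) → F) :
    Subgroup (GL (Idx a b) F) :=
  kroneckerSubgroup a b F ⊓ su (form f₁ f₂)

theorem krG_mem_tensU (hf₁ : IsUnitaryForm σ f₁) (hf₂ : IsUnitaryForm σ f₂) {S : GL (Fin a) F}
    (hS : S ∈ su f₁) {T : GL (Fin b) F} (hT : T ∈ su f₂) : krG (S, T) ∈ tensU f₁ f₂ :=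
  ⟨⟨S, T, rfl⟩, krG_mem_su hf₁ hf₂ hS hT⟩

/-- The vectors whose rows lie in `H`. -/
def rowsIn (a : ℕ) (H : Submodule F (Fin b → F)) : Submodule F (Idx a b → F) where
  carrier := {v | ∀ i, row v i ∈ H}
  add_mem' {u v} hu hv i := H.add_mem (hu i) (hv i)
  zero_mem' _ := H.zero_mem
  smul_mem' c {v} hv i := H.smul_mem c (hv i)

theorem finrank_rowsIn (H : Submodule F (Fin b → F)) :
    Module.finrank F (rowsIn a H) = a * Module.finrank F H := by
  let e : rowsIn a H ≃ₗ[F] (Fin a → H) :=
    { toFun := fun v i => ⟨row v.1 i, v.2 i⟩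
      map_add' := fun u v => rfl
      map_smul' := fun c v => rfl
      invFun := fun w => ⟨fun p => (w p.1 : Fin b → F) p.2, fun i => (w i).2⟩
      left_inv := fun v => rfl
      right_inv := fun w => rfl }
  rw [e.finrank_eq, Module.finrank_pi_fintype, Finset.sum_const, Finset.card_univ, Fintype.card_fin,
    smul_eq_mul]

theorem ten_mem_rowsIn {H : Submodule F (Fin b → F)} (x : Fin a → F) {y : Fin b → F} (hy : y ∈ H) :
    ten x y ∈ rowsIn a H := fun i => H.smul_mem (x i) hy

end CfsgLib.TensorUnitary
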