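import Cfsg.Agent.Signalizer.Generation

/-!
# A commutative subgroup controlling the conjugates of enough of its elements is the whole group

If every hyperplane of an elementary abelian `p`-subgroup `R` of a commutative subgroup `A ≤ G` contains an
element whose only conjugators back into `A` lie in `A`, then `G` has a normal `p`-complement generated by
centralisers of such elements, and `G = A`.
-/

set_option autoImplicit false

namespace CfsgLib.TensorUnitary

open Subgroup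

theorem le_of_commutative_of_fusion {X : Type*} [Group X] [Finite X] {p : ℕ} [Fact p.Prime]
    {G A R : Subgroup X} (hAG : A ≤ G) (hA : IsMulCommutative A) (hRA : R ≤ A)
    (hR : Cfsg.IsElementaryAbelian p R)
    (hroot : ∀ B ≤ R, B.relIndex R ≤ p → ∃ r ∈ B, ∀ g ∈ G, g * r * g⁻¹ ∈ A → g ∈ A) :
    G ≤ A := by
  classical
  obtain ⟨r₀, hr₀R, hr₀⟩ := hroot R le_rfl (by rw [relIndex_self]; exact (Fact.out (p := p.Prime)).one_lt.le)
  have hRp : IsPGroup p (R.subgroupOf A) := by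
    intro x
    refine ⟨1, Subtype.ext (Subtype.ext ?_)⟩
    rw [pow_one]
    exact hR.2 x.1.1 x.2
  obtain ⟨P, hP⟩ := hRp.exists_le_sylow
  set P' : Subgroup X := (P : Subgroup A).map A.subtype with hP'
  have hP'p : IsPGroup p P' := P.2.map _
  have hP'A : P' ≤ A := map_subtype_le _
  have hRP : R ≤ P' := fun r hr => ⟨⟨r, hRA hr⟩, hP hr, rfl⟩
  have hcomm : ∀ x ∈ A, ∀ y ∈ A, x * y = y * x := fun x hx y hy =>
    congrArg Subtype.val (hA.is_comm.comm ⟨x, hx⟩ ⟨y, hy⟩)
  have hP'max : ∀ Q : Subgroup X, IsPGroup p Q → P' ≤ Q → Q ≤ G → Q = P' := by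
    intro Q hQp hPQ hQG
    by_contra hne
    have hlt0 : P' < Q := lt_of_le_of_ne hPQ (Ne.symm hne)
    have : Finite Q := Subtype.finite
    have hnil := hQp.isNilpotent
    have hlt : P'.subgroupOf Q < normalizer ((P'.subgroupOf Q : Subgroup Q) : Set Q) := by
      refine Group.normalizerCondition_of_isNilpotent (P'.subgroupOf Q) (lt_top_iff_ne_top.mpr fun h => ?_)
      exact hlt0.not_ge (subgroupOf_eq_top.mp h)
    obtain ⟨⟨y, hyQ⟩, hyN, hyP⟩ := SetLike.exists_of_lt hlt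
    have hconj : y * r₀ * y⁻¹ ∈ P' :=
      (mem_normalizer_iff.mp hyN ⟨r₀, hPQ (hRP hr₀R)⟩).mp (hRP hr₀R)
    have hyA : y ∈ A := hr₀ y (hQG hyQ) (hP'A hconj)
    have hle : Q ⊓ A ≤ A := inf_le_right
    have h1 : IsPGroup p ((Q ⊓ A).subgroupOf A) := (hQp.to_le inf_le_left).comap_subtype
    have h2 : (P : Subgroup A) ≤ (Q ⊓ A).subgroupOf A := fun z hz => ⟨hPQ ⟨z, hz, rfl⟩, z.2⟩
    have h3 : (⟨y, hyA⟩ : A) ∈ (P : Subgroup A) := by
      rw [← P.3 h1 h2]; exact ⟨hyQ, hyA⟩
    exact hyP ⟨⟨y, hyA⟩, h3, rfl⟩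
  have hP'G : P' ≤ G := hP'A.trans hAG
  let S : Sylow p G := ⟨P'.subgroupOf G, hP'p.comap_subtype, by
    intro Q hQ hle
    have h1 : P' ≤ Q.map G.subtype := by
      rw [← map_subgroupOf_eq_of_le hP'G]; exact map_mono hle
    have h2 := hP'max _ (hQ.map _) h1 (map_subtype_le _)
    show Q = P'.subgroupOf G
    rw [← h2, subgroupOf, comap_map_eq_self_of_injective G.subtype_injective]⟩
  have hN : normalizer ((S : Subgroup G) : Set G) ≤ centralizer ((S : Subgroup G) : Set G) := by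
    intro y hy
    have hr : (⟨r₀, hP'G (hRP hr₀R)⟩ : G) ∈ (S : Subgroup G) := hRP hr₀R
    have hconj : (y : X) * r₀ * (y : X)⁻¹ ∈ P' := (mem_normalizer_iff.mp hy _).mp hr
    have hyA : (y : X) ∈ A := hr₀ y y.2 (hP'A hconj)
    refine mem_centralizer_iff.mpr fun z hz => Subtype.ext ?_
    exact hcomm z (hP'A hz) y hyA
  set K := (MonoidHom.transferSylow S hN).ker with hK
  have hKp : ¬ p ∣ Nat.card (K.map G.subtype) := by
    rw [Nat.card_congr (K.equivMapOfInjective _ G.subtype_injective).symm.toEquiv]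
    exact MonoidHom.not_dvd_card_ker_transferSylow S hN
  have hRN : R ≤ normalizer ((K.map G.subtype : Subgroup X) : Set X) := by
    intro r hr
    have hrG : r ∈ G := hAG (hRA hr)
    refine mem_normalizer_iff.mpr fun z => ⟨?_, ?_⟩
    · rintro ⟨k, hk, rfl⟩
      exact ⟨_, (MonoidHom.normal_ker _).conj_mem k hk ⟨r, hrG⟩, rfl⟩
    · rintro ⟨k, hk, hkz⟩
      refine ⟨_, (MonoidHom.normal_ker _).conj_mem k hk ⟨r, hrG⟩⁻¹, ?_⟩
      simp only [inv_inv, coe_subtype, coe_mul, coe_inv] at hkz ⊢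
      rw [hkz]; group
  have hKA : K.map G.subtype ≤ A := by
    refine CfsgLib.Signalizer.le_of_forall_hyperplane hR hKp hRN fun B hB hidx => ?_
    obtain ⟨r, hrB, hr⟩ := hroot B hB hidx
    rintro k ⟨⟨k', hk', rfl⟩, hkC⟩
    refine hr _ k'.2 ?_
    rw [← mem_centralizer_iff.mp hkC r hrB, mul_inv_cancel_right]
    exact hRA (hB hrB)
  intro g hg
  have hcompl := MonoidHom.ker_transferSylow_isComplement' S hN
  obtain ⟨⟨k, s⟩, hks⟩ := hcompl.surjective ⟨g, hg⟩
  have : g = ((k : G) : X) * ((s : G) : X) := (congrArg Subtype.val hks).symm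
  rw [this]
  exact A.mul_mem (hKA ⟨k, k.2, rfl⟩) (hP'A s.2)

end CfsgLib.TensorUnitary
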