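import Cfsg.Agent.TensorUnitary.SmallBlock
import Cfsg.Agent.TensorUnitary.GroupLemma

/-!
# A slice fixing element for a three-dimensional by four-dimensional decomposition
-/

set_option autoImplicit false
set_option linter.unusedSectionVars false

namespace CfsgLib.TensorUnitary

open Matrix Cfsg.Geo CfsgLib.MaxSub CfsgLib.TensorMax
open scoped Kronecker

variable {F : Type*} [Field F] [Finite F] {a b : ℕ} {σ : F ≃+* F}
  {f₁ : (Fin a → F) → (Fin a → F) → F} {f₂ : (Fin b → F) → (Fin b → F) → F}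

/-- A linear map of a three-dimensional space with a quadratic equation has a large eigenspace. -/
theorem exists_big_eigenspace (ha : a = 3) (S : (Fin a → F) →ₗ[F] (Fin a → F)) {α β : F} (hα : α ≠ 0)
    (h : ∀ x, α • S (S x) + β • S x = x) :
    ∃ r : F, ∃ E : Submodule F (Fin a → F), 2 ≤ Module.finrank F E ∧ ∀ x ∈ E, S x = r • x := by
  obtain ⟨r, hr⟩ : ∃ r : F, α * r ^ 2 + β * r = 1 := by
    by_cases heig : ∃ x : Fin a → F, x ≠ 0 ∧ ∃ k : F, S x = k • x
    · obtain ⟨x, hx, k, hk⟩ := heig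
      have h1 := h x
      rw [hk, map_smul, hk, smul_smul, smul_smul, smul_smul, ← add_smul] at h1
      refine ⟨k, sub_eq_zero.mp ((smul_eq_zero.mp (show (α * k ^ 2 + β * k - 1) • x = 0 from ?_)).resolve_right hx)⟩
      rw [sub_smul, one_smul, sub_eq_zero]
      linear_combination (norm := module) h1
    push Not at heig
    have ha0 : 0 < a := by omega
    set x : Fin a → F := Pi.single ⟨0, ha0⟩ 1 with hxdef
    have hx : x ≠ 0 := by simp [hxdef]
    set U := Submodule.span F ({x, S x} : Set (Fin a → F)) with hU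
    have hU2 : Module.finrank F U = 2 := by
      have hli : LinearIndependent F ![x, S x] := by
        rw [LinearIndependent.pair_iff' hx]
        exact fun c hc => heig x hx c hc.symm
      have h2 := finrank_span_eq_card hli
      rwa [Matrix.range_cons, Matrix.range_cons, Matrix.range_empty, Set.union_empty, Set.singleton_union,
        Fintype.card_fin] at h2
    have hSU : ∀ p ∈ U, S p ∈ U := by
      intro p hp
      obtain ⟨c, d, rfl⟩ := Submodule.mem_span_pair.mp hp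
      refine Submodule.mem_span_pair.mpr ⟨d / α, c - d * β / α, ?_⟩
      have h1 := h x
      rw [map_add, map_smul, map_smul]
      have e : S (S x) = (1 / α) • x - (β / α) • S x := by
        conv_rhs => arg 1; arg 2; rw [← h1]
        rw [smul_add, smul_smul, smul_smul, one_div_mul_cancel hα, one_smul, one_div_mul_eq_div, add_sub_cancel_right]
      rw [e]
      match_scalars <;> ring
    obtain ⟨y, -, hy⟩ := SetLike.exists_of_lt (lt_top_iff_ne_top.mpr (fun ht : U = ⊤ => by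
      rw [ht, finrank_top, Module.finrank_fin_fun] at hU2; omega))
    have htop : U ⊔ Submodule.span F {y} = ⊤ := by
      refine Submodule.eq_top_of_finrank_eq ?_
      have hlt : U < U ⊔ Submodule.span F {y} := lt_of_le_of_ne le_sup_left fun he =>
        hy (he ▸ Submodule.mem_sup_right (Submodule.mem_span_singleton_self y))
      have h1 := Submodule.finrank_lt_finrank_of_lt hlt
      have h2 := Submodule.finrank_le (U ⊔ Submodule.span F {y})
      rw [Module.finrank_fin_fun] at h2 ⊢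
      omega
    obtain ⟨u, hu, z, hz, huz⟩ := Submodule.mem_sup.mp (htop ▸ Submodule.mem_top : S y ∈ U ⊔ Submodule.span F {y})
    obtain ⟨k, rfl⟩ := Submodule.mem_span_singleton.mp hz
    refine ⟨k, ?_⟩
    by_contra hne
    refine hy ((U.smul_mem_iff (sub_ne_zero.mpr hne)).mp ?_)
    have h1 := h y
    rw [← huz, map_add, map_smul, ← huz] at h1
    rw [show (α * k ^ 2 + β * k - 1) • y = -(α • S u) - (α * k + β) • u by
      rw [sub_smul, one_smul]
      conv_lhs => arg 2; rw [← h1]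
      module]
    exact U.sub_mem (U.neg_mem (U.smul_mem _ (hSU u hu))) (U.smul_mem _ hu)
  set r' := -β / α - r with hr'
  set P := S - r • LinearMap.id with hP
  set Q := S - r' • LinearMap.id with hQ
  have hPQ : LinearMap.range Q ≤ LinearMap.ker P := by
    rintro _ ⟨x, rfl⟩
    rw [LinearMap.mem_ker]
    simp only [hP, hQ, LinearMap.sub_apply, LinearMap.smul_apply, LinearMap.id_apply, map_sub, map_smul]
    refine (smul_eq_zero.mp (show α • _ = (0 : Fin a → F) from ?_)).resolve_left hα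
    have e1 : α * (r + r') = -β := by rw [hr']; field_simp; ring
    have e2 : α * (r * r') = -1 := by
      rw [hr']; field_simp; linear_combination -hr
    linear_combination (norm := module) h x - e1 • S x + e2 • x
  have h1 := Q.finrank_range_add_finrank_ker
  have h2 := Submodule.finrank_mono hPQ
  rw [Module.finrank_fin_fun] at h1
  by_cases hbig : 2 ≤ Module.finrank F (LinearMap.ker P)
  · exact ⟨r, _, hbig, fun x hx => sub_eq_zero.mp hx⟩
  · exact ⟨r', _, by show 2 ≤ Module.finrank F (LinearMap.ker Q); omega, fun x hx => sub_eq_zero.mp hx⟩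

variable (hf₁ : IsUnitaryForm σ f₁) (hf₂ : IsUnitaryForm σ f₂)
  {M : Subgroup (GL (Idx a b) F)} (hLM : tensU f₁ f₂ ≤ M) (hM : M ≤ su (form f₁ f₂))
include hf₁ hf₂ hLM hM

/-- An element fixing a hyperplane of an isotropic slice. -/
theorem hasBlock_of_plane (ha : a = 3) (hb : 4 ≤ b) (hab : a < b) {m : GL (Idx a b) F} (hmM : m ∈ M)
    (hmL : m ∉ tensU f₁ f₂) {c : Fin b → F} (hc0 : c ≠ 0) (hcc : f₂ c c = 0)
    {E : Submodule F (Fin a → F)} (hE : 2 ≤ Module.finrank F E)
    (hfix : ∀ x ∈ E, (m : Matrix (Idx a b) (Idx a b) F) *ᵥ ten x c = ten x c) : HasBlock M f₁ f₂ := by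
  classical
  have hs₁ := sesqForm_of_unitary hf₁
  have hs₂ := sesqForm_of_unitary hf₂
  have hff := isUnitary_form hf₁ hf₂
  have hsf := sesqForm_of_unitary hff
  by_cases hEtop : E = ⊤
  · exact hasBlock_of_map hf₁ hf₂ hLM hM (by omega) hmM hmL hc0 hcc hc0
      fun x => ⟨x, hfix x (hEtop ▸ Submodule.mem_top)⟩
  -- the orthogonal of the plane
  obtain ⟨z, hz0, hzE⟩ : ∃ z : Fin a → F, z ≠ 0 ∧ ∀ x ∈ E, f₁ x z = 0 := by
    obtain ⟨p, -, hp⟩ := SetLike.exists_of_lt (lt_top_iff_ne_top.mpr hEtop)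
    obtain ⟨φ, hφ, hφp⟩ := exists_dot_of_notMem E hp
    obtain ⟨z, hz⟩ := hs₁.leftVec_surjective φ
    refine ⟨z, fun h => ?_, fun x hx => ?_⟩
    · have : φ = 0 := by
        rw [← hz, h]; exact funext fun j => hs₁.zero_right _
      rw [this] at hφp
      simp at hφp
    · rw [← hs₁.dot_leftVec, hz]
      exact hφ x hx
  have hEz : ∀ x, f₁ x z = 0 → x ∈ E := by
    intro x hx
    set K := dotsKer ![leftVec f₁ z]
    have hmem : ∀ p, p ∈ K ↔ f₁ p z = 0 := fun p => by rw [mem_dotsKer]; simp [hs₁.dot_leftVec]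
    have hle : E ≤ K := fun p hp => (hmem p).mpr (hzE p hp)
    have hK : Module.finrank F K ≤ 2 := by
      by_contra hcon
      obtain ⟨w, hw⟩ := hs₁.exists_left_ne_zero hz0
      have htop : K = ⊤ := Submodule.eq_top_of_finrank_eq (le_antisymm (Submodule.finrank_le _) (by
        rw [Module.finrank_fin_fun]; omega))
      exact hw ((hmem w).mp (htop ▸ Submodule.mem_top))
    rw [Submodule.eq_of_le_of_finrank_le hle (hK.trans hE)]
    exact (hmem x).mpr hx
  by_cases hzz : f₁ z z = 0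
  · exact hasBlock_of_iso_hyperplane hf₁ hf₂ hLM hM (by omega) hab hmM hmL hc0 hcc hz0 hzz one_ne_zero
      fun x hx => by rw [hfix x (hEz x hx), one_smul]
  set v := (m : Matrix (Idx a b) (Idx a b) F) *ᵥ ten z c with hv
  -- the contraction of the image with `c`
  have horth : ∀ p, f₁ p z = 0 → ∀ x : Fin a → F,
      f₁ (ev f₂ c ((m : Matrix (Idx a b) (Idx a b) F) *ᵥ ten x c)) p = 0 := fun p hp x => by
    rw [← form_ten_right hf₁ hf₂, ← hfix p (hEz p hp), (hM hmM).1, form_ten_ten hf₁ hf₂, hcc, mul_zero]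
  obtain ⟨α, hα⟩ := exists_smul_of_orth hf₁ (c := z) (z := ev f₂ c v) fun p hp => horth p hp z
  by_cases hα0 : α = 0
  · refine hasBlock_of_orth hf₁ hf₂ hLM hM (by omega) hab hmM hmL hc0 hcc hc0 hcc fun x => ?_
    set k := f₁ x z / f₁ z z with hk
    have hxe : f₁ (x - k • z) z = 0 := by
      rw [hs₁.sub_left, hs₁.smul_left, hk, div_mul_cancel₀ _ hzz, sub_self]
    rw [show x = (x - k • z) + k • z by rw [sub_add_cancel], ten_add_left, ten_smul_left, mulVec_add,
      mulVec_smul, hfix _ (hEz _ hxe), ← hv, ev_add hf₂, ev_smul hf₂, ev_ten hf₂, hcc, zero_smul, ← hα, hα0,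
      zero_smul, smul_zero, add_zero]
  -- the product of two root elements
  obtain ⟨t, ht0, ht⟩ := exists_traceZero hf₂.ne_refl hf₂.involutive
  set r := uroot a f₂ c t with hr
  have hrM : r ∈ M := hLM (uroot_mem hf₁ hf₂ hcc ht)
  set m2 := r⁻¹ * (m * r * m⁻¹) with hm2
  have hm2M : m2 ∈ M := M.mul_mem (M.inv_mem hrM) (M.mul_mem (M.mul_mem hmM hrM) (M.inv_mem hmM))
  by_cases hm2L : m2 ∈ tensU f₁ f₂
  · refine hasBlock_of_fusion hf₁ hf₂ hLM hM (by omega) hab hmM hmL hc0 hcc ht0 ?_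
    have := (tensU f₁ f₂).mul_mem (uroot_mem hf₁ hf₂ hcc ht) hm2L
    rwa [hm2, ← hr, mul_inv_cancel_left] at this
  have hm2fix : ∀ p, form f₁ f₂ p (ten z c) = 0 → form f₁ f₂ p v = 0 →
      (m2 : Matrix (Idx a b) (Idx a b) F) *ᵥ p = p := by
    intro p hp1 hp2
    set e := ev f₂ c p with he
    have hez : f₁ e z = 0 := by rw [he, ← form_ten_right hf₁ hf₂, hp1]
    set p' := ((m⁻¹ : GL (Idx a b) F) : Matrix (Idx a b) (Idx a b) F) *ᵥ p with hp'
    have he' : ev f₂ c p' = e := eq_of_forall hf₁ fun x => by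
      rw [hp', form_ten_right' hf₁ hf₂ m (hM hmM).1, he, ← form_ten_right hf₁ hf₂]
      set k := f₁ x z / f₁ z z with hk
      have hxe : f₁ (x - k • z) z = 0 := by
        rw [hs₁.sub_left, hs₁.smul_left, hk, div_mul_cancel₀ _ hzz, sub_self]
      rw [show x = (x - k • z) + k • z by rw [sub_add_cancel], ten_add_left, ten_smul_left, mulVec_add,
        mulVec_smul, hfix _ (hEz _ hxe), ← hv, hsf.add_right, hsf.add_right, hsf.smul_right, hsf.smul_right,
        hp1, hp2]
    have hx : ((m * r * m⁻¹ : GL (Idx a b) F) : Matrix (Idx a b) (Idx a b) F) *ᵥ p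
        = (r : Matrix (Idx a b) (Idx a b) F) *ᵥ p := by
      rw [conj_mulVec, ← hp', hr, uroot_mulVec hf₂ hcc, uroot_mulVec hf₂ hcc, he', ← he, mulVec_add,
        mulVec_smul, hfix _ (hEz _ hez), hp', mulVec_inv_cancel']
    rw [hm2, Units.val_mul, ← mulVec_mulVec, hx, mulVec_inv_cancel]
  -- an isotropic vector orthogonal to `c`
  obtain ⟨c', hc', hc'c, hcc'⟩ := exists_partner hf₂ hc0 hcc
  have hdim := finrank_dotsKer ![leftVec f₂ c, leftVec f₂ c']
  rw [Fintype.card_fin] at hdim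
  obtain ⟨p, hp, hp0, hpp⟩ := exists_iso_mem hf₂ (dotsKer ![leftVec f₂ c, leftVec f₂ c']) (by omega)
  rw [mem_dotsKer, Fin.forall_fin_two] at hp
  simp only [Matrix.cons_val_zero, Matrix.cons_val_one, hs₂.dot_leftVec] at hp
  obtain ⟨hpc, hpc'⟩ := hp
  set e := ev f₂ p v with he
  -- choose the coefficient
  set A := α * σ α * f₁ z z with hA
  have hA0 : A ≠ 0 := mul_ne_zero (mul_ne_zero hα0 ((map_ne_zero_iff σ σ.injective).mpr hα0)) hzz
  have hσA : σ A = A := by rw [hA, map_mul, map_mul, hf₁.involutive, herm_self hf₁]; ring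
  set B := α * f₁ z e with hB
  set C := f₁ e e with hC
  obtain ⟨γ', hγ'⟩ := norm_surjective hf₁.ne_refl hf₁.involutive (a := (B * σ B - A * C) / A ^ 2)
    (by simp only [map_div₀, map_sub, map_mul, map_pow, hf₁.involutive, hσA, hC, herm_self hf₁]; ring)
  set γ := γ' - σ B / A with hγ
  have hQ : γ * σ γ * A + γ * B + σ (γ * B) + C = 0 := by
    rw [hγ]
    simp only [map_sub, map_div₀, map_mul, hf₁.involutive, hσA]
    rw [eq_div_iff (pow_ne_zero 2 hA0)] at hγ'
    field_simp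
    linear_combination hγ'
  set c'' := σ γ • c + p with hc''
  have hc''0 : c'' ≠ 0 := fun h => by
    have h1 := congrArg (fun x => f₂ x c') h
    simp only [hc'', hs₂.add_left, hs₂.smul_left, hcc', hpc', hs₂.zero_left, mul_one, add_zero] at h1
    rw [hc'', h1, zero_smul, zero_add] at h
    exact hp0 h
  have hc''c : f₂ c'' c = 0 := by
    rw [hc'', hs₂.add_left, hs₂.smul_left, hcc, hpc, mul_zero, add_zero]
  have hc''iso : f₂ c'' c'' = 0 := by
    rw [hc'', hs₂.add_left, hs₂.add_right, hs₂.add_right, hs₂.smul_left, hs₂.smul_left, hs₂.smul_right,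
      hs₂.smul_right, hcc, hpc, hpp, unitary_orth_symm hf₂ hpc]
    ring
  have hev : ev f₂ c'' v = γ • (α • z) + e := by
    rw [hc'', ev_add_right hf₂, ev_smul_right hf₂, hf₂.involutive, ← hα, he]
  have hiso : f₁ (ev f₂ c'' v) (ev f₂ c'' v) = 0 := by
    rw [hev]
    simp only [hs₁.add_left, hs₁.add_right, hs₁.smul_left, hs₁.smul_right]
    rw [hB, map_mul, map_mul, hA, hC, ← hf₁.herm e z] at hQ
    linear_combination hQ
  obtain ⟨z'', hz''0, hz'', hz''v⟩ : ∃ z'' : Fin a → F, z'' ≠ 0 ∧ f₁ z'' z'' = 0 ∧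
      ∀ x, f₁ x z'' = 0 → f₁ x (ev f₂ c'' v) = 0 := by
    by_cases h0 : ev f₂ c'' v = 0
    · obtain ⟨z'', -, h1, h2⟩ := exists_iso_mem hf₁ ⊤ (by rw [finrank_top, Module.finrank_fin_fun]; omega)
      exact ⟨z'', h1, h2, fun x _ => by rw [h0, hs₁.zero_right]⟩
    · exact ⟨_, h0, hiso, fun x hx => hx⟩
  refine hasBlock_of_iso_hyperplane hf₁ hf₂ hLM hM (by omega) hab hm2M hm2L hc''0 hc''iso hz''0 hz'' one_ne_zero
    fun x hx => ?_
  rw [one_smul]
  refine hm2fix _ (by rw [form_ten_ten hf₁ hf₂, hc''c, mul_zero]) ?_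
  rw [hff.herm, form_ten_right hf₁ hf₂, hf₁.herm, hz''v x hx, map_zero, map_zero]

omit hLM hM in
/-- Tensor elements fixing a plane on the left and a maximal totally isotropic plane on the right. -/
theorem commute_of_shape (ha : a = 3) {W₀ : Submodule F (Fin a → F)} (hW : 2 ≤ Module.finrank F W₀)
    {H : Submodule F (Fin b → F)} (hH : H ≠ ⊥) (hrad : ∀ z, (∀ h ∈ H, f₂ z h = 0) → z ∈ H)
    {l₁ l₂ : GL (Idx a b) F} (h₁ : l₁ ∈ su (form f₁ f₂)) (h₂ : l₂ ∈ su (form f₁ f₂))
    {S S' : Matrix (Fin a) (Fin a) F} {T T' : Matrix (Fin b) (Fin b) F}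
    (hl₁ : (l₁ : Matrix (Idx a b) (Idx a b) F) = S ⊗ₖ T) (hl₂ : (l₂ : Matrix (Idx a b) (Idx a b) F) = S' ⊗ₖ T')
    (hS : ∀ x ∈ W₀, S *ᵥ x = x) (hS' : ∀ x ∈ W₀, S' *ᵥ x = x)
    (hT : ∀ y ∈ H, T *ᵥ y = y) (hT' : ∀ y ∈ H, T' *ᵥ y = y) : l₁ * l₂ = l₂ * l₁ := by
  have hs₁ := sesqForm_of_unitary hf₁
  have hs₂ := sesqForm_of_unitary hf₂
  obtain ⟨x₀, hx₀W, hx₀⟩ := exists_noniso hf₁ W₀ (by rw [Fintype.card_fin]; omega)
  obtain ⟨h₀, hh₀, hh₀0⟩ := Submodule.exists_mem_ne_zero_of_ne_bot hH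
  have hx₀0 : x₀ ≠ 0 := fun h => hx₀ (by rw [h, hs₁.zero_left])
  have hone : ∀ l ∈ su (form f₁ f₂), ∀ (S : Matrix (Fin a) (Fin a) F) (T : Matrix (Fin b) (Fin b) F),
      (l : Matrix (Idx a b) (Idx a b) F) = S ⊗ₖ T → (∀ x ∈ W₀, S *ᵥ x = x) → (∀ y ∈ H, T *ᵥ y = y) →
      (∀ x x', f₁ (S *ᵥ x) (S *ᵥ x') = f₁ x x') ∧ ∀ y y', f₂ (T *ᵥ y) (T *ᵥ y') = f₂ y y' := by
    intro l hl S T hlST hS hT
    have hten : ∀ x x' y y', f₁ (S *ᵥ x) (S *ᵥ x') * f₂ (T *ᵥ y) (T *ᵥ y') = f₁ x x' * f₂ y y' := by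
      intro x x' y y'
      have := hl.1 (ten x y) (ten x' y')
      rwa [hlST, kron_mulVec_ten, kron_mulVec_ten, form_ten_ten hf₁ hf₂, form_ten_ten hf₁ hf₂] at this
    have hT2 : ∀ y y', f₂ (T *ᵥ y) (T *ᵥ y') = f₂ y y' := fun y y' => by
      have := hten x₀ x₀ y y'
      rw [hS x₀ hx₀W] at this
      exact mul_left_cancel₀ hx₀ this
    refine ⟨fun x x' => ?_, hT2⟩
    obtain ⟨y, hy⟩ := (hf₂.nondegenerate h₀ hh₀0).2
    have := hten x x' h₀ y
    rw [hT2] at this
    exact mul_right_cancel₀ hy this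
  obtain ⟨hSi, hTi⟩ := hone l₁ h₁ S T hl₁ hS hT
  obtain ⟨hSi', hTi'⟩ := hone l₂ h₂ S' T' hl₂ hS' hT'
  have hTT : T * T' = T' * T := by
    have key : ∀ T : Matrix (Fin b) (Fin b) F, (∀ y ∈ H, T *ᵥ y = y) →
        (∀ y y', f₂ (T *ᵥ y) (T *ᵥ y') = f₂ y y') → ∀ y, T *ᵥ y - y ∈ H := fun T hT hTi y =>
      hrad _ fun h hh => by
        rw [hs₂.sub_left]
        conv_lhs => arg 1; rw [← hT h hh]
        rw [hTi, sub_self]
    refine Matrix.ext_iff_mulVec.mpr fun y => ?_
    have e : ∀ T T' : Matrix (Fin b) (Fin b) F, (∀ y ∈ H, T *ᵥ y = y) → T' *ᵥ y - y ∈ H →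
        T *ᵥ (T' *ᵥ y) = T *ᵥ y + (T' *ᵥ y - y) := fun T T' hT h => by
      rw [← hT _ h, ← mulVec_add, add_sub_cancel]
    rw [← mulVec_mulVec, ← mulVec_mulVec, e T T' hT (key T' hT' hTi' y), e T' T hT' (key T hT hTi y)]
    abel
  have hSS : S * S' = S' * S := by
    by_cases hWtop : W₀ = ⊤
    · have e : ∀ S : Matrix (Fin a) (Fin a) F, (∀ x ∈ W₀, S *ᵥ x = x) → S = 1 := fun S hS =>
        Matrix.ext_iff_mulVec.mpr fun x => by rw [one_mulVec, hS x (hWtop ▸ Submodule.mem_top)]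
      rw [e S hS, e S' hS']
    obtain ⟨p, -, hp⟩ := SetLike.exists_of_lt (lt_top_iff_ne_top.mpr hWtop)
    obtain ⟨φ, hφ, hφp⟩ := exists_dot_of_notMem W₀ hp
    obtain ⟨z, hz⟩ := hs₁.leftVec_surjective φ
    have hWz : ∀ x ∈ W₀, f₁ x z = 0 := fun x hx => by rw [← hs₁.dot_leftVec, hz]; exact hφ x hx
    have hpz : f₁ p z = 1 := by rw [← hs₁.dot_leftVec, hz]; exact hφp
    have hz0 : z ≠ 0 := fun h => by rw [h, hs₁.zero_right] at hpz; exact zero_ne_one hpz
    have hspan : ∀ x, x - f₁ x z • p ∈ W₀ := by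
      intro x
      set K := dotsKer ![leftVec f₁ z]
      have hmem : ∀ q, q ∈ K ↔ f₁ q z = 0 := fun q => by rw [mem_dotsKer]; simp [hs₁.dot_leftVec]
      have hle : W₀ ≤ K := fun q hq => (hmem q).mpr (hWz q hq)
      have hK : Module.finrank F K ≤ 2 := by
        by_contra hcon
        have htop : K = ⊤ := Submodule.eq_top_of_finrank_eq (le_antisymm (Submodule.finrank_le _) (by
          rw [Module.finrank_fin_fun]; omega))
        exact one_ne_zero (hpz.symm.trans ((hmem p).mp (htop ▸ Submodule.mem_top)))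
      rw [Submodule.eq_of_le_of_finrank_le hle (hK.trans hW), hmem, hs₁.sub_left, hs₁.smul_left, hpz, mul_one,
        sub_self]
    have hform : ∀ S : Matrix (Fin a) (Fin a) F, (∀ x ∈ W₀, S *ᵥ x = x) →
        (∀ x x', f₁ (S *ᵥ x) (S *ᵥ x') = f₁ x x') → ∃ k : F, ∀ x, S *ᵥ x = x + (k * f₁ x z) • z := by
      intro S hS hSi
      obtain ⟨k, hk⟩ := exists_smul_of_orth hf₁ (c := z) (z := S *ᵥ p - p) fun q hq => by
        have hqW : q ∈ W₀ := by
          have := hspan q
          rwa [hq, zero_smul, sub_zero] at this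
        rw [hs₁.sub_left]
        conv_lhs => arg 1; rw [← hS q hqW]
        rw [hSi, sub_self]
      refine ⟨k, fun x => ?_⟩
      have h1 := hS _ (hspan x)
      rw [mulVec_sub, mulVec_smul, sub_eq_iff_eq_add] at h1
      rw [h1]
      linear_combination (norm := module) -(f₁ x z) • hk
    obtain ⟨k, hk⟩ := hform S hS hSi
    obtain ⟨k', hk'⟩ := hform S' hS' hSi'
    refine Matrix.ext_iff_mulVec.mpr fun x => ?_
    simp only [← mulVec_mulVec, hk, hk', hs₁.add_left, hs₁.smul_left]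
    module
  refine Units.ext ?_
  rw [Units.val_mul, Units.val_mul, hl₁, hl₂, ← mul_kronecker_mul, ← mul_kronecker_mul, hSS, hTT]

/-- A slice fixing element for a three by four decomposition. -/
theorem hasBlock_three (ha : a = 3) (hb : b = 4)
    {g : GL (Idx a b) F} (hgM : g ∈ M) (hgL : g ∉ tensU f₁ f₂) : HasBlock M f₁ f₂ := by
  classical
  by_contra hno
  have hab : a < b := by omega
  set L := tensU f₁ f₂ with hL
  have hs₁ := sesqForm_of_unitary hf₁
  have hs₂ := sesqForm_of_unitary hf₂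
  set p := ringChar F
  have : Fact p.Prime := ⟨CharP.char_is_prime F p⟩
  have no : ∀ c : Fin b → F, c ≠ 0 → f₂ c c = 0 → ∀ l : F, l ≠ 0 → ∀ y ∈ M,
      y * uroot a f₂ c l * y⁻¹ ∈ L → y ∈ L := fun c hc hcc l hl0 y hy hyL => by
    by_contra h
    exact hno (hasBlock_of_fusion hf₁ hf₂ hLM hM (by omega) hab hy h hc hcc hl0 hyL)
  obtain ⟨t, ht0, ht⟩ := exists_traceZero hf₂.ne_refl hf₂.involutive
  obtain ⟨c, -, hc0, hcc⟩ := exists_iso_mem hf₂ ⊤ (by rw [finrank_top, Module.finrank_fin_fun]; omega)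
  obtain ⟨c', hc', hc'c, hcc'⟩ := exists_partner hf₂ hc0 hcc
  obtain ⟨d, hd, hd0, hdd⟩ := exists_iso_mem hf₂ (dotsKer ![leftVec f₂ c, leftVec f₂ c'])
    (by have := finrank_dotsKer ![leftVec f₂ c, leftVec f₂ c']; rw [Fintype.card_fin] at this; omega)
  rw [mem_dotsKer, Fin.forall_fin_two] at hd
  simp only [Matrix.cons_val_zero, Matrix.cons_val_one, hs₂.dot_leftVec] at hd
  obtain ⟨hdc, hdc'⟩ := hd
  have hcd : f₂ c d = 0 := unitary_orth_symm hf₂ hdc
  have hind : ∀ k : F, k • c ≠ d := fun k hk => hd0 (by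
    rw [← hk, hs₂.smul_left, hcc', mul_one] at hdc'
    rw [← hk, hdc', zero_smul])
  set H := dotsKer ![leftVec f₂ c, leftVec f₂ d] with hH
  have hHmem : ∀ y, y ∈ H ↔ f₂ y c = 0 ∧ f₂ y d = 0 := fun y => by
    rw [hH, mem_dotsKer, Fin.forall_fin_two]
    simp [hs₂.dot_leftVec]
  have hkey : ∀ z, (∀ h ∈ H, f₂ z h = 0) → z ∈ H := fun z hz =>
    (hHmem z).mpr ⟨hz c ((hHmem c).mpr ⟨hcc, hcd⟩), hz d ((hHmem d).mpr ⟨hdc, hdd⟩)⟩
  have hH2 : Module.finrank F H = 2 := by
    have h1 := finrank_dotsKer ![leftVec f₂ c, leftVec f₂ d]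
    rw [Fintype.card_fin] at h1
    refine le_antisymm ?_ (by rw [hH]; omega)
    obtain ⟨x, hxc, hxd⟩ := hs₂.exists_orth_not_orth hind
    let Φ : (Fin b → F) →ₗ[F] (Fin 2 → F) :=
      { toFun := fun y => ![f₂ y c, f₂ y d]
        map_add' := fun y z => by ext i; fin_cases i <;> simp [hs₂.add_left]
        map_smul' := fun k y => by ext i; fin_cases i <;> simp [hs₂.smul_left] }
    have hΦ : LinearMap.range Φ = ⊤ := by
      refine LinearMap.range_eq_top.mpr fun w => ⟨w 0 • (c' - f₂ c' d • x) + w 1 • x, ?_⟩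
      show ![_, _] = w
      ext i
      fin_cases i <;> simp [hs₂.add_left, hs₂.smul_left, hs₂.sub_left, hc'c, hxc, hxd]
    have h2 := Φ.finrank_range_add_finrank_ker
    rw [hΦ, finrank_top, Module.finrank_fin_fun, Module.finrank_fin_fun] at h2
    have h3 : H ≤ LinearMap.ker Φ := fun y hy => by
      obtain ⟨e1, e2⟩ := (hHmem y).mp hy
      show ![f₂ y c, f₂ y d] = 0
      ext i; fin_cases i <;> simp [e1, e2]
    have h4 := Submodule.finrank_mono h3
    omega
  have hHiso : ∀ y ∈ H, f₂ y y = 0 := by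
    intro y hy
    have hle : Submodule.span F ({c, d} : Set (Fin b → F)) ≤ H := Submodule.span_le.mpr
      (Set.insert_subset_iff.mpr ⟨(hHmem c).mpr ⟨hcc, hcd⟩, Set.singleton_subset_iff.mpr ((hHmem d).mpr ⟨hdc, hdd⟩)⟩)
    have hli : LinearIndependent F ![c, d] := by rw [LinearIndependent.pair_iff' hc0]; exact hind
    have h2 := finrank_span_eq_card hli
    rw [Matrix.range_cons, Matrix.range_cons, Matrix.range_empty, Set.union_empty, Set.singleton_union,
      Fintype.card_fin] at h2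
    rw [← Submodule.eq_of_le_of_finrank_le hle (by omega)] at hy
    obtain ⟨k, l, rfl⟩ := Submodule.mem_span_pair.mp hy
    simp [hs₂.add_left, hs₂.add_right, hs₂.smul_left, hs₂.smul_right, hcc, hdd, hcd, hdc]
  have hHbot : H ≠ ⊥ := fun h => by rw [h, finrank_bot] at hH2; omega
  -- an element fixing a large subspace
  set r := uroot a f₂ c t with hr
  have hrL : r ∈ L := uroot_mem hf₁ hf₂ hcc ht
  set m := g * r * g⁻¹ * r⁻¹ with hm
  have hmM : m ∈ M := M.mul_mem (M.mul_mem (M.mul_mem hgM (hLM hrL)) (M.inv_mem hgM)) (M.inv_mem (hLM hrL))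
  have hmL : m ∉ L := fun h => hgL (no c hc0 hcc t ht0 g hgM (by
    have := L.mul_mem h hrL
    rwa [hm, inv_mul_cancel_right] at this))
  set E := (evL hf₂ c).comp (Matrix.mulVecLin ((g⁻¹ : GL (Idx a b) F) : Matrix (Idx a b) (Idx a b) F))
  set N := rowsIn a H ⊓ LinearMap.ker E with hN
  have hNdim : 3 ≤ Module.finrank F N := by
    have h1 := Submodule.finrank_sup_add_finrank_inf_eq (rowsIn a H) (LinearMap.ker E)
    have h2 := E.finrank_range_add_finrank_ker
    have h3 := Submodule.finrank_le (LinearMap.range E)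
    have h4 := Submodule.finrank_le (rowsIn a H ⊔ LinearMap.ker E)
    rw [finrank_rowsIn, hH2] at h1
    rw [Module.finrank_fin_fun] at h3
    have h5 : Module.finrank F (Idx a b → F) = Fintype.card (Idx a b) := Module.finrank_fintype_fun_eq_card F
    rw [h5] at h2 h4
    rw [hN]
    omega
  have hmfix : ∀ v ∈ N, (m : Matrix (Idx a b) (Idx a b) F) *ᵥ v = v := by
    rintro v ⟨hv1, hv2⟩
    have e1 : ev f₂ c v = 0 := funext fun i => ((hHmem _).mp (hv1 i)).1
    have e2 : ev f₂ c (((g⁻¹ : GL (Idx a b) F) : Matrix (Idx a b) (Idx a b) F) *ᵥ v) = 0 := hv2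
    rw [hm, Units.val_mul, Units.val_mul, Units.val_mul, ← mulVec_mulVec, ← mulVec_mulVec, ← mulVec_mulVec,
      hr, uroot_inv hf₂ hcc, uroot_fix hf₂ hcc _ e1, uroot_fix hf₂ hcc _ e2, mulVec_mulVec, Units.mul_inv,
      one_mulVec]
  -- no slice meets `N` in a plane
  have hsmall : ∀ h ∈ H, h ≠ 0 → ∀ E : Submodule F (Fin a → F), 2 ≤ Module.finrank F E →
      ¬ ∀ x ∈ E, ten x h ∈ N := fun h hh hh0 E hE hEN => hno
    (hasBlock_of_plane hf₁ hf₂ hLM hM ha (by omega) hab hmM hmL hh0 (hHiso h hh) hE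
      fun x hx => hmfix _ (hEN x hx))
  -- the left support
  let W₀ : Submodule F (Fin a → F) := Submodule.span F {x | ∃ v ∈ N, ∃ w, x = ev f₂ w v}
  -- coordinates with respect to a basis of `H`
  have hcoord : ∀ h₁ ∈ H, ∀ h₂ ∈ H, h₁ ≠ 0 → (∀ k : F, k • h₁ ≠ h₂) → ∀ v ∈ N,
      ∃ x₁ x₂ : Fin a → F, v = ten x₁ h₁ + ten x₂ h₂ := by
    intro h₁ hh₁ h₂ hh₂ h10 hne v hv
    have hli : LinearIndependent F ![h₁, h₂] := by rw [LinearIndependent.pair_iff' h10]; exact hne
    have h2 := finrank_span_eq_card hli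
    rw [Matrix.range_cons, Matrix.range_cons, Matrix.range_empty, Set.union_empty, Set.singleton_union,
      Fintype.card_fin] at h2
    have heq : Submodule.span F ({h₁, h₂} : Set (Fin b → F)) = H := Submodule.eq_of_le_of_finrank_le
      (Submodule.span_le.mpr (Set.insert_subset_iff.mpr ⟨hh₁, Set.singleton_subset_iff.mpr hh₂⟩)) (by omega)
    choose x₁ x₂ hx using fun i => Submodule.mem_span_pair.mp (heq.symm ▸ hv.1 i : row v i ∈ _)
    refine ⟨x₁, x₂, funext fun ⟨i, j⟩ => ?_⟩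
    exact (congrFun (hx i) j).symm
  have hW₀ : 2 ≤ Module.finrank F W₀ := by
    by_contra hcon
    obtain ⟨w₁, hw₁c, hw₁d⟩ := hs₂.exists_orth_not_orth hind
    let Ψ : N →ₗ[F] W₀ × W₀ :=
      { toFun := fun v => (⟨ev f₂ c' v.1, Submodule.subset_span ⟨_, v.2, _, rfl⟩⟩,
          ⟨ev f₂ w₁ v.1, Submodule.subset_span ⟨_, v.2, _, rfl⟩⟩)
        map_add' := fun u v => by ext <;> simp [ev_add hf₂]
        map_smul' := fun k v => by ext <;> simp [ev_smul hf₂] }
    have hΨ : Function.Injective Ψ := by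
      rw [injective_iff_map_eq_zero]
      rintro ⟨v, hv⟩ h0
      simp only [Ψ, LinearMap.coe_mk, AddHom.coe_mk, Prod.mk_eq_zero, Subtype.ext_iff, ZeroMemClass.coe_zero] at h0
      obtain ⟨x₁, x₂, hx⟩ := hcoord c ((hHmem c).mpr ⟨hcc, hcd⟩) d ((hHmem d).mpr ⟨hdc, hdd⟩) hc0 hind v hv
      have hcw : f₂ c w₁ = 0 := unitary_orth_symm hf₂ hw₁c
      have hdw : f₂ d w₁ = 1 := by rw [hf₂.herm, hw₁d, map_one]
      rw [hx, ev_add hf₂, ev_add hf₂, ev_ten hf₂, ev_ten hf₂, ev_ten hf₂, ev_ten hf₂, hcc', hdc', hcw, hdw] at h0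
      simp only [one_smul, zero_smul, add_zero, zero_add] at h0
      refine Subtype.ext ?_
      show v = 0
      rw [hx, h0.1, h0.2, ten_eq_zero.mpr (Or.inl rfl), ten_eq_zero.mpr (Or.inl rfl), add_zero]
    have h1 := LinearMap.finrank_le_finrank_of_injective hΨ
    rw [Module.finrank_prod] at h1
    omega
  -- the shape of an element fixing `N`
  have shape : ∀ l ∈ L, (∀ v ∈ N, (l : Matrix (Idx a b) (Idx a b) F) *ᵥ v = v) →
      ∃ (S : Matrix (Fin a) (Fin a) F) (T : Matrix (Fin b) (Fin b) F),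
        (l : Matrix (Idx a b) (Idx a b) F) = S ⊗ₖ T ∧ (∀ x ∈ W₀, S *ᵥ x = x) ∧ (∀ y ∈ H, T *ᵥ y = y) := by
    intro l hl hfix
    obtain ⟨S₀, T₀, hl0⟩ := hl.1
    set S := (S₀ : Matrix (Fin a) (Fin a) F)
    set T := (T₀ : Matrix (Fin b) (Fin b) F)
    rw [hl0] at hfix
    have hTinj : Function.Injective T.mulVec := mulVec_injective_iff_isUnit.mpr T₀.isUnit
    have hHT : ∀ y ∈ H, T *ᵥ y ∈ H := by
      have hle : N ≤ rowsIn a (H ⊓ H.map T.mulVecLin) := fun v hv i =>
        ⟨hv.1 i, by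
          have hr := congrArg (fun z => row z i) (hfix v hv)
          simp only [row_kron_mulVec] at hr
          rw [← hr]
          exact Submodule.sum_mem _ fun j _ => Submodule.smul_mem _ _ ⟨_, hv.1 j, rfl⟩⟩
      have hdim : 2 ≤ Module.finrank F (H ⊓ H.map T.mulVecLin : Submodule F (Fin b → F)) := by
        by_contra hcon
        have h1 := Submodule.finrank_mono hle
        rw [finrank_rowsIn] at h1
        have h1' := h1.trans (Nat.mul_le_mul_right _ ha.le)
        have h2 : Module.finrank F (H ⊓ H.map T.mulVecLin : Submodule F (Fin b → F)) = 1 := by omega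
        obtain ⟨h, hh, hh0⟩ := Submodule.exists_mem_ne_zero_of_ne_bot
          (show (H ⊓ H.map T.mulVecLin) ≠ ⊥ from fun e => by rw [e, finrank_bot] at h2; omega)
        refine hsmall h hh.1 hh0 ⊤ (by rw [finrank_top, Module.finrank_fin_fun]; omega) fun x _ => ?_
        have heq : N = rowsIn a (H ⊓ H.map T.mulVecLin) :=
          Submodule.eq_of_le_of_finrank_le hle (by rw [finrank_rowsIn, h2, mul_one]; omega)
        rw [heq]
        exact ten_mem_rowsIn x hh
      have heq : H ⊓ H.map T.mulVecLin = H := Submodule.eq_of_le_of_finrank_le inf_le_left (by omega)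
      have heq2 : H = H.map T.mulVecLin := Submodule.eq_of_le_of_finrank_le (inf_eq_left.mp heq)
        (Submodule.finrank_map_le _ _)
      intro y hy
      rw [heq2]
      exact ⟨y, hy, rfl⟩
    -- `T` is a scalar on `H`
    obtain ⟨τ, hτ⟩ := exists_scalar_on T hHbot fun h₁ hh₁ => by
      by_contra hcon
      push Not at hcon
      have h10 : h₁ ≠ 0 := fun h => hcon 0 (by rw [h, mulVec_zero, smul_zero])
      have hne : ∀ k : F, k • h₁ ≠ T *ᵥ h₁ := fun k h => hcon k h.symm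
      have hli : LinearIndependent F ![h₁, T *ᵥ h₁] := by rw [LinearIndependent.pair_iff' h10]; exact hne
      have h2 := finrank_span_eq_card hli
      rw [Matrix.range_cons, Matrix.range_cons, Matrix.range_empty, Set.union_empty, Set.singleton_union,
        Fintype.card_fin] at h2
      have heq : Submodule.span F ({h₁, T *ᵥ h₁} : Set (Fin b → F)) = H := Submodule.eq_of_le_of_finrank_le
        (Submodule.span_le.mpr (Set.insert_subset_iff.mpr ⟨hh₁, Set.singleton_subset_iff.mpr (hHT h₁ hh₁)⟩))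
        (by omega)
      obtain ⟨α, β, hαβ⟩ := Submodule.mem_span_pair.mp
        (heq.symm ▸ hHT _ (hHT h₁ hh₁) : T *ᵥ (T *ᵥ h₁) ∈ _)
      have hα : α ≠ 0 := fun h => by
        rw [h, zero_smul, zero_add, ← mulVec_smul] at hαβ
        exact hne β (hTinj hαβ).symm.symm
      have hsplit : ∀ p q p' q' : Fin a → F,
          ten p h₁ + ten q (T *ᵥ h₁) = ten p' h₁ + ten q' (T *ᵥ h₁) → p = p' ∧ q = q' := by
        intro p q p' q' he
        have key : ∀ i, p i = p' i ∧ q i = q' i := fun i => by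
          have h1 : (p i - p' i) • h₁ + (q i - q' i) • (T *ᵥ h₁) = 0 := by
            have := congrArg (fun z => row z i) he
            funext j
            have := congrFun this j
            simp [row, ten] at this ⊢
            linear_combination this
          obtain ⟨e1, e2⟩ := LinearIndependent.pair_iff.mp hli _ _ h1
          exact ⟨sub_eq_zero.mp e1, sub_eq_zero.mp e2⟩
        exact ⟨funext fun i => (key i).1, funext fun i => (key i).2⟩
      have hpair : ∀ v ∈ N, ∃ x, α • S *ᵥ (S *ᵥ x) + β • S *ᵥ x = x ∧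
          v = ten (α • S *ᵥ x) h₁ + ten x (T *ᵥ h₁) := by
        intro v hv
        obtain ⟨x₁, x₂, hx⟩ := hcoord h₁ hh₁ _ (hHT h₁ hh₁) h10 hne v hv
        have h3 := hfix v hv
        rw [hx, mulVec_add, kron_mulVec_ten, kron_mulVec_ten, ← hαβ, ten_add_right, ten_smul_right,
          ten_smul_right, ← ten_smul_left, ← ten_smul_left, ← add_assoc, add_comm (ten _ (T *ᵥ h₁)),
          add_assoc, ← ten_add_left] at h3
        obtain ⟨e1, e2⟩ := hsplit _ _ _ _ h3
        refine ⟨x₂, ?_, by rw [hx, e1]⟩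
        conv_rhs => rw [← e2, ← e1, mulVec_smul]
      obtain ⟨ψ, hψ0, hψ1⟩ := exists_dot_eq_zero_one hne
      rw [dotProduct_comm] at hψ0 hψ1
      have hcol : ∀ p q : Fin a → F, colDot ψ (ten p h₁ + ten q (T *ᵥ h₁)) = q := fun p q => by
        rw [map_add, colDot_ten, colDot_ten, hψ0, hψ1, zero_smul, one_smul, zero_add]
      let Φ : N →ₗ[F] (Fin a → F) := (colDot ψ).comp N.subtype
      have hΦ : Function.Injective Φ := by
        rw [injective_iff_map_eq_zero]
        intro v hv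
        obtain ⟨x, -, hx⟩ := hpair v.1 v.2
        have hx0 : x = 0 := by
          have := hcol (α • S *ᵥ x) x
          rw [← hx] at this
          exact this.symm.trans hv
        refine Subtype.ext (hx.trans ?_)
        rw [hx0]
        simp [ten_eq_zero.mpr (Or.inl rfl)]
      have hsurj : Function.Surjective Φ := by
        rw [← LinearMap.range_eq_top]
        refine Submodule.eq_top_of_finrank_eq (le_antisymm (Submodule.finrank_le _) ?_)
        rw [LinearMap.finrank_range_of_inj hΦ, Module.finrank_fin_fun]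
        omega
      have hall : ∀ x, α • S *ᵥ (S *ᵥ x) + β • S *ᵥ x = x ∧
          ten (α • S *ᵥ x) h₁ + ten x (T *ᵥ h₁) ∈ N := fun x => by
        obtain ⟨v, rfl⟩ := hsurj x
        obtain ⟨x, e1, e2⟩ := hpair v.1 v.2
        have hx : Φ v = x := by
          show colDot ψ v.1 = x
          rw [e2, hcol]
        rw [hx]
        exact ⟨e1, e2 ▸ v.2⟩
      obtain ⟨ρ, E', hE', hEr⟩ := exists_big_eigenspace ha S.mulVecLin hα fun x => (hall x).1
      refine hsmall ((α * ρ) • h₁ + T *ᵥ h₁) (H.add_mem (H.smul_mem _ hh₁) (hHT h₁ hh₁)) (fun h => ?_) E' hE'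
        fun x hx => ?_
      · exact hne (-(α * ρ)) (by rw [neg_smul, eq_comm, eq_neg_iff_add_eq_zero, add_comm]; exact h)
      · have h1 := (hall x).2
        rw [show S *ᵥ x = ρ • x from hEr x hx, smul_smul, ten_smul_left, ← ten_smul_right, ← ten_add_right] at h1
        exact h1
    have hτ0 : τ ≠ 0 := by
      rintro rfl
      obtain ⟨h, hh, h0⟩ := Submodule.exists_mem_ne_zero_of_ne_bot hHbot
      exact h0 (hTinj (by rw [mulVec_zero, hτ h hh, zero_smul]))
    refine ⟨τ • S, τ⁻¹ • T, by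
      rw [hl0, smul_kronecker, kronecker_smul, smul_smul, mul_inv_cancel₀ hτ0, one_smul], fun x hx => ?_,
      fun y hy => by rw [smul_mulVec, hτ y hy, smul_smul, inv_mul_cancel₀ hτ0, one_smul]⟩
    induction hx using Submodule.span_induction with
    | mem x hx =>
      obtain ⟨v, hv, w, rfl⟩ := hx
      obtain ⟨x₁, x₂, hx⟩ := hcoord c ((hHmem c).mpr ⟨hcc, hcd⟩) d ((hHmem d).mpr ⟨hdc, hdd⟩) hc0 hind v hv
      have h3 := hfix v hv
      rw [hx, mulVec_add, kron_mulVec_ten, kron_mulVec_ten, hτ c ((hHmem c).mpr ⟨hcc, hcd⟩),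
        hτ d ((hHmem d).mpr ⟨hdc, hdd⟩), ten_smul_right, ten_smul_right, ← ten_smul_left, ← ten_smul_left,
        ← smul_mulVec, ← smul_mulVec] at h3
      have h4 := congrArg (ev f₂ w) h3
      rw [ev_add hf₂, ev_add hf₂, ev_ten hf₂, ev_ten hf₂, ev_ten hf₂, ev_ten hf₂, ← mulVec_smul, ← mulVec_smul,
        ← mulVec_add] at h4
      rw [hx, ev_add hf₂, ev_ten hf₂, ev_ten hf₂]
      exact h4
    | zero => rw [mulVec_zero]
    | add x y _ _ hx hy => rw [mulVec_add, hx, hy]
    | smul k x _ hx => rw [mulVec_smul, hx]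
  let G : Subgroup (GL (Idx a b) F) :=
    { carrier := {y | y ∈ M ∧ ∀ v ∈ N, (y : Matrix (Idx a b) (Idx a b) F) *ᵥ v = v}
      one_mem' := ⟨M.one_mem, fun v _ => by rw [Units.val_one, one_mulVec]⟩
      mul_mem' := fun {y z} hy hz => ⟨M.mul_mem hy.1 hz.1, fun v hv => by
        rw [Units.val_mul, ← mulVec_mulVec, hz.2 v hv, hy.2 v hv]⟩
      inv_mem' := fun {y} hy => ⟨M.inv_mem hy.1, fun v hv => by
        conv_lhs => rw [← hy.2 v hv]
        rw [mulVec_mulVec, Units.inv_mul, one_mulVec]⟩ }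
  have hcomm : IsMulCommutative (L ⊓ G : Subgroup (GL (Idx a b) F)) := ⟨⟨fun y z => Subtype.ext (by
    obtain ⟨S, T, e1, e2, e3⟩ := shape y.1 y.2.1 y.2.2.2
    obtain ⟨S', T', e1', e2', e3'⟩ := shape z.1 z.2.1 z.2.2.2
    exact commute_of_shape hf₁ hf₂ ha hW₀ hHbot hkey y.2.1.2 z.2.1.2 e1 e1' e2 e2' e3 e3')⟩⟩
  have hroots : ∀ w, f₂ w c = 0 → f₂ w d = 0 → f₂ w w = 0 → w ∈ Submodule.span F {c, d} →
      ∀ l, σ l = -l → uroot a f₂ w l ∈ L ⊓ G := by
    intro w hwc hwd hww hwW l hl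
    refine ⟨uroot_mem hf₁ hf₂ hww hl, hLM (uroot_mem hf₁ hf₂ hww hl), fun v hv => uroot_fix hf₂ hww l ?_⟩
    funext i
    obtain ⟨x, y, rfl⟩ := Submodule.mem_span_pair.mp hwW
    obtain ⟨e1, e2⟩ := (hHmem _).mp (hv.1 i)
    simp only [ev, hs₂.add_right, hs₂.smul_right, e1, e2, mul_zero, add_zero]
    rfl
  have : Finite (GL (Idx a b) F) := inferInstance
  have hle := le_of_commutative_of_fusion (p := p) (G := G) (A := L ⊓ G)
    (R := abelR (L ⊓ G) (Submodule.span F {c, d})) inf_le_right hcomm (abelR_le _ _)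
    (isElementaryAbelian_abelR p _ _) fun B hB hidx => by
      obtain ⟨w, hw0, hww, l, hl0, hl, hwB⟩ :=
        exists_uroot_mem hf₁ hf₂ hcc hdd hdc hind hc0 hroots hB hidx
      exact ⟨_, hwB, fun y hy hyA => ⟨no w hw0 hww l hl0 y hy.1 hyA.1, hy⟩⟩
  exact hmL (hle ⟨hmM, hmfix⟩).1

end CfsgLib.TensorUnitary
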