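import Cfsg.Agent.TensorUnitary.SmallBlock
import Mathlib.LinearAlgebra.Matrix.SchurComplement

/-!
# A slice fixing element when the left factor is two-dimensional
-/

set_option autoImplicit false
set_option linter.unusedSectionVars false

namespace CfsgLib.TensorUnitary

open Matrix Cfsg.Geo CfsgLib.MaxSub CfsgLib.TensorMax
open scoped Kronecker

variable {F : Type*} [Field F] [Finite F] {a b : ℕ} {σ : F ≃+* F}
  {f₁ : (Fin a → F) → (Fin a → F) → F} {f₂ : (Fin b → F) → (Fin b → F) → F}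

/-- The characteristic equation of a two by two matrix. -/
theorem sq_two (ha : a = 2) (P : Matrix (Fin a) (Fin a) F) :
    P * P = P.trace • P - P.det • 1 := by
  subst ha
  ext i j
  fin_cases i <;> fin_cases j <;>
    simp [mul_apply, Fin.sum_univ_two, trace_fin_two, det_fin_two] <;> ring

/-- A vanishing sum of two Kronecker products, one with an identity factor. -/
theorem kron_pair {P : Matrix (Fin a) (Fin a) F} (hP : ∀ s : F, P ≠ s • 1)
    {A B : Matrix (Fin b) (Fin b) F} (h : P ⊗ₖ A + (1 : Matrix (Fin a) (Fin a) F) ⊗ₖ B = 0) :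
    A = 0 := by
  ext k l
  by_contra hA
  refine hP (-(B k l) / A k l) (Matrix.ext fun i j => ?_)
  have h1 := congrFun (congrFun h (i, k)) (j, l)
  simp only [Matrix.add_apply, kroneckerMap_apply, Matrix.zero_apply] at h1
  rw [Matrix.zero_apply] at hA
  rw [Matrix.smul_apply, smul_eq_mul, div_mul_eq_mul_div, eq_div_iff hA]
  linear_combination h1

variable (hf₁ : IsUnitaryForm σ f₁) (hf₂ : IsUnitaryForm σ f₂)
  {M : Subgroup (GL (Idx a b) F)} (hLM : tensU f₁ f₂ ≤ M) (hM : M ≤ su (form f₁ f₂))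
include hf₁ hf₂ hLM hM

/-- Two non-orthogonal non-isotropic slices mapped to slices. -/
theorem hasBlock_of_two_slices (ha : 1 ≤ a) {g : GL (Idx a b) F} (hgM : g ∈ M)
    (hgL : g ∉ tensU f₁ f₂) {e₀ e₁ d₀ d₁ : Fin b → F} (he₀ : f₂ e₀ e₀ ≠ 0)
    (hne : ∀ k : F, k • e₀ ≠ e₁) (h10 : f₂ e₁ e₀ ≠ 0)
    (h₀ : ∀ x, ∃ x', (g : Matrix (Idx a b) (Idx a b) F) *ᵥ ten x e₀ = ten x' d₀)
    (h₁ : ∀ x, ∃ x', (g : Matrix (Idx a b) (Idx a b) F) *ᵥ ten x e₁ = ten x' d₁) :
    HasBlock M f₁ f₂ := by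
  classical
  have : NeZero a := ⟨by omega⟩
  have hs₁ := sesqForm_of_unitary hf₁
  have hs₂ := sesqForm_of_unitary hf₂
  have hff := isUnitary_form hf₁ hf₂
  have hg := (hM hgM).1
  choose A₀ hA₀ using h₀
  choose A₁ hA₁ using h₁
  obtain ⟨x₀, hx₀⟩ : ∃ x : Fin a → F, f₁ x x ≠ 0 := by
    obtain ⟨x, -, hx⟩ := exists_noniso hf₁ ⊤ (by rw [finrank_top, Module.finrank_fin_fun, Fintype.card_fin]; omega)
    exact ⟨x, hx⟩
  have hd₀ : f₂ d₀ d₀ ≠ 0 := fun h => by
    have h1 := hg (ten x₀ e₀) (ten x₀ e₀)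
    rw [hA₀, form_ten_ten hf₁ hf₂, form_ten_ten hf₁ hf₂, h, mul_zero, eq_comm, mul_eq_zero] at h1
    exact h1.elim hx₀ he₀
  set k := f₂ e₁ e₀ / f₂ e₀ e₀ with hk
  have hk0 : k ≠ 0 := div_ne_zero h10 he₀
  have hd₀0 : d₀ ≠ 0 := fun h => hd₀ (by rw [h, hs₂.zero_left])
  have hsurj : ∀ p, ∃ x, A₀ x = p := by
    have hinj : Function.Injective A₀ := fun x y h => by
      refine ten_inj_left (y := e₀) (fun h0 => he₀ (by rw [h0, hs₂.zero_left]))
        (mulVec_injective_iff_isUnit.mpr g.isUnit ?_)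
      rw [hA₀, hA₀, h]
    obtain ⟨α, hα⟩ := exists_dot_eq_one hd₀0
    let Al : (Fin a → F) →ₗ[F] (Fin a → F) :=
      { toFun := fun x => colDot α ((g : Matrix (Idx a b) (Idx a b) F) *ᵥ ten x e₀)
        map_add' := fun x z => by rw [ten_add_left, mulVec_add, map_add]
        map_smul' := fun r x => by rw [ten_smul_left, mulVec_smul, map_smul, RingHom.id_apply] }
    have hAl : ∀ x, Al x = A₀ x := fun x => by
      show colDot α _ = _
      rw [hA₀, colDot_ten, hα, one_smul]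
    intro p
    obtain ⟨x, hx⟩ := LinearMap.surjective_of_injective (f := Al)
      (fun x y h => hinj (by rw [← hAl, ← hAl, h])) p
    exact ⟨x, (hAl x).symm.trans hx⟩
  have key : ∀ x, f₂ d₁ d₀ • A₁ x = (k * f₂ d₀ d₀) • A₀ x := by
    intro x
    refine eq_of_forall hf₁ fun p => ?_
    obtain ⟨x', rfl⟩ := hsurj p
    have h1 := hg (ten x e₁) (ten x' e₀)
    have h0 := hg (ten x e₀) (ten x' e₀)
    rw [hA₁, hA₀, form_ten_ten hf₁ hf₂, form_ten_ten hf₁ hf₂] at h1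
    rw [hA₀, hA₀, form_ten_ten hf₁ hf₂, form_ten_ten hf₁ hf₂] at h0
    rw [hs₁.smul_left, hs₁.smul_left]
    have hke : k * f₂ e₀ e₀ = f₂ e₁ e₀ := by rw [hk, div_mul_cancel₀ _ he₀]
    linear_combination h1 - k * h0 - f₁ x x' * hke
  have hd₁₀ : f₂ d₁ d₀ ≠ 0 := fun h => by
    have h1 := key x₀
    rw [h, zero_smul, eq_comm, smul_eq_zero, mul_eq_zero] at h1
    have h0 := hg (ten x₀ e₀) (ten x₀ e₀)
    rcases h1 with (h1 | h1) | h1
    · exact hk0 h1
    · exact hd₀ h1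
    · rw [hA₀, h1, form_ten_ten hf₁ hf₂, form_ten_ten hf₁ hf₂, hs₁.zero_left, zero_mul, eq_comm,
        mul_eq_zero] at h0
      exact h0.elim hx₀ he₀
  obtain ⟨w, hw, hw0, hww⟩ := exists_iso_mem hf₂ (Submodule.span F {e₀, e₁}) (by
    have hli : LinearIndependent F ![e₀, e₁] := by
      rw [LinearIndependent.pair_iff' (fun h => he₀ (by rw [h, hs₂.zero_left]))]
      exact hne
    have h2 := finrank_span_eq_card hli
    rw [Matrix.range_cons, Matrix.range_cons, Matrix.range_empty, Set.union_empty, Set.singleton_union,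
      Fintype.card_fin] at h2
    omega)
  obtain ⟨r, s, rfl⟩ := Submodule.mem_span_pair.mp hw
  set d := r • d₀ + (s * (k * f₂ d₀ d₀) / f₂ d₁ d₀) • d₁ with hd
  have hval : ∀ x, (g : Matrix (Idx a b) (Idx a b) F) *ᵥ ten x (r • e₀ + s • e₁) = ten (A₀ x) d := by
    intro x
    have e : A₁ x = (k * f₂ d₀ d₀ / f₂ d₁ d₀) • A₀ x := by
      rw [div_eq_inv_mul, mul_smul, ← key, smul_smul, inv_mul_cancel₀ hd₁₀, one_smul]
    rw [ten_add_right, ten_smul_right, ten_smul_right, mulVec_add, mulVec_smul, mulVec_smul, hA₀, hA₁, e,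
      ten_smul_left, hd, ten_add_right, ten_smul_right, ten_smul_right, smul_smul]
    ring_nf
  refine hasBlock_of_map hf₁ hf₂ hLM hM ha hgM hgL hw0 hww (fun h0 => ?_) fun x => ⟨_, hval x⟩
  have := mulVec_injective_iff_isUnit.mpr g.isUnit (a₁ := ten x₀ (r • e₀ + s • e₁)) (a₂ := 0)
    (by rw [hval, h0, mulVec_zero, ten_eq_zero.mpr (Or.inr rfl)])
  rcases ten_eq_zero.mp this with h | h
  · exact hx₀ (by rw [h, hs₁.zero_left])
  · exact hw0 h

/-- One step: a block, or a non-isotropic slice orthogonal to `w` mapped to a slice. -/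
theorem hasBlock_or_slice (ha : a = 2) (hb : 3 ≤ b) {η : F} (hη : η * σ η = 1) (hη3 : η ^ 3 ≠ 1)
    {g : GL (Idx a b) F} (hgM : g ∈ M) (hgL : g ∉ tensU f₁ f₂) {w : Fin b → F} (hw0 : w ≠ 0)
    (hww : f₂ w w = 0) :
    HasBlock M f₁ f₂ ∨ b = 3 ∧ ∃ e' d : Fin b → F, f₂ e' e' ≠ 0 ∧ f₂ w e' = 0 ∧
      ∀ x, ∃ x', (g : Matrix (Idx a b) (Idx a b) F) *ᵥ ten x e' = ten x' d := by
  classical
  have hab : a < b := by omega
  have hs₁ := sesqForm_of_unitary hf₁
  have hs₂ := sesqForm_of_unitary hf₂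
  have hff := isUnitary_form hf₁ hf₂
  have hgiL : g⁻¹ ∉ tensU f₁ f₂ := fun h => hgL (by simpa using (tensU f₁ f₂).inv_mem h)
  obtain ⟨u, -, hu0, hu⟩ := exists_iso_mem hf₁ ⊤
    (by rw [finrank_top, Module.finrank_fin_fun]; omega)
  set v := (g : Matrix (Idx a b) (Idx a b) F) *ᵥ ten u w with hv
  set K := dotsKer fun i => leftVec f₂ (row v i)
  have hK : ∀ e ∈ K, ev f₂ e v = 0 := fun e he => funext fun i => by
    show f₂ (row v i) e = 0
    exact unitary_orth_symm hf₂ (by rw [← hs₂.dot_leftVec]; exact mem_dotsKer.mp he i)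
  have hKdim := finrank_dotsKer fun i => leftVec f₂ (row v i)
  rw [Fintype.card_fin] at hKdim
  by_cases hiso : ∃ e ∈ K, e ≠ 0 ∧ f₂ e e = 0
  · obtain ⟨e, he, he0, hee⟩ := hiso
    obtain ⟨t, ht0, ht⟩ := exists_traceZero hf₂.ne_refl hf₂.involutive
    refine Or.inl ?_
    by_cases hL : g⁻¹ * uroot a f₂ e t * (g⁻¹)⁻¹ ∈ tensU f₁ f₂
    · exact hasBlock_of_fusion hf₁ hf₂ hLM hM (by omega) hab (M.inv_mem hgM) hgiL he0 hee ht0 hL
    refine hasBlock_of_eigen hf₁ hf₂ hLM hM ha hab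
      (M.mul_mem (M.mul_mem (M.inv_mem hgM) (hLM (uroot_mem hf₁ hf₂ hee ht))) (M.inv_mem (M.inv_mem hgM)))
      hL hw0 hww hu0 hu one_ne_zero ?_
    rw [inv_inv, Units.val_mul, Units.val_mul, ← mulVec_mulVec, ← mulVec_mulVec, ← hv,
      uroot_fix hf₂ hee t (hK e he), hv, mulVec_inv_cancel, one_smul]
  push Not at hiso
  have hb3 : b = 3 := by
    by_contra h
    obtain ⟨e, he, he0, hee⟩ := exists_iso_mem hf₂ K (by
      show 2 ≤ Module.finrank F (dotsKer fun i => leftVec f₂ (row v i)); omega)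
    exact hiso e he he0 hee
  obtain ⟨e, he, he0⟩ := Submodule.exists_mem_ne_zero_of_ne_bot (show K ≠ ⊥ from fun h => by
    rw [show (dotsKer fun i => leftVec f₂ (row v i)) = ⊥ from h, finrank_bot] at hKdim; omega)
  have hee := hiso e he he0
  set N := f₂ e e with hN
  set μ := (η ^ 3)⁻¹ with hμdef
  have hη0 : η ≠ 0 := left_ne_zero_of_mul_eq_one hη
  have hσN : σ N = N := herm_self hf₂ e
  have hμ1 : μ ≠ 1 := fun h => hη3 (inv_eq_one.mp h)
  have hμn : μ * σ μ = 1 := by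
    rw [hμdef, map_inv₀, map_pow, ← mul_inv, ← mul_pow, hη, one_pow, inv_one]
  set κ := (μ - 1) / N with hκdef
  have hκN : κ * N = μ - 1 := by rw [hκdef, div_mul_cancel₀ _ hee]
  have hσκN : σ κ * N = σ μ - 1 := by
    have := congrArg σ hκN
    rwa [map_mul, hσN, map_sub, map_one] at this
  set T := η • (1 + κ • pMat f₂ e) with hTdef
  have hdet : T.det = 1 := by
    rw [hTdef, det_smul, Fintype.card_fin, pMat, ← smul_vecMulVec, vecMulVec_eq (Fin 1),
      det_one_add_replicateCol_mul_replicateRow, dotProduct_smul, hs₂.dot_leftVec, smul_eq_mul, ← hN, hκN,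
      add_sub_cancel, hμdef, hb3, mul_inv_cancel₀ (pow_ne_zero _ hη0)]
  set Tg := Matrix.GeneralLinearGroup.mkOfDetNeZero T (by rw [hdet]; exact one_ne_zero) with hTg
  have hTsu : Tg ∈ su f₂ := by
    refine ⟨fun x y => ?_, ?_⟩
    · show f₂ (T *ᵥ x) (T *ᵥ y) = f₂ x y
      simp only [hTdef, smul_mulVec, add_mulVec, one_mulVec, pMat_mulVec hf₂, hs₂.smul_left, hs₂.smul_right,
        hs₂.add_left, hs₂.add_right, ← hN]
      rw [hf₂.herm e y]
      have e1 : κ + σ κ + κ * σ κ * N = 0 := by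
        have : (κ + σ κ + κ * σ κ * N) * N = 0 := by
          linear_combination hκN + hσκN + (σ κ * N) * hκN + (μ - 1) * hσκN + hμn
        exact (mul_eq_zero.mp this).resolve_right hee
      linear_combination (f₂ x e * σ (f₂ y e) * (η * σ η)) * e1 + f₂ x y * hη
    · show Tg ∈ specialLinear (Fin b) F
      rw [mem_specialLinear_iff]
      exact hdet
  set h := krG ((1 : GL (Fin a) F), Tg) with hhdef
  have hhL : h ∈ tensU f₁ f₂ := krG_mem_tensU hf₁ hf₂ (Subgroup.one_mem _) hTsu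
  have hhval : (h : Matrix (Idx a b) (Idx a b) F)
      = η • (1 + κ • ((1 : Matrix (Fin a) (Fin a) F) ⊗ₖ pMat f₂ e)) := by
    show (1 : Matrix (Fin a) (Fin a) F) ⊗ₖ T = _
    rw [hTdef, kronecker_smul, kronecker_add, one_kronecker_one, kronecker_smul]
  have hhv : ∀ p, (h : Matrix (Idx a b) (Idx a b) F) *ᵥ p = η • p + (η * κ) • ten (ev f₂ e p) e := fun p => by
    rw [hhval, smul_mulVec, add_mulVec, one_mulVec, smul_mulVec, kron_pMat_mulVec hf₂, one_mulVec,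
      smul_add, smul_smul]
  set y := g⁻¹ * h * g with hy
  by_cases hyL : y ∈ tensU f₁ f₂
  swap
  · refine Or.inl (hasBlock_of_eigen hf₁ hf₂ hLM hM ha hab
      (M.mul_mem (M.mul_mem (M.inv_mem hgM) (hLM hhL)) hgM) hyL hw0 hww hu0 hu hη0 ?_)
    rw [Units.val_mul, Units.val_mul, ← mulVec_mulVec, ← mulVec_mulVec, ← hv, hhv, hK e he,
      ten_eq_zero.mpr (Or.inl rfl), smul_zero, add_zero, mulVec_smul, hv, mulVec_inv_cancel]
  obtain ⟨P, T', hPT⟩ := hyL.1
  set P' := (P : Matrix (Fin a) (Fin a) F) with hP'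
  set T₁ := (T' : Matrix (Fin b) (Fin b) F) with hT₁
  have hT₁0 : T₁ ≠ 0 := by
    have : NeZero b := ⟨by omega⟩
    exact T'.ne_zero
  have hyval : (y : Matrix (Idx a b) (Idx a b) F)
      = ((g⁻¹ : GL (Idx a b) F) : Matrix (Idx a b) (Idx a b) F) * (h : Matrix (Idx a b) (Idx a b) F)
        * (g : Matrix (Idx a b) (Idx a b) F) := by rw [hy, Units.val_mul, Units.val_mul]
  obtain ⟨s, hs⟩ : ∃ s : F, P' = s • 1 := by
    by_contra hns
    push Not at hns
    have hEE : ((1 : Matrix (Fin a) (Fin a) F) ⊗ₖ pMat f₂ e) * ((1 : Matrix (Fin a) (Fin a) F) ⊗ₖ pMat f₂ e)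
        = N • ((1 : Matrix (Fin a) (Fin a) F) ⊗ₖ pMat f₂ e) := by
      rw [← mul_kronecker_mul, one_mul, pMat, vecMulVec_mul_vecMulVec, hs₂.dot_leftVec, vecMulVec_smul,
        kronecker_smul, hN]
    have hh2 : (h : Matrix (Idx a b) (Idx a b) F) * (h : Matrix (Idx a b) (Idx a b) F)
        = (η * (1 + μ)) • (h : Matrix (Idx a b) (Idx a b) F) - (η * η * μ) • 1 := by
      rw [hhval]
      simp only [Matrix.smul_mul, Matrix.mul_smul, mul_add, add_mul, mul_one, one_mul, hEE, smul_smul]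
      rw [show μ = 1 + κ * N by rw [hκN]; ring]
      module
    have hy2 : (y : Matrix (Idx a b) (Idx a b) F) * (y : Matrix (Idx a b) (Idx a b) F)
        = (η * (1 + μ)) • (y : Matrix (Idx a b) (Idx a b) F) - (η * η * μ) • 1 := by
      rw [← Units.val_mul, show y * y = g⁻¹ * (h * h) * g by rw [hy]; group, Units.val_mul, Units.val_mul,
        Units.val_mul, hh2, hyval, mul_sub, sub_mul, Matrix.mul_smul, Matrix.smul_mul, Matrix.mul_smul,
        Matrix.smul_mul, mul_one, Units.inv_mul]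
    rw [hPT, ← mul_kronecker_mul, sq_two ha P'] at hy2
    have hpair : P' ⊗ₖ (P'.trace • (T₁ * T₁) - (η * (1 + μ)) • T₁)
        + (1 : Matrix (Fin a) (Fin a) F) ⊗ₖ ((-P'.det) • (T₁ * T₁) + (η * η * μ) • 1) = 0 := by
      ext ⟨i, k⟩ ⟨j, l⟩
      have h1 := congrFun (congrFun hy2 (i, k)) (j, l)
      simp only [← one_kronecker_one (α := F), Matrix.sub_apply, Matrix.add_apply, Matrix.smul_apply,
        kroneckerMap_apply, smul_eq_mul, Matrix.zero_apply] at h1 ⊢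
      linear_combination h1
    have hA := kron_pair hns hpair
    have hA' : P'.trace • T₁ = (η * (1 + μ)) • (1 : Matrix (Fin b) (Fin b) F) := by
      have := congrArg (· * ((T'⁻¹ : GL (Fin b) F) : Matrix (Fin b) (Fin b) F)) hA
      simp only [sub_mul, Matrix.smul_mul, zero_mul, mul_assoc, hT₁, Units.mul_inv, mul_one] at this
      exact sub_eq_zero.mp this
    have htr : P'.trace * T₁.trace = 2 * η * (2 + μ) := by
      rw [← trace_kronecker, ← hPT, hy, Units.val_mul, Units.val_mul, trace_units_conj', hhval, trace_smul,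
        trace_add, trace_smul, trace_one, trace_kronecker, trace_one, pMat, trace_vecMulVec,
        dotProduct_comm, hs₂.dot_leftVec, ← hN, Fintype.card_prod, Fintype.card_fin, Fintype.card_fin, ha, hb3]
      simp only [smul_eq_mul]
      push_cast
      linear_combination (2 * η) * hκN
    have htr' := congrArg Matrix.trace hA'
    rw [trace_smul, trace_smul, trace_one, Fintype.card_fin, show (b : F) = 3 by rw [hb3]; norm_num, smul_eq_mul, smul_eq_mul] at htr'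
    exact hμ1 (sub_eq_zero.mp ((mul_eq_zero.mp (show η * (μ - 1) = 0 by
      linear_combination htr - htr')).resolve_left hη0))
  set T₂ := s • T₁ with hT₂
  have hyT : ∀ x p, (y : Matrix (Idx a b) (Idx a b) F) *ᵥ ten x p = ten x (T₂ *ᵥ p) := fun x p => by
    rw [hPT, hs, smul_kronecker, ← kronecker_smul, ← hT₂, kron_mulVec_ten, one_mulVec]
  obtain ⟨y₀, hy₀⟩ : ∃ y₀, T₂ *ᵥ y₀ - η • y₀ ≠ 0 := by
    by_contra hcon
    push Not at hcon
    have h1 := hyT u
    have h2 : ∀ p, (h : Matrix (Idx a b) (Idx a b) F) *ᵥ p = η • p := by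
      intro p
      have hy' : ∀ q, (y : Matrix (Idx a b) (Idx a b) F) *ᵥ q = η • q := fun q => by
        induction q using ten_induction with
        | hadd q r hq hr => rw [mulVec_add, hq, hr, smul_add]
        | h0 => rw [mulVec_zero, smul_zero]
        | h x p => rw [hyT, sub_eq_zero.mp (hcon p), ten_smul_right]
      have h3 := hy' (((g⁻¹ : GL (Idx a b) F) : Matrix (Idx a b) (Idx a b) F) *ᵥ p)
      rw [hy, Units.val_mul, Units.val_mul, ← mulVec_mulVec, ← mulVec_mulVec, mulVec_inv_cancel'] at h3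
      have h4 := congrArg (fun q => (g : Matrix (Idx a b) (Idx a b) F) *ᵥ q) h3
      simp only [mulVec_smul, mulVec_inv_cancel'] at h4
      exact h4
    have h5 := h2 (ten u e)
    rw [hhv, add_eq_left, ev_ten hf₂, ← hN, ten_smul_left, smul_smul, mul_assoc, hκN, smul_eq_zero,
      mul_eq_zero, sub_eq_zero, ten_eq_zero] at h5
    exact h5.elim (fun h6 => h6.elim hη0 hμ1) fun h6 => h6.elim hu0 he0
  set e' := T₂ *ᵥ y₀ - η • y₀ with he'
  have hmap : ∀ x, ∃ p, (g : Matrix (Idx a b) (Idx a b) F) *ᵥ ten x e' = ten p e := by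
    intro x
    refine ⟨(η * κ) • ev f₂ e ((g : Matrix (Idx a b) (Idx a b) F) *ᵥ ten x y₀), ?_⟩
    rw [he', sub_eq_add_neg, ← neg_smul, ten_add_right, ten_smul_right, ← hyT, hy, Units.val_mul,
      Units.val_mul, ← mulVec_mulVec, ← mulVec_mulVec, mulVec_add, mulVec_inv_cancel', mulVec_smul, hhv,
      ten_smul_left]
    module
  by_cases he'e : f₂ e' e' = 0
  · exact Or.inl (hasBlock_of_map hf₁ hf₂ hLM hM (by omega) hgM hgL hy₀ he'e he0 hmap)
  refine Or.inr ⟨hb3, e', e, he'e, ?_, hmap⟩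
  obtain ⟨x, -, hxu, hux⟩ := exists_partner hf₁ hu0 hu
  obtain ⟨p, hp⟩ := hmap x
  have h1 := (hM hgM).1 (ten u w) (ten x e')
  rw [hp, ← hv, form_ten_right hf₁ hf₂, hK e he, hs₁.zero_left, form_ten_ten hf₁ hf₂, hux, one_mul] at h1
  exact h1.symm

/-- A slice fixing element, two-dimensional left factor. -/
theorem hasBlock_two (ha : a = 2) (hb : 3 ≤ b) (hηex : ∃ η : F, η * σ η = 1 ∧ η ^ 3 ≠ 1)
    (hex : ∃ k : F, σ k = k ∧ k ≠ 0 ∧ k ≠ 1)
    {g : GL (Idx a b) F} (hgM : g ∈ M) (hgL : g ∉ tensU f₁ f₂) : HasBlock M f₁ f₂ := by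
  classical
  obtain ⟨η, hη, hη3⟩ := hηex
  by_contra hno
  have hs₂ := sesqForm_of_unitary hf₂
  have step : ∀ w : Fin b → F, w ≠ 0 → f₂ w w = 0 → ∃ e' d : Fin b → F, f₂ e' e' ≠ 0 ∧ f₂ w e' = 0 ∧
      ∀ x, ∃ x', (g : Matrix (Idx a b) (Idx a b) F) *ᵥ ten x e' = ten x' d := fun w h1 h2 =>
    ((hasBlock_or_slice hf₁ hf₂ hLM hM ha hb hη hη3 hgM hgL h1 h2).resolve_left hno).2
  obtain ⟨w₀, -, hw₀, hww₀⟩ := exists_iso_mem hf₂ ⊤ (by rw [finrank_top, Module.finrank_fin_fun]; omega)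
  obtain ⟨hb3, e₀, d₀, he₀, -, hmap₀⟩ :=
    (hasBlock_or_slice hf₁ hf₂ hLM hM ha hb hη hη3 hgM hgL hw₀ hww₀).resolve_left hno
  have he₀0 : e₀ ≠ 0 := fun h => he₀ (by rw [h, hs₂.zero_left])
  have hdich : ∀ e₁ d₁ : Fin b → F, (∀ x, ∃ x', (g : Matrix (Idx a b) (Idx a b) F) *ᵥ ten x e₁ = ten x' d₁) →
      ∀ e₂ d₂ : Fin b → F, f₂ e₂ e₂ ≠ 0 → (∀ x, ∃ x', (g : Matrix (Idx a b) (Idx a b) F) *ᵥ ten x e₂ = ten x' d₂) →
      (∃ k : F, k • e₂ = e₁) ∨ f₂ e₁ e₂ = 0 := by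
    intro e₁ d₁ h1 e₂ d₂ h2 h2m
    by_contra hcon
    push Not at hcon
    exact hno (hasBlock_of_two_slices hf₁ hf₂ hLM hM (by omega) hgM hgL h2 hcon.1 hcon.2 h2m h1)
  -- an isotropic vector orthogonal to none of the special slices
  obtain ⟨k, hσk, hk0, hk1⟩ := hex
  obtain ⟨e₁, he₁, he₁₀, he₁'⟩ : ∃ e₁, f₂ e₁ e₁ ≠ 0 ∧ f₂ e₁ e₀ = 0 ∧
      ((∀ e d : Fin b → F, f₂ e e ≠ 0 → (∀ x, ∃ x', (g : Matrix (Idx a b) (Idx a b) F) *ᵥ ten x e = ten x' d) →
        ∃ r : F, r • e₀ = e) ∨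
        ∃ d₁, ∀ x, ∃ x', (g : Matrix (Idx a b) (Idx a b) F) *ᵥ ten x e₁ = ten x' d₁) := by
    by_cases hall : ∀ e d : Fin b → F, f₂ e e ≠ 0 →
        (∀ x, ∃ x', (g : Matrix (Idx a b) (Idx a b) F) *ᵥ ten x e = ten x' d) → ∃ r : F, r • e₀ = e
    · have hdim := finrank_dotsKer ![leftVec f₂ e₀]
      rw [Fintype.card_fin] at hdim
      obtain ⟨e₁, h1, h2⟩ := exists_noniso hf₂ (dotsKer ![leftVec f₂ e₀]) (by rw [Fintype.card_fin]; omega)
      exact ⟨e₁, h2, by simpa [hs₂.dot_leftVec] using mem_dotsKer.mp h1 0, Or.inl hall⟩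
    · push Not at hall
      obtain ⟨e, d, he, hm, hne⟩ := hall
      exact ⟨e, he, (hdich e d hm e₀ d₀ he₀ hmap₀).resolve_left fun ⟨r, hr⟩ => hne r hr, Or.inr ⟨d, hm⟩⟩
  have he₁0 : e₁ ≠ 0 := fun h => he₁ (by rw [h, hs₂.zero_left])
  set K := dotsKer ![leftVec f₂ e₀, leftVec f₂ e₁]
  have hmemK : ∀ p, p ∈ K ↔ f₂ p e₀ = 0 ∧ f₂ p e₁ = 0 := fun p => by
    rw [mem_dotsKer, Fin.forall_fin_two]; simp [hs₂.dot_leftVec]
  -- the orthogonal of the pair has a non-isotropic vector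
  obtain ⟨e₂, he₂K, he₂⟩ : ∃ e₂ ∈ K, f₂ e₂ e₂ ≠ 0 := by
    by_contra hcon
    push Not at hcon
    have hKd := finrank_dotsKer ![leftVec f₂ e₀, leftVec f₂ e₁]
    rw [Fintype.card_fin] at hKd
    obtain ⟨x, hx, hx0⟩ := Submodule.exists_mem_ne_zero_of_ne_bot (show K ≠ ⊥ from fun h => by
      rw [show dotsKer ![leftVec f₂ e₀, leftVec f₂ e₁] = ⊥ from h, finrank_bot] at hKd; omega)
    obtain ⟨p, hp⟩ := (hf₂.nondegenerate x hx0).2
    obtain ⟨hx1, hx2⟩ := (hmemK x).mp hx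
    have hp' : p - (f₂ p e₀ / f₂ e₀ e₀) • e₀ - (f₂ p e₁ / f₂ e₁ e₁) • e₁ ∈ K := by
      rw [hmemK]
      have h01 : f₂ e₀ e₁ = 0 := unitary_orth_symm hf₂ he₁₀
      refine ⟨?_, ?_⟩ <;>
        simp only [hs₂.sub_left, hs₂.smul_left, he₁₀, h01, div_mul_cancel₀ _ he₀, div_mul_cancel₀ _ he₁,
          mul_zero, sub_zero, sub_self]
    have := orth_of_all_iso hf₂ hcon hx hp'
    rw [hs₂.sub_right, hs₂.sub_right, hs₂.smul_right, hs₂.smul_right, hx1, hx2, mul_zero, mul_zero,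
      sub_zero, sub_zero] at this
    exact hp this
  obtain ⟨he₂₀, he₂₁⟩ := (hmemK e₂).mp he₂K
  obtain ⟨r₀, hr₀⟩ := norm_surjective hf₂.ne_refl hf₂.involutive (a := 1 / f₂ e₀ e₀)
    (by rw [map_div₀, map_one, herm_self hf₂])
  obtain ⟨r₁, hr₁⟩ := norm_surjective hf₂.ne_refl hf₂.involutive (a := -k / f₂ e₁ e₁)
    (by rw [map_div₀, map_neg, hσk, herm_self hf₂])
  obtain ⟨r₂, hr₂⟩ := norm_surjective hf₂.ne_refl hf₂.involutive (a := (k - 1) / f₂ e₂ e₂)
    (by rw [map_div₀, map_sub, hσk, map_one, herm_self hf₂])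
  have hr₀0 : r₀ ≠ 0 := fun h => by
    rw [h, zero_mul, eq_comm, div_eq_zero_iff] at hr₀; exact hr₀.elim one_ne_zero he₀
  have hr₁0 : r₁ ≠ 0 := fun h => by
    rw [h, zero_mul, eq_comm, div_eq_zero_iff] at hr₁; exact hr₁.elim (neg_ne_zero.mpr hk0) he₁
  set w := r₀ • e₀ + r₁ • e₁ + r₂ • e₂ with hw
  have hw₀' : f₂ w e₀ = r₀ * f₂ e₀ e₀ := by
    rw [hw, hs₂.add_left, hs₂.add_left, hs₂.smul_left, hs₂.smul_left, hs₂.smul_left, he₁₀, he₂₀]; ring
  have hw₁' : f₂ w e₁ = r₁ * f₂ e₁ e₁ := by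
    rw [hw, hs₂.add_left, hs₂.add_left, hs₂.smul_left, hs₂.smul_left, hs₂.smul_left, he₂₁,
      unitary_orth_symm hf₂ he₁₀]; ring
  have hww : f₂ w w = 0 := by
    have h2 : f₂ w e₂ = r₂ * f₂ e₂ e₂ := by
      rw [hw, hs₂.add_left, hs₂.add_left, hs₂.smul_left, hs₂.smul_left, hs₂.smul_left,
        unitary_orth_symm hf₂ he₂₀, unitary_orth_symm hf₂ he₂₁]; ring
    conv_lhs => arg 2; rw [hw]
    rw [hs₂.add_right, hs₂.add_right, hs₂.smul_right, hs₂.smul_right, hs₂.smul_right, hw₀', hw₁', h2]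
    rw [eq_div_iff he₀] at hr₀
    rw [eq_div_iff he₁] at hr₁
    rw [eq_div_iff he₂] at hr₂
    linear_combination hr₀ + hr₁ + hr₂
  have hw0 : w ≠ 0 := fun h => mul_ne_zero hr₀0 he₀ (by rw [← hw₀', h, hs₂.zero_left])
  obtain ⟨e, d, he, hwe, hem⟩ := step w hw0 hww
  rcases hdich e d hem e₀ d₀ he₀ hmap₀ with ⟨r, rfl⟩ | h0
  · rw [hs₂.smul_right, hw₀', mul_eq_zero] at hwe
    exact hwe.elim (fun h => he (by rw [(map_eq_zero_iff σ σ.injective).mp h, zero_smul, hs₂.zero_left]))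
      (mul_ne_zero hr₀0 he₀)
  rcases he₁' with hall | ⟨d₁, hm₁⟩
  · obtain ⟨r, rfl⟩ := hall e d he hem
    rw [hs₂.smul_left] at h0
    exact he (by rw [(mul_eq_zero.mp h0).resolve_right he₀, zero_smul, hs₂.zero_left])
  rcases hdich e d hem e₁ d₁ he₁ hm₁ with ⟨r, rfl⟩ | h1
  · rw [hs₂.smul_right, hw₁', mul_eq_zero] at hwe
    exact hwe.elim (fun h => he (by rw [(map_eq_zero_iff σ σ.injective).mp h, zero_smul, hs₂.zero_left]))
      (mul_ne_zero hr₁0 he₁)
  -- `e` lies in the orthogonal of the pair, so it is a multiple of `e₂`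
  rw [hw, hs₂.add_left, hs₂.add_left, hs₂.smul_left, hs₂.smul_left, hs₂.smul_left,
    unitary_orth_symm hf₂ h0, unitary_orth_symm hf₂ h1, mul_zero, mul_zero, zero_add, zero_add] at hwe
  rcases mul_eq_zero.mp hwe with h | h
  · rw [h, zero_mul, eq_comm, div_eq_zero_iff, sub_eq_zero] at hr₂
    exact hr₂.elim hk1 he₂
  have hli : ∀ p : Fin b → F, f₂ p e₀ = 0 → f₂ p e₁ = 0 → f₂ p e₂ = 0 → p = 0 := by
    intro p h0 h1 h2
    have hspan : Submodule.span F (Set.range ![e₀, e₁, e₂]) = ⊤ := by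
      refine LinearIndependent.span_eq_top_of_card_eq_finrank ?_ (by simp [hb3])
      rw [Fintype.linearIndependent_iff]
      intro c hc
      rw [Fin.sum_univ_three] at hc
      simp only [Matrix.cons_val_zero, Matrix.cons_val_one, Matrix.cons_val_two, Matrix.head_cons,
        Matrix.tail_cons] at hc
      have c0 := congrArg (fun v => f₂ v e₀) hc
      have c1 := congrArg (fun v => f₂ v e₁) hc
      have c2 := congrArg (fun v => f₂ v e₂) hc
      simp only [hs₂.add_left, hs₂.smul_left, hs₂.zero_left, he₁₀, he₂₀, he₂₁, unitary_orth_symm hf₂ he₁₀,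
        unitary_orth_symm hf₂ he₂₀, unitary_orth_symm hf₂ he₂₁, mul_zero, add_zero, zero_add, mul_eq_zero,
        he₀, he₁, he₂, or_false] at c0 c1 c2
      intro i
      fin_cases i <;> assumption
    by_contra hp
    obtain ⟨x, hx⟩ := (hf₂.nondegenerate p hp).2
    have hxs : x ∈ Submodule.span F (Set.range ![e₀, e₁, e₂]) := hspan ▸ Submodule.mem_top
    obtain ⟨c, rfl⟩ := Submodule.mem_span_range_iff_exists_fun _ |>.mp hxs
    rw [Fin.sum_univ_three] at hx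
    simp [hs₂.add_right, hs₂.smul_right, h0, h1, h2] at hx
  exact he (by rw [hli e h0 h1 (unitary_orth_symm hf₂ h), hs₂.zero_left])

end CfsgLib.TensorUnitary
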