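import Cfsg.Agent.TensorUnitary.Generate
import Cfsg.Agent.TensorUnitary.TwoFactor
import Cfsg.Agent.TensorUnitary.ThreeFactor
import Cfsg.Agent.TensorMax.Transport
import Cfsg.Agent.MaxSub.UnitaryCircle
import Cfsg.Agent.MaxSub.UnitaryCentres
import Cfsg.Agent.AschbacherForms.FormTensor

/-!
# Maximality of stabilisers of tensor decompositions in special unitary groups
-/

set_option autoImplicit false
set_option linter.unusedSectionVars false

namespace CfsgLib.TensorUnitary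

open Matrix Cfsg.Geo CfsgLib.MaxSub CfsgLib.TensorMax
open scoped Kronecker

variable {F : Type*} [Field F] {a b : ℕ} {σ : F ≃+* F}
  {f₁ : (Fin a → F) → (Fin a → F) → F} {f₂ : (Fin b → F) → (Fin b → F) → F}

theorem formOfGram_kron_eq (hf₂ : IsUnitaryForm σ f₂) (v w : Idx a b → F) :
    formOfGram (σ : F → F) (gramMatrix f₁ ⊗ₖ gramMatrix f₂) v w = form f₁ f₂ v w := by
  simp only [formOfGram, form, Fintype.sum_prod_type, kroneckerMap_apply, gramMatrix]
  refine Finset.sum_congr rfl fun i _ => ?_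
  rw [Finset.sum_comm]
  refine Finset.sum_congr rfl fun j _ => ?_
  rw [expand hf₂ (row v i) (row w j), Finset.mul_sum]
  refine Finset.sum_congr rfl fun k _ => ?_
  rw [Finset.mul_sum]
  refine Finset.sum_congr rfl fun l _ => ?_
  simp only [row]
  ring

/-- A transvection outside the stabiliser. -/
theorem tensU_lt_su [Finite F] (hf₁ : IsUnitaryForm σ f₁) (hf₂ : IsUnitaryForm σ f₂) (ha : 2 ≤ a)
    (hb : 2 ≤ b) : tensU f₁ f₂ < su (form f₁ f₂) := by
  refine lt_of_le_of_ne inf_le_right fun heq => ?_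
  have hff := isUnitary_form hf₁ hf₂
  obtain ⟨t, ht0, ht⟩ := exists_traceZero hf₁.ne_refl hf₁.involutive
  obtain ⟨u, -, hu0, hu⟩ := exists_iso_mem hf₁ ⊤
    (by rw [finrank_top, Module.finrank_pi, Fintype.card_fin]; omega)
  obtain ⟨c, -, hc0, hc⟩ := exists_iso_mem hf₂ ⊤
    (by rw [finrank_top, Module.finrank_pi, Fintype.card_fin]; omega)
  have hi : form f₁ f₂ (ten u c) (ten u c) = 0 := by rw [form_ten_ten hf₁ hf₂, hu, zero_mul]
  have hg : tv (t • ten u c) (leftVec (form f₁ f₂) (ten u c)) ∈ tensU f₁ f₂ := by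
    rw [heq]; exact tv_mem_su hff hi ht
  obtain ⟨A, B, hAB⟩ := hg.1
  have hval : ∀ x y, ((A : Matrix (Fin a) (Fin a) F) ⊗ₖ (B : Matrix (Fin b) (Fin b) F)) *ᵥ ten x y
      = ten x y + (t * (f₁ x u * f₂ y c)) • ten u c := fun x y => by
    rw [← hAB, tv_eq_pMat hff hi, add_mulVec, one_mulVec, smul_mulVec, pMat_mulVec hff, smul_smul,
      form_ten_ten hf₁ hf₂]
  obtain ⟨s, hs⟩ := scalar_of_fix_slice (T := (B : Matrix (Fin b) (Fin b) F)) hc0 fun x => by
    rw [hval, hc, mul_zero, mul_zero, zero_smul, add_zero]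
  have hB : ∀ y, s • ((B : Matrix (Fin b) (Fin b) F) *ᵥ y) = y := fun y => ten_inj_right hu0 (by
    have := hval u y
    rw [hu, zero_mul, mul_zero, zero_smul, add_zero, hs, kron_mulVec_ten, smul_mulVec, one_mulVec,
      ten_smul_left, ← ten_smul_right] at this
    exact this)
  obtain ⟨x, -, hxu, -⟩ := exists_partner hf₁ hu0 hu
  obtain ⟨y, -, hyc, -⟩ := exists_partner hf₂ hc0 hc
  have h := hval x y
  rw [hs, kron_mulVec_ten, smul_mulVec, one_mulVec, ten_smul_left, ← ten_smul_right, hB, hxu, hyc,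
    mul_one, mul_one, eq_comm, add_eq_left, smul_eq_zero, ten_eq_zero] at h
  rcases h with h | h | h
  · exact ht0 h
  · exact hu0 h
  · exact hc0 h

/-- The fixed field of the conjugation has more than two elements unless `q = 2`. -/
theorem exists_fixed_ne {F : Type*} [Field F] [Fintype F] {σ : F ≃+* F} {q : ℕ}
    (hF : Fintype.card F = q ^ 2) (hσ : ∀ x, σ x = x ^ q) (hq : q ≠ 2) :
    ∃ k : F, σ k = k ∧ k ≠ 0 ∧ k ≠ 1 := by
  classical
  have h1 := Fintype.one_lt_card (α := F)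
  have hq3 : 3 ≤ q := by
    by_contra h
    interval_cases q <;> simp_all
  obtain ⟨g, hg⟩ := IsCyclic.exists_generator (α := Fˣ)
  refine ⟨(g : F) ^ (q + 1), ?_, pow_ne_zero _ g.ne_zero, fun h => ?_⟩
  · rw [hσ, ← pow_mul, add_mul, one_mul, pow_add, ← pow_two, ← hF, FiniteField.pow_card, pow_succ,
      mul_comm]
  · have hdvd := orderOf_dvd_of_pow_eq_one (show g ^ (q + 1) = 1 from Units.ext (by simpa using h))
    rw [orderOf_eq_card_of_forall_mem_zpowers hg, Nat.card_units, Nat.card_eq_fintype_card, hF] at hdvd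
    have := Nat.le_of_dvd (by omega) hdvd
    have h3 : 3 * q ≤ q ^ 2 := by rw [pow_two]; exact Nat.mul_le_mul_right q hq3
    omega

/-- The stabiliser of a tensor decomposition `a ⊗ b` of the standard form is maximal, given slice
fixing elements in the overgroups. -/
theorem isMaximalIn_tensor_of_block {F : Type*} [Field F] [Fintype F] {σ : F ≃+* F} {n q a b : ℕ}
    (hF : Fintype.card F = q ^ 2) (hσ : ∀ x, σ x = x ^ q) (hn : 4 ≤ n) (ha : 2 ≤ a) (hab : a < b)
    (hb : 4 ≤ b ∨ a = 2 ∧ b = 3) (hex : 3 ≤ a ∨ ∃ k : F, σ k = k ∧ k ≠ 0 ∧ k ≠ 1) (e : Fin n ≃ Fin a × Fin b)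
    (P : GL (Fin n) F) {f₁ : (Fin a → F) → (Fin a → F) → F} {f₂ : (Fin b → F) → (Fin b → F) → F}
    (hf₁ : IsUnitaryForm σ f₁) (hf₂ : IsUnitaryForm σ f₂)
    (hblock : ∀ M : Subgroup (GL (Idx a b) F), tensU f₁ f₂ ≤ M → M ≤ su (form f₁ f₂) →
      ∀ g ∈ M, g ∉ tensU f₁ f₂ → HasBlock M f₁ f₂)
    (hT : IsTensorFormStructure (fun x : F => x ^ q) (Cfsg.hermForm n F q) f₁ f₂ e P) :
    IsMaximalIn (Cfsg.GU n F q ⊓ specialLinear (Fin n) F)
      (tensorProductSubgroup a b e P ⊓ (Cfsg.GU n F q ⊓ specialLinear (Fin n) F)) := by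
  have hf := isUnitaryForm_hermForm (n := n) hf₁.ne_refl hf₁.involutive hσ
  have hff := isUnitary_form hf₁ hf₂
  have hs := sesqForm_of_unitary hf
  obtain ⟨c, hc0, hT⟩ := hT
  have hστ : (fun x : F => x ^ q) = (σ : F → F) := funext fun x => (hσ x).symm
  set J := CfsgLib.AschbacherForms.coords e P with hJ
  have hform : ∀ x y, Cfsg.hermForm n F q (J x) (J y) = c * form f₁ f₂ x y := fun x y => by
    rw [← formOfGram_kron_eq hf₂, ← hστ]
    exact hT x y
  have hσc : σ c = c := by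
    obtain ⟨u, -, -, -⟩ := exists_iso_mem hf₁ ⊤
      (by rw [finrank_top, Module.finrank_pi, Fintype.card_fin]; omega)
    have hne : (Pi.single (⟨0, by omega⟩, ⟨0, by omega⟩) 1 : Idx a b → F) ≠ 0 := by simp
    obtain ⟨y, hy⟩ := (hff.nondegenerate _ hne).2
    have h := hform y (Pi.single (⟨0, by omega⟩, ⟨0, by omega⟩) 1)
    rw [hf.herm, hform, map_mul, ← hff.herm] at h
    exact mul_right_cancel₀ (unitary_ne_symm hff hy) h
  let φ : GL (Idx a b) F ≃* GL (Fin n) F := (glReindex e.symm).trans (MulAut.conj P)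
  have hφ : ∀ (g : GL (Idx a b) F) x, (φ g : Matrix (Fin n) (Fin n) F) *ᵥ J x
      = J ((g : Matrix (Idx a b) (Idx a b) F) *ᵥ x) := by
    intro g x
    show ((P * glReindex e.symm g * P⁻¹ : GL (Fin n) F) : Matrix (Fin n) (Fin n) F) *ᵥ
      ((P : Matrix (Fin n) (Fin n) F) *ᵥ (x ∘ e)) = (P : Matrix (Fin n) (Fin n) F) *ᵥ (_ ∘ e)
    rw [mulVec_mulVec, ← Units.val_mul, inv_mul_cancel_right, Units.val_mul, ← mulVec_mulVec]
    congr 1
    show (g : Matrix (Idx a b) (Idx a b) F).submatrix e.symm.symm e.symm.symm *ᵥ (x ∘ e) = _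
    rw [Equiv.symm_symm, Matrix.submatrix_mulVec_equiv, Function.comp_assoc, Equiv.self_comp_symm,
      Function.comp_id]
  have hGU : ∀ g, φ g ∈ Cfsg.GU n F q ↔ g ∈ isom (form f₁ f₂) := by
    intro g
    rw [mem_GU_iff_forall]
    refine ⟨fun h x y => ?_, fun h u v => ?_⟩
    · have := h (J x) (J y)
      rw [hφ, hφ, hform, hform] at this
      exact mul_left_cancel₀ hc0 this
    · obtain ⟨x, rfl⟩ := J.surjective u
      obtain ⟨y, rfl⟩ := J.surjective v
      rw [hφ, hφ, hform, hform, h]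
  have hdet : ∀ g, Matrix.GeneralLinearGroup.det (φ g) = Matrix.GeneralLinearGroup.det g := by
    intro g
    show Matrix.GeneralLinearGroup.det (P * glReindex e.symm g * P⁻¹) = _
    rw [map_mul, map_mul, map_inv, mul_comm (Matrix.GeneralLinearGroup.det P), mul_inv_cancel_right]
    apply Units.ext
    simp only [Matrix.GeneralLinearGroup.val_det_apply]
    exact Matrix.det_reindex_self e.symm _
  have hSU : (su (form f₁ f₂)).map φ.toMonoidHom = Cfsg.GU n F q ⊓ specialLinear (Fin n) F := by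
    ext g
    constructor
    · rintro ⟨h, ⟨hh1, hh2⟩, rfl⟩
      refine ⟨(hGU h).mpr hh1, ?_⟩
      show Matrix.GeneralLinearGroup.det (φ h) = 1
      rw [hdet]; exact hh2
    · rintro ⟨hg1, hg2⟩
      refine ⟨φ.symm g, ⟨(hGU _).mp (by rw [φ.apply_symm_apply]; exact hg1), ?_⟩, φ.apply_symm_apply g⟩
      show Matrix.GeneralLinearGroup.det (φ.symm g) = 1
      rw [← hdet, φ.apply_symm_apply]; exact hg2
  have hK : (kroneckerSubgroup a b F).map φ.toMonoidHom = tensorProductSubgroup a b e P := by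
    rw [tensorProductSubgroup, Subgroup.map_map]
    rfl
  have hmax : IsMaximalIn (su (form f₁ f₂)) (tensU f₁ f₂) := by
    refine ⟨tensU_lt_su hf₁ hf₂ ha (by omega), fun M hLM hM => ?_⟩
    by_cases hne : ∃ g ∈ M, g ∉ tensU f₁ f₂
    swap
    · push Not at hne
      exact Or.inl (le_antisymm hne hLM)
    refine Or.inr (le_antisymm hM ?_)
    obtain ⟨g, hgM, hgL⟩ := hne
    refine (Subgroup.map_le_map_iff_of_injective (f := φ.toMonoidHom) φ.injective).mp ?_
    rw [hSU]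
    refine UC.su_le_of_forall_uTv hf hσ hF hn fun v hv k hk => ?_
    obtain ⟨x, rfl⟩ := J.surjective v
    have hx : form f₁ f₂ x x = 0 := by
      rw [hform] at hv
      exact (mul_eq_zero.mp hv).resolve_left hc0
    obtain ⟨m, hm, hmv⟩ := isCentre_of_overgroup hf₁ hf₂ ha hab hb hex hLM hM (hblock M hLM hM g hgM hgL) hx (k * c)
      (by rw [map_mul, hk, hσc, neg_mul])
    refine ⟨m, hm, Units.ext (Matrix.ext_iff_mulVec.mpr fun w => ?_)⟩
    obtain ⟨y, rfl⟩ := J.surjective w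
    show (φ m : Matrix (Fin n) (Fin n) F) *ᵥ J y = _
    rw [hφ, UC.uTv_mulVec hf hv, hform, hmv, add_mulVec, one_mulVec, smul_mulVec, pMat_mulVec hff,
      smul_smul, map_add, map_smul, mul_assoc]
  have h := CfsgLib.TensorMax.isMaximalIn_map φ hmax
  rwa [tensU, Subgroup.map_inf _ _ _ φ.injective, hSU, hK] at h

/-- The stabiliser of a tensor decomposition `a ⊗ b` of the standard form, `a < b`, `5 ≤ b`,
`(a, q) ≠ (2, 2)`, is maximal in the special unitary group. -/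
theorem isMaximalIn_tensor {F : Type*} [Field F] [Fintype F] {σ : F ≃+* F} {n q a b : ℕ}
    (hF : Fintype.card F = q ^ 2) (hσ : ∀ x, σ x = x ^ q) (hn : 4 ≤ n) (ha : 2 ≤ a) (hab : a < b)
    (hb : 5 ≤ b) (hex : 3 ≤ a ∨ ∃ k : F, σ k = k ∧ k ≠ 0 ∧ k ≠ 1) (e : Fin n ≃ Fin a × Fin b)
    (P : GL (Fin n) F) {f₁ : (Fin a → F) → (Fin a → F) → F} {f₂ : (Fin b → F) → (Fin b → F) → F}
    (hf₁ : IsUnitaryForm σ f₁) (hf₂ : IsUnitaryForm σ f₂)
    (hT : IsTensorFormStructure (fun x : F => x ^ q) (Cfsg.hermForm n F q) f₁ f₂ e P) :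
    IsMaximalIn (Cfsg.GU n F q ⊓ specialLinear (Fin n) F)
      (tensorProductSubgroup a b e P ⊓ (Cfsg.GU n F q ⊓ specialLinear (Fin n) F)) :=
  isMaximalIn_tensor_of_block hF hσ hn ha hab (Or.inl (by omega)) hex e P hf₁ hf₂
    (fun _ hLM hM _ hgM hgL => exists_block_fixing hf₁ hf₂ ha hab hb hLM hM hgM hgL) hT

/-- The stabiliser of a tensor decomposition `2 ⊗ 3`, `2 < q`, or `3 ⊗ 4` of the standard form is
maximal in the special unitary group. -/
theorem isMaximalIn_tensor_small {F : Type*} [Field F] [Fintype F] {σ : F ≃+* F} {n q a b : ℕ}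
    (hF : Fintype.card F = q ^ 2) (hσ : ∀ x, σ x = x ^ q) (hn : 4 ≤ n)
    (hab : a = 2 ∧ b = 3 ∧ q ≠ 2 ∨ a = 3 ∧ b = 4) (e : Fin n ≃ Fin a × Fin b)
    (P : GL (Fin n) F) {f₁ : (Fin a → F) → (Fin a → F) → F} {f₂ : (Fin b → F) → (Fin b → F) → F}
    (hf₁ : IsUnitaryForm σ f₁) (hf₂ : IsUnitaryForm σ f₂)
    (hT : IsTensorFormStructure (fun x : F => x ^ q) (Cfsg.hermForm n F q) f₁ f₂ e P) :
    IsMaximalIn (Cfsg.GU n F q ⊓ specialLinear (Fin n) F)
      (tensorProductSubgroup a b e P ⊓ (Cfsg.GU n F q ⊓ specialLinear (Fin n) F)) := by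
  have hh : Circle.IsBar q σ := ⟨hσ, hF, hf₁.ne_refl, hf₁.involutive⟩
  rcases hab with ⟨ha, hb, hq⟩ | ⟨ha, hb⟩
  · have hex := exists_fixed_ne hF hσ hq
    obtain ⟨η, hη, hη3⟩ : ∃ η : F, η * σ η = 1 ∧ η ^ 3 ≠ 1 := by
      obtain ⟨ζ, hζ, hord⟩ := Circle.exists_order hh
      exact ⟨ζ, (Circle.mem_normOne hh).mp hζ, hord 3 (by have := Circle.two_le hh; omega) (by norm_num)⟩
    exact isMaximalIn_tensor_of_block hF hσ hn (by omega) (by omega) (Or.inr ⟨ha, hb⟩) (Or.inr hex) e P hf₁ hf₂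
      (fun _ hLM hM _ hgM hgL => hasBlock_two hf₁ hf₂ hLM hM ha (by omega) ⟨η, hη, hη3⟩ hex hgM hgL) hT
  · exact isMaximalIn_tensor_of_block hF hσ hn (by omega) (by omega) (Or.inl (by omega)) (Or.inl (by omega)) e P hf₁ hf₂
      (fun _ hLM hM _ hgM hgL => hasBlock_three hf₁ hf₂ hLM hM ha hb hgM hgL) hT

end CfsgLib.TensorUnitary
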