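import Cfsg.Agent.TensorUnitary.Product

/-!
# Tensor isometries fixing a large subspace of `F^a ⊗ H` pointwise commute
-/

set_option autoImplicit false
set_option linter.unusedSectionVars false

namespace CfsgLib.TensorUnitary

open Matrix Cfsg.Geo CfsgLib.MaxSub CfsgLib.TensorMax
open scoped Kronecker

variable {F : Type*} [Field F] {a b : ℕ}

theorem row_kron_mulVec (S : Matrix (Fin a) (Fin a) F) (T : Matrix (Fin b) (Fin b) F)
    (v : Idx a b → F) (i : Fin a) : row ((S ⊗ₖ T) *ᵥ v) i = ∑ j, S i j • (T *ᵥ row v j) := by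
  funext k
  simp only [row, mulVec, dotProduct, kroneckerMap_apply, Fintype.sum_prod_type, Finset.sum_apply,
    Pi.smul_apply, smul_eq_mul, Finset.mul_sum]
  exact Finset.sum_congr rfl fun j _ => Finset.sum_congr rfl fun l _ => by ring

/-- If `S ⊗ T` fixes a whole slice `F^a ⊗ h`, then `S` is a scalar. -/
theorem scalar_of_fix_slice {S : Matrix (Fin a) (Fin a) F} {T : Matrix (Fin b) (Fin b) F}
    {h : Fin b → F} (hh : h ≠ 0) (hfix : ∀ x, (S ⊗ₖ T) *ᵥ ten x h = ten x h) :
    ∃ s : F, S = s • 1 := by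
  obtain ⟨k, hk⟩ := Function.ne_iff.mp hh
  rcases Nat.eq_zero_or_pos a with rfl | ha
  · exact ⟨0, Matrix.ext fun i => i.elim0⟩
  have hμ : (T *ᵥ h) k ≠ 0 := by
    intro h0
    have := hfix (Pi.single ⟨0, ha⟩ 1)
    rw [kron_mulVec_ten] at this
    have h1 := congrFun this (⟨0, ha⟩, k)
    simp [ten, h0] at h1
    exact hk h1.symm
  refine ⟨h k / (T *ᵥ h) k, Matrix.ext_iff_mulVec.mpr fun x => ?_⟩
  rw [smul_mulVec, one_mulVec]
  have hx := hfix x
  rw [kron_mulVec_ten] at hx
  funext i
  have h1 := congrFun hx (i, k)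
  simp only [ten] at h1
  rw [Pi.smul_apply, smul_eq_mul, div_mul_eq_mul_div, eq_div_iff hμ, h1, mul_comm]

/-- A matrix having all vectors of a subspace of dimension at least two as eigenvectors is a scalar
on it. -/
theorem exists_scalar_on {n : ℕ} {H : Submodule F (Fin n → F)} (T : Matrix (Fin n) (Fin n) F)
    (hH : H ≠ ⊥) (h : ∀ x ∈ H, ∃ k : F, T *ᵥ x = k • x) : ∃ τ : F, ∀ x ∈ H, T *ᵥ x = τ • x := by
  obtain ⟨x₀, hx₀, hx₀0⟩ := Submodule.exists_mem_ne_zero_of_ne_bot hH
  obtain ⟨τ, hτ⟩ := h x₀ hx₀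
  refine ⟨τ, fun x hx => ?_⟩
  by_cases hdep : ∃ c : F, c • x₀ = x
  · obtain ⟨c, rfl⟩ := hdep
    rw [mulVec_smul, hτ, smul_comm]
  push Not at hdep
  obtain ⟨k, hk⟩ := h x hx
  obtain ⟨l, hl⟩ := h (x₀ + x) (H.add_mem hx₀ hx)
  rw [mulVec_add, hτ, hk, smul_add] at hl
  have h1 : (τ - l) • x₀ = (l - k) • x := by linear_combination (norm := module) hl
  rcases eq_or_ne (l - k) 0 with h0 | h0
  · rw [h0, zero_smul, smul_eq_zero, sub_eq_zero] at h1
    rcases h1 with h1 | h1
    · rw [hk, h1, sub_eq_zero.mp h0]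
    · exact absurd h1 hx₀0
  · exact absurd (by rw [mul_smul, h1, smul_smul, inv_mul_cancel₀ h0, one_smul])
      (hdep ((l - k)⁻¹ * (τ - l)))

variable {σ : F ≃+* F} {f₁ : (Fin a → F) → (Fin a → F) → F} {f₂ : (Fin b → F) → (Fin b → F) → F}

/-- Tensor isometries fixing pointwise a subspace `N ≤ F^a ⊗ H` of codimension at most `a`, whose rows
span `H`, commute, provided `H ⊇ H⊥` is big. -/
theorem commute_of_fix (hf₁ : IsUnitaryForm σ f₁) (hf₂ : IsUnitaryForm σ f₂) (ha : 2 ≤ a)
    {H : Submodule F (Fin b → F)} (hk3 : 3 ≤ Module.finrank F H) (hka : a < 2 * Module.finrank F H)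
    (hkb : b < 2 * Module.finrank F H)
    (hrad : ∀ z, (∀ h ∈ H, f₂ z h = 0) → z ∈ H) {N : Submodule F (Idx a b → F)}
    (hN : N ≤ rowsIn a H) (hdim : a * Module.finrank F H ≤ Module.finrank F N + a)
    (hsupp : ∀ H' : Submodule F (Fin b → F), H' ≤ H → N ≤ rowsIn a H' → H' = H)
    {l₁ l₂ : GL (Idx a b) F} (h₁ : l₁ ∈ tensU f₁ f₂) (h₂ : l₂ ∈ tensU f₁ f₂)
    (hfix₁ : ∀ v ∈ N, (l₁ : Matrix (Idx a b) (Idx a b) F) *ᵥ v = v)
    (hfix₂ : ∀ v ∈ N, (l₂ : Matrix (Idx a b) (Idx a b) F) *ᵥ v = v) : l₁ * l₂ = l₂ * l₁ := by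
  classical
  have hs₁ := sesqForm_of_unitary hf₁
  have hs₂ := sesqForm_of_unitary hf₂
  set k := Module.finrank F H with hk
  -- the left support
  let W₀ : Submodule F (Fin a → F) :=
    Submodule.span F {x | ∃ v ∈ N, ∃ w, x = ev f₂ w v}
  have hW₀ : ∀ v ∈ N, ∀ w, ev f₂ w v ∈ W₀ := fun v hv w => Submodule.subset_span ⟨v, hv, w, rfl⟩
  -- dimension of the left support
  have hW₀dim : a ≤ Module.finrank F W₀ + 1 := by
    let bH := Module.finBasis F H
    choose φ hφ using fun j => (bH.coord j).exists_extend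
    choose w hw using fun j => hs₂.leftVec_surjective (fun i => φ j (Pi.single i 1))
    have hφw : ∀ j (y : Fin b → F), φ j y = f₂ y (w j) := by
      intro j y
      rw [← hs₂.dot_leftVec, hw j, (φ j).pi_apply_eq_sum_univ y, dotProduct]
      refine Finset.sum_congr rfl fun i _ => ?_
      rw [smul_eq_mul, mul_comm]
      congr 2
      funext l
      simp [Pi.single_apply, eq_comm]
    let Φ : N →ₗ[F] (Fin k → W₀) :=
      { toFun := fun v j => ⟨ev f₂ (w j) (v : Idx a b → F), hW₀ _ v.2 _⟩
        map_add' := fun u v => funext fun j => Subtype.ext (ev_add hf₂ _ _ _)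
        map_smul' := fun c v => funext fun j => Subtype.ext (ev_smul hf₂ _ _ _) }
    have hΦ : Function.Injective Φ := by
      rw [injective_iff_map_eq_zero]
      intro v hv
      refine Subtype.ext (funext fun ⟨i, l⟩ => ?_)
      have hrow : (⟨row (v : Idx a b → F) i, hN v.2 i⟩ : H) = 0 := by
        refine bH.ext_elem fun j => ?_
        have h1 : f₂ (row (v : Idx a b → F) i) (w j) = 0 :=
          congrFun (congrArg Subtype.val (congrFun hv j)) i
        rw [← hφw] at h1
        rw [map_zero, Finsupp.coe_zero, Pi.zero_apply, ← h1, ← Module.Basis.coord_apply,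
          ← LinearMap.congr_fun (hφ j) _]
        rfl
      exact congrFun (congrArg Subtype.val hrow) l
    have h := LinearMap.finrank_le_finrank_of_injective hΦ
    rw [Module.finrank_pi_fintype, Finset.sum_const, Finset.card_univ, Fintype.card_fin, smul_eq_mul] at h
    by_contra hcon
    have h2 : k * Module.finrank F W₀ + 2 * k ≤ a * k := by
      rw [mul_comm 2, ← Nat.mul_add, mul_comm a]
      exact Nat.mul_le_mul_left _ (by omega)
    omega
  -- the shape of an element fixing `N`
  have shape : ∀ l ∈ tensU f₁ f₂, (∀ v ∈ N, (l : Matrix (Idx a b) (Idx a b) F) *ᵥ v = v) →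
      ∃ (S : Matrix (Fin a) (Fin a) F) (T : Matrix (Fin b) (Fin b) F),
        (l : Matrix (Idx a b) (Idx a b) F) = S ⊗ₖ T ∧ (∀ x ∈ W₀, S *ᵥ x = x) ∧ (∀ y ∈ H, T *ᵥ y = y) := by
    intro l hl hfix
    obtain ⟨S₀, T₀, hl0⟩ := hl.1
    set S := (S₀ : Matrix (Fin a) (Fin a) F)
    set T := (T₀ : Matrix (Fin b) (Fin b) F)
    rw [hl0] at hfix
    have hTinj : Function.Injective T.mulVec := mulVec_injective_iff_isUnit.mpr T₀.isUnit
    have hHT : H.map T.mulVecLin = H := by
      have hle : N ≤ rowsIn a (H ⊓ H.map T.mulVecLin) := fun v hv i =>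
        ⟨hN hv i, by
          have hr := congrArg (fun z => row z i) (hfix v hv)
          simp only [row_kron_mulVec] at hr
          rw [← hr]
          exact Submodule.sum_mem _ fun j _ => Submodule.smul_mem _ _ ⟨_, hN hv j, rfl⟩⟩
      have h1 := hsupp _ inf_le_left hle
      refine (Submodule.eq_of_le_of_finrank_le (inf_eq_left.mp h1) ?_).symm
      exact (Submodule.finrank_map_le _ _)
    have hnorm : ∀ s : F, s ≠ 0 → (∀ x ∈ W₀, S *ᵥ x = s • x) → (∀ y ∈ H, T *ᵥ y = s⁻¹ • y) →
        ∃ (S' : Matrix (Fin a) (Fin a) F) (T' : Matrix (Fin b) (Fin b) F),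
          (l : Matrix (Idx a b) (Idx a b) F) = S' ⊗ₖ T' ∧ (∀ x ∈ W₀, S' *ᵥ x = x) ∧
            (∀ y ∈ H, T' *ᵥ y = y) := fun s hs0 hS hT =>
      ⟨s⁻¹ • S, s • T, by rw [hl0, smul_kronecker, kronecker_smul, smul_smul, inv_mul_cancel₀ hs0, one_smul],
        fun x hx => by rw [smul_mulVec, hS x hx, smul_smul, inv_mul_cancel₀ hs0, one_smul],
        fun y hy => by rw [smul_mulVec, hT y hy, smul_smul, mul_inv_cancel₀ hs0, one_smul]⟩
    by_cases hsc : ∃ s : F, S = s • 1
    · obtain ⟨s, hs⟩ := hsc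
      have hs0 : s ≠ 0 := by
        rintro rfl
        have hz : S = 0 := by rw [hs, zero_smul]
        have hu := S₀.isUnit
        change IsUnit S at hu
        rw [hz] at hu
        have : NeZero a := ⟨by omega⟩
        exact not_isUnit_zero hu
      refine hnorm s hs0 (fun x _ => by rw [hs, smul_mulVec, one_mulVec]) fun y hy => ?_
      have hle : N ≤ rowsIn a (H ⊓ LinearMap.ker (s • T - 1).mulVecLin) := fun v hv i => by
        refine ⟨hN hv i, ?_⟩
        have hr := congrArg (fun z => row z i) (hfix v hv)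
        simp only [row_kron_mulVec, hs, Matrix.smul_apply, Matrix.one_apply, smul_eq_mul, mul_ite, mul_one,
          mul_zero, ite_smul, zero_smul, Finset.sum_ite_eq, Finset.mem_univ, if_true] at hr
        show (s • T - 1) *ᵥ row v i = 0
        rw [sub_mulVec, smul_mulVec, one_mulVec, hr, sub_self]
      have h1 := hsupp _ inf_le_left hle
      have hy' : (s • T - 1) *ᵥ y = 0 := (inf_eq_left.mp h1) hy
      rw [sub_mulVec, smul_mulVec, one_mulVec, sub_eq_zero] at hy'
      calc T *ᵥ y = s⁻¹ • (s • (T *ᵥ y)) := by rw [smul_smul, inv_mul_cancel₀ hs0, one_smul]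
        _ = s⁻¹ • y := by rw [hy']
    -- every plane of `H` is invariant
    have hplane : ∀ h₁ ∈ H, ∀ h₂ ∈ H, (∀ c : F, c • h₁ ≠ h₂) → h₁ ≠ 0 →
        T *ᵥ h₁ ∈ Submodule.span F {h₁, h₂} := by
      intro h₁ hh₁ h₂ hh₂ hind hne
      let Ψ : ((Fin a → F) × (Fin a → F)) →ₗ[F] (Idx a b → F) :=
        { toFun := fun p => ten p.1 h₁ + ten p.2 h₂
          map_add' := fun p q => by
            simp only [Prod.fst_add, Prod.snd_add, ten_add_left]; abel
          map_smul' := fun c p => by
            simp only [Prod.smul_fst, Prod.smul_snd, ten_smul_left, smul_add, RingHom.id_apply] }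
      have hΨ : Function.Injective Ψ := by
        rw [injective_iff_map_eq_zero]
        rintro ⟨x₁, x₂⟩ hx
        obtain ⟨α, hα1, hα2⟩ := exists_dot_eq_zero_one hind
        have hrow : ∀ i, x₁ i • h₁ + x₂ i • h₂ = 0 := fun i => congrArg (fun z => row z i) hx
        have hx2 : x₂ = 0 := funext fun i => by
          have := congrArg (α ⬝ᵥ ·) (hrow i)
          simp only [dotProduct_add, dotProduct_smul, dotProduct_zero, smul_eq_mul] at this
          rw [dotProduct_comm α h₁, dotProduct_comm α h₂, hα1, hα2] at this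
          simpa using this
        refine Prod.ext (funext fun i => ?_) hx2
        have := hrow i
        rw [hx2, Pi.zero_apply, zero_smul, add_zero] at this
        exact (smul_eq_zero.mp this).resolve_right hne
      let U := N.comap Ψ
      have hU : a ≤ Module.finrank F U := by
        have hr : LinearMap.range Ψ ≤ rowsIn a H := by
          rintro _ ⟨p, rfl⟩
          exact (rowsIn a H).add_mem (ten_mem_rowsIn _ hh₁) (ten_mem_rowsIn _ hh₂)
        have h1 := Submodule.finrank_sup_add_finrank_inf_eq (LinearMap.range Ψ) N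
        have h2 := Submodule.finrank_mono (sup_le hr hN)
        rw [finrank_rowsIn, ← hk] at h2
        rw [LinearMap.finrank_range_of_inj hΨ, Module.finrank_prod, Module.finrank_fin_fun] at h1
        have h3 : Module.finrank F ↥(LinearMap.range Ψ ⊓ N) = Module.finrank F U := by
          rw [← Submodule.map_comap_eq, (Submodule.equivMapOfInjective Ψ hΨ U).finrank_eq]
        omega
      by_cases hr2 : ∃ p ∈ U, p.1 ≠ 0 ∧ ∀ c : F, c • p.1 ≠ p.2
      · -- a rank two vector pins the plane
        obtain ⟨⟨x₁, x₂⟩, hp, hx1, hx2⟩ := hr2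
        have hfixp := hfix _ hp
        simp only [Ψ, LinearMap.coe_mk, AddHom.coe_mk, mulVec_add, kron_mulVec_ten] at hfixp
        obtain ⟨l₁, h11, h12⟩ := exists_dot_eq_zero_one hx2
        have hT2 : ∀ l : Fin a → F, (l ⬝ᵥ (S *ᵥ x₁)) • (T *ᵥ h₁) + (l ⬝ᵥ (S *ᵥ x₂)) • (T *ᵥ h₂)
            = (l ⬝ᵥ x₁) • h₁ + (l ⬝ᵥ x₂) • h₂ := by
          intro l
          have := congrArg (fun z => ∑ i, l i • row z i) hfixp
          simpa [dotProduct, Finset.sum_smul, row, ten, smul_add, Finset.sum_add_distrib, smul_smul,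
            show ∀ (u w : Idx a b → F) i, row (u + w) i = row u i + row w i from fun _ _ _ => rfl,
            row_ten] using this
        set Z := Submodule.span F ({h₁, h₂} : Set (Fin b → F))
        have hZ1 : h₁ ∈ Z.map T.mulVecLin := by
          obtain ⟨l, hl⟩ : ∃ l : Fin a → F, l ⬝ᵥ x₁ = 1 ∧ l ⬝ᵥ x₂ = 0 := by
            obtain ⟨l', h1', h2'⟩ := exists_dot_eq_zero_one (a := x₂) (b := x₁) (fun c hc => by
              rcases eq_or_ne c 0 with rfl | hc0
              · exact hx1 (by simpa using hc.symm)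
              · exact hx2 c⁻¹ (by rw [← hc, smul_smul, inv_mul_cancel₀ hc0, one_smul]))
            first
            | exact ⟨l', h2', h1'⟩
            | exact ⟨l', by rw [dotProduct_comm, h2'], by rw [dotProduct_comm, h1']⟩
          have := hT2 l
          rw [hl.1, hl.2, one_smul, zero_smul, add_zero] at this
          rw [← this]
          exact ⟨_, Z.add_mem (Z.smul_mem _ (Submodule.subset_span (Set.mem_insert _ _)))
            (Z.smul_mem _ (Submodule.subset_span (Set.mem_insert_of_mem _ rfl))), by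
              rw [mulVecLin_apply, mulVec_add, mulVec_smul, mulVec_smul]⟩
        have hZ2 : h₂ ∈ Z.map T.mulVecLin := by
          have h11' : l₁ ⬝ᵥ x₁ = 0 := by first | exact h11 | (rw [dotProduct_comm]; exact h11)
          have h12' : l₁ ⬝ᵥ x₂ = 1 := by first | exact h12 | (rw [dotProduct_comm]; exact h12)
          have := hT2 l₁
          rw [h11', h12', one_smul, zero_smul, zero_add] at this
          rw [← this]
          exact ⟨_, Z.add_mem (Z.smul_mem _ (Submodule.subset_span (Set.mem_insert _ _)))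
            (Z.smul_mem _ (Submodule.subset_span (Set.mem_insert_of_mem _ rfl))), by
              rw [mulVecLin_apply, mulVec_add, mulVec_smul, mulVec_smul]⟩
        have hle : Z ≤ Z.map T.mulVecLin := Submodule.span_le.mpr
          (Set.insert_subset_iff.mpr ⟨hZ1, Set.singleton_subset_iff.mpr hZ2⟩)
        rw [Submodule.eq_of_le_of_finrank_le hle (Submodule.finrank_map_le _ _)]
        exact ⟨h₁, Submodule.subset_span (Set.mem_insert _ _), rfl⟩
      push Not at hr2
      by_cases hK : ∃ z, z ≠ 0 ∧ ((0, z) : (Fin a → F) × (Fin a → F)) ∈ U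
      · obtain ⟨z, hz, hzU⟩ := hK
        by_cases hp : ∀ p ∈ U, p.1 = 0
        · -- the slice `F^a ⊗ h₂` is fixed
          exfalso
          have hsub : U ≤ LinearMap.range (LinearMap.inr F (Fin a → F) (Fin a → F)) := fun p hpU =>
            ⟨p.2, Prod.ext (hp p hpU).symm rfl⟩
          have hUeq : U = LinearMap.range (LinearMap.inr F (Fin a → F) (Fin a → F)) := by
            refine Submodule.eq_of_le_of_finrank_le hsub ?_
            rw [LinearMap.finrank_range_of_inj LinearMap.inr_injective, Module.finrank_fin_fun]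
            exact hU
          refine hsc (scalar_of_fix_slice (T := T) (h := h₂) (fun h => hind 0 (by rw [h, zero_smul])) fun x => ?_)
          have hx : ((0, x) : (Fin a → F) × (Fin a → F)) ∈ U := hUeq ▸ ⟨x, rfl⟩
          have := hfix _ hx
          simpa [Ψ, ten_eq_zero.mpr (Or.inl rfl)] using this
        push Not at hp
        -- all first components lie on the line through `z`
        have hline : ∀ p ∈ U, p.1 ∈ Submodule.span F {z} := by
          intro p hpU
          rcases eq_or_ne p.1 0 with h0 | h0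
          · rw [h0]; exact Submodule.zero_mem _
          obtain ⟨c, hc⟩ := hr2 p hpU h0
          obtain ⟨c', hc'⟩ := hr2 _ (U.add_mem hpU hzU) (by simpa using h0)
          simp only [Prod.fst_add, Prod.snd_add, add_zero] at hc'
          have hz' : (c' - c) • p.1 = z := by rw [sub_smul, hc, hc', add_sub_cancel_left]
          have hne : c' - c ≠ 0 := fun h => hz (by rw [← hz', h, zero_smul])
          exact Submodule.mem_span_singleton.mpr ⟨(c' - c)⁻¹, by
            rw [← hz', smul_smul, inv_mul_cancel₀ hne, one_smul]⟩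
        obtain ⟨p, hpU, hp0⟩ := hp
        obtain ⟨c, hc⟩ := Submodule.mem_span_singleton.mp (hline p hpU)
        obtain ⟨d, hd⟩ := hr2 p hpU hp0
        have hzz : ((z, 0) : (Fin a → F) × (Fin a → F)) ∈ U := by
          have hc0 : c ≠ 0 := fun h => hp0 (by rw [← hc, h, zero_smul])
          have := U.smul_mem c⁻¹ (U.sub_mem hpU (U.smul_mem (d * c) hzU))
          convert this using 1
          refine Prod.ext ?_ ?_
          · simp [← hc, smul_smul, inv_mul_cancel₀ hc0]
          · simp [← hd, ← hc, smul_smul]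
        have hf := hfix _ hzz
        simp only [Ψ, LinearMap.coe_mk, AddHom.coe_mk, ten_eq_zero.mpr (Or.inl rfl), add_zero,
          kron_mulVec_ten] at hf
        obtain ⟨i, hi⟩ := Function.ne_iff.mp hz
        have hf' := congrArg (fun v => row v i) hf
        simp only [row_ten] at hf'
        have hSz : (S *ᵥ z) i ≠ 0 := fun h0 => hne (by
          rw [h0, zero_smul] at hf'
          exact (smul_eq_zero.mp hf'.symm).resolve_left hi)
        refine Submodule.mem_span_pair.mpr ⟨z i / (S *ᵥ z) i, 0, ?_⟩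
        rw [zero_smul, add_zero, div_eq_inv_mul, mul_smul, ← hf', smul_smul, inv_mul_cancel₀ hSz, one_smul]
      · -- a slice is fixed
        exfalso
        push Not at hK
        let π : U →ₗ[F] (Fin a → F) := (LinearMap.fst F _ _).domRestrict U
        have hπ : Function.Injective π := by
          rw [injective_iff_map_eq_zero]
          rintro ⟨⟨x₁, x₂⟩, hx⟩ h0
          change x₁ = 0 at h0
          subst h0
          have h2 : x₂ = 0 := by
            by_contra h
            exact hK x₂ h hx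
          subst h2
          rfl
        have hπs : Function.Surjective π := by
          rw [← LinearMap.range_eq_top]
          refine Submodule.eq_top_of_finrank_eq (le_antisymm (Submodule.finrank_le _) ?_)
          rw [LinearMap.finrank_range_of_inj hπ, Module.finrank_fin_fun]
          exact hU
        choose g hg using hπs
        have hgg : ∀ x, (g x).1.1 = x := hg
        have hdep : ∀ x, ∃ c : F, c • x = (g x).1.2 := by
          intro x
          rcases eq_or_ne x 0 with rfl | hx
          · refine ⟨0, ?_⟩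
            have : g 0 = 0 := hπ (by rw [hg, map_zero])
            simp [this]
          · obtain ⟨c, hc⟩ := hr2 _ (g x).2 (by rw [hgg]; exact hx)
            exact ⟨c, by rwa [hgg] at hc⟩
        choose c hc using hdep
        obtain ⟨τ, hτ⟩ : ∃ τ : F, ∀ x, (g x).1.2 = τ • x := by
          rcases Nat.eq_zero_or_pos a with rfl | ha'
          · omega
          refine ⟨c (Pi.single ⟨0, ha'⟩ 1), fun x => ?_⟩
          rw [← hc]
          set e : Fin a → F := Pi.single ⟨0, ha'⟩ 1
          by_cases hd : ∃ r : F, r • e = x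
          · obtain ⟨r, rfl⟩ := hd
            have : g (r • e) = r • g e := hπ (by rw [hg, map_smul, hg])
            rw [hc, this, SetLike.val_smul, Prod.smul_snd, ← hc, smul_comm]
          push Not at hd
          have hadd : g (e + x) = g e + g x := hπ (by rw [hg, map_add, hg, hg])
          have h := congrArg (fun p : U => p.1.2) hadd
          simp only [Submodule.coe_add, Prod.snd_add, ← hc, smul_add] at h
          have h1 : (c (e + x) - c e) • e = (c x - c (e + x)) • x := by
            linear_combination (norm := module) h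
          have he0 : e ≠ 0 := by simp [e]
          rcases eq_or_ne (c x - c (e + x)) 0 with h0 | h0
          · rw [h0, zero_smul, smul_eq_zero, sub_eq_zero] at h1
            rcases h1 with h1 | h1
            · rw [sub_eq_zero.mp h0, h1]
            · exact absurd h1 he0
          · exact absurd (by rw [mul_smul, h1, smul_smul, inv_mul_cancel₀ h0, one_smul])
              (hd ((c x - c (e + x))⁻¹ * (c (e + x) - c e)))
        refine hsc (scalar_of_fix_slice (T := T) (h := h₁ + τ • h₂) (fun h => ?_) fun x => ?_)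
        · rcases eq_or_ne τ 0 with h0 | h0
          · exact hne (by rwa [h0, zero_smul, add_zero] at h)
          · exact hind (-τ⁻¹) (by
              rw [neg_smul, eq_neg_of_add_eq_zero_left h, smul_neg, neg_neg, smul_smul, inv_mul_cancel₀ h0,
                one_smul])
        · have hv := hfix _ (g x).2
          simp only [Ψ, LinearMap.coe_mk, AddHom.coe_mk, hgg, hτ, ten_smul_left, ← ten_smul_right,
            ← ten_add_right] at hv
          exact hv
    -- `T` is a scalar on `H`
    have heig : ∀ h ∈ H, ∃ c : F, T *ᵥ h = c • h := by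
      intro h hh
      rcases eq_or_ne h 0 with rfl | h0
      · exact ⟨0, by rw [mulVec_zero, smul_zero]⟩
      obtain ⟨p, hpH, hp⟩ := SetLike.exists_of_lt (show Submodule.span F {h} < H from
        lt_of_le_of_ne ((Submodule.span_singleton_le_iff_mem _ _).mpr hh) fun e => by
          rw [hk, ← e, finrank_span_singleton h0] at hk3; omega)
      obtain ⟨q, hqH, hq⟩ := SetLike.exists_of_lt (show Submodule.span F {h, p} < H from
        lt_of_le_of_ne (Submodule.span_le.mpr (Set.insert_subset_iff.mpr ⟨hh, Set.singleton_subset_iff.mpr hpH⟩))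
          fun e => by
            have := finrank_span_le_card (R := F) ({h, p} : Set (Fin b → F))
            rw [hk, ← e] at hk3
            have hcard : ({h, p} : Set (Fin b → F)).toFinset.card ≤ 2 := by
              rw [Set.toFinset_insert, Set.toFinset_singleton]
              exact Finset.card_le_two
            omega)
      have h1 := hplane h hh p hpH (fun c hc => hp (Submodule.mem_span_singleton.mpr ⟨c, hc⟩)) h0
      have h2 := hplane h hh q hqH (fun c hc => hq (Submodule.mem_span_pair.mpr ⟨c, 0, by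
        rw [hc, zero_smul, add_zero]⟩)) h0
      obtain ⟨c1, d1, e1⟩ := Submodule.mem_span_pair.mp h1
      obtain ⟨c2, d2, e2⟩ := Submodule.mem_span_pair.mp h2
      refine ⟨c2, ?_⟩
      rcases eq_or_ne d2 0 with h20 | h20
      · rw [← e2, h20, zero_smul, add_zero]
      · exfalso
        refine hq (Submodule.mem_span_pair.mpr ⟨d2⁻¹ * (c1 - c2), d2⁻¹ * d1, ?_⟩)
        rw [mul_smul, mul_smul, ← smul_add, sub_smul, sub_add_eq_add_sub, e1, ← e2, add_sub_cancel_left,
          smul_smul, inv_mul_cancel₀ h20, one_smul]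
    obtain ⟨τ, hτ⟩ := exists_scalar_on T (fun e => by rw [hk, e, finrank_bot] at hk3; omega) heig
    have hτ0 : τ ≠ 0 := by
      rintro rfl
      obtain ⟨h, hh, h0⟩ := Submodule.exists_mem_ne_zero_of_ne_bot
        (show H ≠ ⊥ from fun e => by rw [hk, e, finrank_bot] at hk3; omega)
      exact h0 (hTinj (by rw [mulVec_zero, hτ h hh, zero_smul]))
    refine hnorm τ⁻¹ (inv_ne_zero hτ0) (fun x hx => ?_) fun y hy => by rw [inv_inv, hτ y hy]
    induction hx using Submodule.span_induction with
    | mem x hx =>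
      obtain ⟨v, hv, w, rfl⟩ := hx
      funext i
      have hr : ∀ i, row v i = ∑ j, (τ * S i j) • row v j := by
        intro i
        conv_lhs => rw [← hfix v hv, row_kron_mulVec]
        exact Finset.sum_congr rfl fun j _ => by rw [hτ _ (hN hv j), smul_smul, mul_comm]
      rw [Pi.smul_apply, smul_eq_mul]
      refine (eq_inv_mul_iff_mul_eq₀ hτ0).mpr ?_
      show τ * (S *ᵥ ev f₂ w v) i = f₂ (row v i) w
      rw [hr i]
      simp only [mulVec, dotProduct, ev, Finset.mul_sum]
      rw [← hs₂.dot_leftVec, dotProduct_sum]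
      refine Finset.sum_congr rfl fun j _ => ?_
      rw [dotProduct_smul, hs₂.dot_leftVec, smul_eq_mul]
      ring
    | zero => rw [mulVec_zero, smul_zero]
    | add x y _ _ hx hy => rw [mulVec_add, hx, hy, smul_add]
    | smul c x _ hx => rw [mulVec_smul, hx, smul_comm]
  obtain ⟨S, T, hl₁, hS, hT⟩ := shape l₁ h₁ hfix₁
  obtain ⟨S', T', hl₂, hS', hT'⟩ := shape l₂ h₂ hfix₂
  -- both factors are isometries
  obtain ⟨h₀, hh₀, hh₀n⟩ := exists_noniso hf₂ H (by rw [Fintype.card_fin, ← hk]; exact hkb)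
  have iso : ∀ l ∈ tensU f₁ f₂, ∀ (S : Matrix (Fin a) (Fin a) F) (T : Matrix (Fin b) (Fin b) F),
      (l : Matrix (Idx a b) (Idx a b) F) = S ⊗ₖ T → (∀ y ∈ H, T *ᵥ y = y) →
      (∀ x x', f₁ (S *ᵥ x) (S *ᵥ x') = f₁ x x') ∧ ∀ y y', f₂ (T *ᵥ y) (T *ᵥ y') = f₂ y y' := by
    intro l hl S T hlST hT
    have hten : ∀ x x' y y', f₁ (S *ᵥ x) (S *ᵥ x') * f₂ (T *ᵥ y) (T *ᵥ y') = f₁ x x' * f₂ y y' := by
      intro x x' y y'
      have := hl.2.1 (ten x y) (ten x' y')
      rwa [hlST, kron_mulVec_ten, kron_mulVec_ten, form_ten_ten hf₁ hf₂, form_ten_ten hf₁ hf₂] at this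
    have hSiso : ∀ x x', f₁ (S *ᵥ x) (S *ᵥ x') = f₁ x x' := by
      intro x x'
      have := hten x x' h₀ h₀
      rw [hT h₀ hh₀] at this
      exact mul_right_cancel₀ hh₀n this
    refine ⟨hSiso, fun y y' => ?_⟩
    have ha0 : (Pi.single (⟨0, by omega⟩ : Fin a) (1 : F)) ≠ (0 : Fin a → F) := by simp
    obtain ⟨x, hx⟩ := (hf₁.nondegenerate _ ha0).2
    have := hten (Pi.single ⟨0, by omega⟩ 1) x y y'
    rw [hSiso] at this
    exact mul_left_cancel₀ hx this
  obtain ⟨hSi, hTi⟩ := iso l₁ h₁ S T hl₁ hT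
  obtain ⟨hSi', hTi'⟩ := iso l₂ h₂ S' T' hl₂ hT'
  have hTT : T * T' = T' * T := by
    have key : ∀ T : Matrix (Fin b) (Fin b) F, (∀ y ∈ H, T *ᵥ y = y) →
        (∀ y y', f₂ (T *ᵥ y) (T *ᵥ y') = f₂ y y') → ∀ y, T *ᵥ y - y ∈ H := fun T hT hTi y =>
      hrad _ fun h hh => by
        rw [hs₂.sub_left]
        conv_lhs => arg 1; rw [← hT h hh]
        rw [hTi, sub_self]
    refine Matrix.ext_iff_mulVec.mpr fun y => ?_
    have e : ∀ T T' : Matrix (Fin b) (Fin b) F, (∀ y ∈ H, T *ᵥ y = y) → T' *ᵥ y - y ∈ H →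
        T *ᵥ (T' *ᵥ y) = T *ᵥ y + (T' *ᵥ y - y) := fun T T' hT h => by
      rw [← hT _ h, ← mulVec_add, add_sub_cancel]
    rw [← mulVec_mulVec, ← mulVec_mulVec, e T T' hT (key T' hT' hTi' y), e T' T hT' (key T hT hTi y)]
    abel
  have hSS : S * S' = S' * S := by
    by_cases hW : W₀ = ⊤
    · have e : ∀ S : Matrix (Fin a) (Fin a) F, (∀ x ∈ W₀, S *ᵥ x = x) → S = 1 := fun S hS =>
        Matrix.ext_iff_mulVec.mpr fun x => by rw [one_mulVec, hS x (hW ▸ Submodule.mem_top)]
      rw [e S hS, e S' hS']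
    obtain ⟨e, -, he⟩ := SetLike.exists_of_lt (lt_top_iff_ne_top.mpr hW)
    have hspan : W₀ ⊔ Submodule.span F {e} = ⊤ := by
      refine Submodule.eq_top_of_finrank_eq ?_
      have hlt : W₀ < W₀ ⊔ Submodule.span F {e} := lt_of_le_of_ne le_sup_left fun h =>
        he (h ▸ Submodule.mem_sup_right (Submodule.mem_span_singleton_self e))
      have h1 := Submodule.finrank_lt_finrank_of_lt hlt
      have h2 := Submodule.finrank_le (W₀ ⊔ Submodule.span F {e})
      rw [Module.finrank_fin_fun] at h2 ⊢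
      omega
    have hdiff : ∀ S : Matrix (Fin a) (Fin a) F, (∀ x ∈ W₀, S *ᵥ x = x) →
        (∀ x x', f₁ (S *ᵥ x) (S *ᵥ x') = f₁ x x') → ∀ w ∈ W₀, f₁ (S *ᵥ e - e) w = 0 := fun S hS hSi w hw => by
      rw [hs₁.sub_left]
      conv_lhs => arg 1; rw [← hS w hw]
      rw [hSi, sub_self]
    have hline : ∀ p q : Fin a → F, (∀ w ∈ W₀, f₁ p w = 0) → (∀ w ∈ W₀, f₁ q w = 0) → p ≠ 0 →
        ∃ c : F, q = c • p := by
      intro p q hp hq hp0
      have hz : ∀ r : Fin a → F, (∀ w ∈ W₀, f₁ r w = 0) → f₁ r e = 0 → r = 0 := fun r hr hre => by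
        by_contra h
        obtain ⟨x, hx⟩ := (hf₁.nondegenerate r h).2
        obtain ⟨w, hw, z, hz', rfl⟩ := Submodule.mem_sup.mp (hspan ▸ Submodule.mem_top : x ∈ W₀ ⊔ Submodule.span F {e})
        obtain ⟨c, rfl⟩ := Submodule.mem_span_singleton.mp hz'
        exact hx (by rw [hs₁.add_right, hs₁.smul_right, hr w hw, hre, mul_zero, add_zero])
      have hpe : f₁ p e ≠ 0 := fun h => hp0 (hz p hp h)
      refine ⟨f₁ q e / f₁ p e, sub_eq_zero.mp (hz _ (fun w hw => ?_) ?_)⟩
      · rw [hs₁.sub_left, hs₁.smul_left, hp w hw, hq w hw, mul_zero, sub_zero]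
      · rw [hs₁.sub_left, hs₁.smul_left, div_mul_cancel₀ _ hpe, sub_self]
    have hp := hdiff S hS hSi
    have hq := hdiff S' hS' hSi'
    set p := S *ᵥ e - e with hpdef
    set q := S' *ᵥ e - e with hqdef
    refine Matrix.ext_iff_mulVec.mpr fun x => ?_
    obtain ⟨w, hw, z, hz, rfl⟩ := Submodule.mem_sup.mp (hspan ▸ Submodule.mem_top : x ∈ W₀ ⊔ Submodule.span F {e})
    obtain ⟨c, rfl⟩ := Submodule.mem_span_singleton.mp hz
    have hSe : S *ᵥ e = e + p := by rw [hpdef, add_sub_cancel]
    have hS'e : S' *ᵥ e = e + q := by rw [hqdef, add_sub_cancel]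
    simp only [← mulVec_mulVec, mulVec_add, mulVec_smul, hS w hw, hS' w hw, hSe, hS'e]
    suffices hpq : p + S *ᵥ q = q + S' *ᵥ p by
      linear_combination (norm := module) c • hpq
    rcases eq_or_ne p 0 with h0 | h0
    · have hS1 : ∀ x, S *ᵥ x = x := fun x => by
        obtain ⟨w, hw, z, hz, rfl⟩ := Submodule.mem_sup.mp (hspan ▸ Submodule.mem_top : x ∈ W₀ ⊔ Submodule.span F {e})
        obtain ⟨c, rfl⟩ := Submodule.mem_span_singleton.mp hz
        rw [mulVec_add, mulVec_smul, hS w hw, hSe, h0, add_zero]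
      rw [hS1, h0, mulVec_zero, zero_add, add_zero]
    obtain ⟨μ, hμ⟩ := hline p q hp hq h0
    -- write `p = w₀ + r • e`
    obtain ⟨w₀, hw₀, z, hz, hdec⟩ := Submodule.mem_sup.mp (hspan ▸ Submodule.mem_top : p ∈ W₀ ⊔ Submodule.span F {e})
    obtain ⟨r, rfl⟩ := Submodule.mem_span_singleton.mp hz
    rw [hμ, mulVec_smul]
    conv_lhs => arg 2; arg 2; rw [← hdec, mulVec_add, mulVec_smul, hS w₀ hw₀, hSe]
    conv_rhs => arg 2; rw [← hdec, mulVec_add, mulVec_smul, hS' w₀ hw₀, hS'e, hμ]
    rw [← hdec]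
    module
  refine Units.ext ?_
  rw [Units.val_mul, Units.val_mul, hl₁, hl₂, ← mul_kronecker_mul, ← mul_kronecker_mul, hSS, hTT]

end CfsgLib.TensorUnitary
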