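import Cfsg.Agent.TensorUnitary.Root
import Cfsg.Agent.TensorUnitary.FixStab

/-!
# Elements acting trivially on `F^a ⊗ c` and on its orthogonal modulo it
-/

set_option autoImplicit false
set_option linter.unusedSectionVars false

namespace CfsgLib.TensorUnitary

open Matrix Cfsg.Geo CfsgLib.MaxSub CfsgLib.TensorMax
open scoped Kronecker

variable {F : Type*} [Field F] [Finite F] {a b : ℕ} {σ : F ≃+* F}
  {f₁ : (Fin a → F) → (Fin a → F) → F} {f₂ : (Fin b → F) → (Fin b → F) → F}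

/-- Adjoints for a non-degenerate form. -/
theorem exists_adjoint {n : ℕ} {f : (Fin n → F) → (Fin n → F) → F} (hf : IsUnitaryForm σ f)
    (A : Matrix (Fin n) (Fin n) F) : ∃ B : Matrix (Fin n) (Fin n) F, ∀ u z, f (B *ᵥ u) z = f u (A *ᵥ z) := by
  have hs := sesqForm_of_unitary hf
  choose v hv using fun u => hs.leftVec_surjective (fun j => σ (f u (A *ᵥ Pi.single j 1)))
  have key : ∀ u z, f (v u) z = f u (A *ᵥ z) := by
    intro u z
    have h1 : f z (v u) = σ (f u (A *ᵥ z)) := by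
      rw [← hs.dot_leftVec, hv, ← hf.herm (A *ᵥ z) u, ← hs.dot_leftVec u (A *ᵥ z), dotProduct_mulVec,
        dotProduct, dotProduct]
      refine Finset.sum_congr rfl fun j _ => ?_
      rw [← hf.herm, ← hs.dot_leftVec u, dotProduct_mulVec, dotProduct_single, mul_one]
    rw [hf.herm, h1, hf.involutive]
  have ext : ∀ x x', (∀ z, f x z = f x' z) → x = x' := fun x x' h => by
    by_contra hne
    obtain ⟨z, hz⟩ := (hf.nondegenerate (x - x') (sub_ne_zero.mpr hne)).2
    exact hz (by rw [hs.sub_left, h, sub_self])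
  let L : (Fin n → F) →ₗ[F] (Fin n → F) :=
    { toFun := v
      map_add' := fun x y => ext _ _ fun z => by rw [hs.add_left, key, key, key, hs.add_left]
      map_smul' := fun c x => ext _ _ fun z => by
        rw [RingHom.id_apply, hs.smul_left, key, key, hs.smul_left] }
  exact ⟨LinearMap.toMatrix' L, fun u z => by rw [LinearMap.toMatrix'_mulVec]; exact key u z⟩

theorem eq_of_forall {n : ℕ} {f : (Fin n → F) → (Fin n → F) → F} (hf : IsUnitaryForm σ f)
    {x x' : Fin n → F} (h : ∀ z, f x z = f x' z) : x = x' := by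
  by_contra hne
  obtain ⟨z, hz⟩ := (hf.nondegenerate (x - x') (sub_ne_zero.mpr hne)).2
  exact hz (by rw [(sesqForm_of_unitary hf).sub_left, h, sub_self])

/-- A vector orthogonal to the orthogonal of `c` is a multiple of `c`. -/
theorem exists_smul_of_orth {n : ℕ} {f : (Fin n → F) → (Fin n → F) → F} (hf : IsUnitaryForm σ f)
    {c z : Fin n → F} (h : ∀ w, f w c = 0 → f z w = 0) : ∃ k : F, k • c = z := by
  by_contra hne
  push Not at hne
  obtain ⟨x, hx, hx'⟩ := (sesqForm_of_unitary hf).exists_orth_not_orth hne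
  rw [hf.herm, h x hx, map_zero] at hx'
  exact zero_ne_one hx'

/-- The contraction of the first factor with a coordinate functional of the second. -/
def colDot (α : Fin b → F) : (Idx a b → F) →ₗ[F] (Fin a → F) where
  toFun v i := α ⬝ᵥ row v i
  map_add' u v := funext fun i => dotProduct_add α (row u i) (row v i)
  map_smul' c v := funext fun i => dotProduct_smul c α (row v i)

theorem colDot_ten (α : Fin b → F) (x : Fin a → F) (y : Fin b → F) :
    colDot α (ten x y) = (α ⬝ᵥ y) • x := by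
  funext i
  show α ⬝ᵥ row (ten x y) i = _
  rw [row_ten, dotProduct_smul, Pi.smul_apply, smul_eq_mul, smul_eq_mul, mul_comm]

/-- The contraction of the second factor with a coordinate functional of the first. -/
def rowDot (l : Fin a → F) : (Idx a b → F) →ₗ[F] (Fin b → F) where
  toFun v := ∑ i, l i • row v i
  map_add' u v := by
    rw [← Finset.sum_add_distrib]
    exact Finset.sum_congr rfl fun i _ => smul_add _ _ _
  map_smul' c v := by
    rw [RingHom.id_apply, Finset.smul_sum]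
    exact Finset.sum_congr rfl fun i _ => smul_comm (l i) c (row v i)

theorem rowDot_ten (l x : Fin a → F) (y : Fin b → F) : rowDot l (ten x y) = (l ⬝ᵥ x) • y := by
  show ∑ i, l i • row (ten x y) i = _
  simp only [row_ten, smul_smul, dotProduct, Finset.sum_smul]

variable (hf₁ : IsUnitaryForm σ f₁) (hf₂ : IsUnitaryForm σ f₂)
include hf₂

theorem kron_siegMat_mulVec (c w : Fin b → F) (k : F) (v : Idx a b → F) :
    ((1 : Matrix (Fin a) (Fin a) F) ⊗ₖ siegMat f₂ c w k) *ᵥ v
      = ten (ev f₂ c v) w - ten (ev f₂ w v) c + k • ten (ev f₂ c v) c := by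
  induction v using ten_induction with
  | hadd v v' hv hv' =>
    rw [mulVec_add, hv, hv', ev_add hf₂, ev_add hf₂, ten_add_left, ten_add_left, ten_add_left, smul_add]
    abel
  | h0 => rw [mulVec_zero, ev_zero hf₂, ev_zero hf₂]; simp [ten_eq_zero.mpr (Or.inl rfl)]
  | h x y =>
    rw [kron_mulVec_ten, one_mulVec, siegMat_mulVec hf₂, ev_ten hf₂, ev_ten hf₂, ten_smul_left,
      ten_smul_left, ten_smul_left, sub_eq_add_neg, ten_add_right, ten_add_right, ← neg_smul,
      ten_smul_right, ten_smul_right, ten_smul_right, neg_smul, smul_smul, mul_comm k]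
    ring_nf

theorem ker_eq_sum (c : Fin b → F) {v : Idx a b → F} (hv : ev f₂ c v = 0) {P : (Idx a b → F) → Prop}
    (hadd : ∀ u w, P u → P w → P (u + w)) (h0 : P 0) (h : ∀ x w, f₂ w c = 0 → P (ten x w)) : P v := by
  rw [← sum_ten_row v]
  exact Finset.sum_induction _ P hadd h0 fun i _ => h _ _ (congrFun hv i)

include hf₁

/-- The set of `A` with `1 + A ⊗ (transvection part at c)` in `M`. -/
def centralSet (M : Subgroup (GL (Idx a b) F)) (f₂ : (Fin b → F) → (Fin b → F) → F) (c : Fin b → F) :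
    Set (Matrix (Fin a) (Fin a) F) :=
  {A | ∃ g ∈ M, (g : Matrix (Idx a b) (Idx a b) F) = 1 + A ⊗ₖ pMat f₂ c}

/-- An element acting trivially on `F^a ⊗ c` and on its orthogonal modulo it. -/
theorem mem_or_central (ha : 1 ≤ a) {M : Subgroup (GL (Idx a b) F)} (hLM : tensU f₁ f₂ ≤ M)
    (hM : M ≤ su (form f₁ f₂)) {c : Fin b → F} (hc0 : c ≠ 0) (hcc : f₂ c c = 0) {m : GL (Idx a b) F}
    (hmM : m ∈ M) (hmB : ∀ x, (m : Matrix (Idx a b) (Idx a b) F) *ᵥ ten x c = ten x c)
    (hmK : ∀ x w, f₂ w c = 0 → ∃ x', (m : Matrix (Idx a b) (Idx a b) F) *ᵥ ten x w = ten x w + ten x' c) :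
    m ∈ tensU f₁ f₂ ∨ ∃ A ∈ centralSet M f₂ c, ∀ k : F, A ≠ k • 1 := by
  classical
  by_cases hdone : ∃ A ∈ centralSet M f₂ c, ∀ k : F, A ≠ k • 1
  · exact Or.inr hdone
  push Not at hdone
  refine Or.inl ?_
  have hs₁ := sesqForm_of_unitary hf₁
  have hs₂ := sesqForm_of_unitary hf₂
  obtain ⟨α, hα⟩ := exists_dot_eq_one hc0
  obtain ⟨e₀, he₀⟩ := hs₂.exists_left_ne_zero hc0
  set e := (f₂ e₀ c)⁻¹ • e₀ with he
  have hec : f₂ e c = 1 := by rw [he, hs₂.smul_left, inv_mul_cancel₀ he₀]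
  have hce : f₂ c e = 1 := by rw [hf₂.herm, hec, map_one]
  clear_value e
  -- the component `X`
  let Xl : (Fin b → F) → (Fin a → F) →ₗ[F] (Fin a → F) := fun w =>
    { toFun := fun x => colDot α ((m : Matrix (Idx a b) (Idx a b) F) *ᵥ ten x w - ten x w)
      map_add' := fun x y => by rw [ten_add_left, mulVec_add, add_sub_add_comm, map_add]
      map_smul' := fun k x => by rw [ten_smul_left, mulVec_smul, ← smul_sub, map_smul, RingHom.id_apply] }
  let X : (Fin b → F) → Matrix (Fin a) (Fin a) F := fun w => LinearMap.toMatrix' (Xl w)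
  have hαc : α ⬝ᵥ c = 1 := by first | exact hα | rwa [dotProduct_comm]
  have hX : ∀ x w, f₂ w c = 0 →
      (m : Matrix (Idx a b) (Idx a b) F) *ᵥ ten x w = ten x w + ten (X w *ᵥ x) c := by
    intro x w hw
    obtain ⟨x', hx'⟩ := hmK x w hw
    have : X w *ᵥ x = x' := by
      rw [show X w *ᵥ x = Xl w x from LinearMap.toMatrix'_mulVec _ _]
      show colDot α _ = x'
      rw [hx', add_sub_cancel_left, colDot_ten, hαc, one_smul]
    rw [this, hx']
  have hXsmul : ∀ (k : F) w, X (k • w) = k • X w := by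
    intro k w
    refine Matrix.ext_iff_mulVec.mpr fun x => ?_
    rw [smul_mulVec, show X (k • w) *ᵥ x = Xl (k • w) x from LinearMap.toMatrix'_mulVec _ _,
      show X w *ᵥ x = Xl w x from LinearMap.toMatrix'_mulVec _ _]
    show colDot α _ = k • colDot α _
    rw [ten_smul_right, mulVec_smul, ← smul_sub, map_smul]
  have hmev : ∀ v, ev f₂ c ((m : Matrix (Idx a b) (Idx a b) F) *ᵥ v) = ev f₂ c v := fun v =>
    eq_of_forall hf₁ fun x => by
      rw [← form_ten_right hf₁ hf₂, ← form_ten_right hf₁ hf₂, ← hmB x, (hM hmM).1, hmB]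
  -- each commutator with a Siegel element is central
  have hXscalar : ∀ w, f₂ w c = 0 → ∃ k : F, X w = k • 1 := by
    have hsc : ∀ w, f₂ w c = 0 → ∀ Y : Matrix (Fin a) (Fin a) F,
        (∀ u z, f₁ (Y *ᵥ u) z = f₁ u (X w *ᵥ z)) → ∃ k : F, X w - Y = k • 1 := by
      intro w hw Y hY
      obtain ⟨μ, hμ⟩ := trace_surjective hf₂.ne_refl hf₂.involutive (a := - f₂ w w)
        (by rw [map_neg, herm_self hf₂])
      obtain ⟨E, hE, hEval⟩ := exists_sieg hf₂ hcc hw hμ
      set q := krG ((1 : GL (Fin a) F), E) with hq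
      have hqL : q ∈ tensU f₁ f₂ := krG_mem_tensU hf₁ hf₂ (Subgroup.one_mem _) hE
      have hqv : ∀ v, (q : Matrix (Idx a b) (Idx a b) F) *ᵥ v
          = v + (ten (ev f₂ c v) w - ten (ev f₂ w v) c + μ • ten (ev f₂ c v) c) := fun v => by
        rw [hq, krG_val, hEval, Units.val_one, kronecker_add, one_kronecker_one, add_mulVec, one_mulVec,
          kron_siegMat_mulVec hf₂]
      have hqev : ∀ v, ev f₂ c ((q : Matrix (Idx a b) (Idx a b) F) *ᵥ v) = ev f₂ c v := fun v => by
        simp [hqv, ev_add hf₂, ev_sub hf₂, ev_smul hf₂, ev_ten hf₂, hw, hcc]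
      refine hdone _ ⟨m * q * m⁻¹ * q⁻¹, M.mul_mem (M.mul_mem (M.mul_mem hmM (hLM hqL)) (M.inv_mem hmM))
        (M.inv_mem (hLM hqL)), ?_⟩
      rw [Units.val_mul, Units.mul_inv_eq_iff_eq_mul]
      refine Matrix.ext_iff_mulVec.mpr fun v => ?_
      set v' := ((m⁻¹ : GL (Idx a b) F) : Matrix (Idx a b) (Idx a b) F) *ᵥ v with hv'
      have hmv : (m : Matrix (Idx a b) (Idx a b) F) *ᵥ v' = v := by
        rw [hv', mulVec_mulVec, Units.mul_inv, one_mulVec]
      have e1 : ev f₂ c v' = ev f₂ c v := by rw [← hmev v', hmv]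
      have e2 : ev f₂ w v' = ev f₂ w v + Y *ᵥ ev f₂ c v := eq_of_forall hf₁ fun z => by
        rw [← form_ten_right hf₁ hf₂, hf₁.add_left, hY, ← (hM hmM).1, hmv, hX z w hw,
          (sesqForm_of_unitary (isUnitary_form hf₁ hf₂)).add_right, form_ten_right hf₁ hf₂,
          form_ten_right hf₁ hf₂]
      rw [Units.val_mul, Units.val_mul, ← mulVec_mulVec, ← mulVec_mulVec, ← hv', hqv, mulVec_add, hmv,
        mulVec_add, mulVec_sub, mulVec_smul, hX _ w hw, hmB, hmB, e1, e2, ← mulVec_mulVec, add_mulVec,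
        one_mulVec, kron_pMat_mulVec hf₂, hqev, hqv, sub_mulVec, sub_eq_add_neg (X w *ᵥ _), ten_add_left,
        ten_add_left]
      rw [show ten (-(Y *ᵥ ev f₂ c v)) c = -ten (Y *ᵥ ev f₂ c v) c by
        rw [← neg_one_smul F, ten_smul_left, neg_one_smul]]
      abel
    intro w hw
    obtain ⟨d, hd⟩ := exists_moved hf₁.ne_refl
    obtain ⟨Y, hY⟩ := exists_adjoint hf₁ (X w)
    obtain ⟨k₁, hk₁⟩ := hsc w hw Y hY
    obtain ⟨k₂, hk₂⟩ := hsc (d • w) (by rw [hs₂.smul_left, hw, mul_zero]) (σ d • Y) fun u z => by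
      rw [smul_mulVec, hs₁.smul_left, hY, hXsmul, smul_mulVec, hs₁.smul_right]
    refine ⟨(k₂ - σ d * k₁) / (d - σ d), ?_⟩
    have hd' : d - σ d ≠ 0 := sub_ne_zero.mpr (Ne.symm hd)
    have e : (d - σ d) • X w = (k₂ - σ d * k₁) • (1 : Matrix (Fin a) (Fin a) F) := by
      rw [hXsmul] at hk₂
      linear_combination (norm := module) hk₂ - σ d • hk₁
    rw [div_eq_inv_mul, mul_smul, ← e, smul_smul, inv_mul_cancel₀ hd', one_smul]
  choose φ hφ using hXscalar
  -- divide by a Siegel element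
  set x₀ : Fin a → F := Pi.single ⟨0, ha⟩ 1 with hx₀
  have hx₀0 : x₀ ≠ 0 := by simp [hx₀]
  set d := (m : Matrix (Idx a b) (Idx a b) F) *ᵥ ten x₀ e - ten x₀ e with hd
  set l : Fin a → F := Pi.single ⟨0, ha⟩ 1 with hl
  have hlx : l ⬝ᵥ x₀ = 1 := by simp [hl, hx₀]
  set τ := rowDot l d with hτ
  have hsf := sesqForm_of_unitary (isUnitary_form hf₁ hf₂)
  have hevd : ∀ w' (hw' : f₂ w' c = 0), ev f₂ w' d = (- σ (φ w' hw')) • x₀ := by
    intro w' hw'
    refine eq_of_forall hf₁ fun z => ?_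
    rw [← form_ten_right hf₁ hf₂, hd, hsf.sub_left, hs₁.smul_left]
    have hz : ten z w' = (m : Matrix (Idx a b) (Idx a b) F) *ᵥ (ten z w' - φ w' hw' • ten z c) := by
      rw [mulVec_sub, mulVec_smul, hX z w' hw', hmB, hφ w' hw', smul_mulVec, one_mulVec, ten_smul_left,
        add_sub_cancel_right]
    conv_lhs => arg 1; rw [hz]
    rw [(hM hmM).1, hsf.sub_right, hsf.smul_right, form_ten_ten hf₁ hf₂, form_ten_ten hf₁ hf₂, hec]
    ring
  have hτev : ∀ w', f₂ τ w' = l ⬝ᵥ ev f₂ w' d := by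
    intro w'
    rw [hτ, ← hs₂.dot_leftVec]
    show leftVec f₂ w' ⬝ᵥ (∑ i, l i • row d i) = _
    rw [dotProduct_sum]
    refine Finset.sum_congr rfl fun i _ => ?_
    rw [dotProduct_smul, hs₂.dot_leftVec]
    rfl
  have hτc : f₂ τ c = 0 := by
    rw [hτev, hd, ev_sub hf₂, hmev, sub_self, dotProduct_zero]
  have hφτ : ∀ w' (hw' : f₂ w' c = 0), φ w' hw' = - f₂ w' τ := by
    intro w' hw'
    rw [hf₂.herm w' τ, hτev, hevd w' hw', dotProduct_smul, hlx, smul_eq_mul, mul_one, map_neg,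
      hf₂.involutive, neg_neg]
  obtain ⟨μ, hμ⟩ := trace_surjective hf₂.ne_refl hf₂.involutive (a := - f₂ τ τ)
    (by rw [map_neg, herm_self hf₂])
  obtain ⟨E, hE, hEval⟩ := exists_sieg hf₂ hcc hτc hμ
  set q := krG ((1 : GL (Fin a) F), E) with hq
  have hqL : q ∈ tensU f₁ f₂ := krG_mem_tensU hf₁ hf₂ (Subgroup.one_mem _) hE
  have hqv : ∀ v, (q : Matrix (Idx a b) (Idx a b) F) *ᵥ v
      = v + (ten (ev f₂ c v) τ - ten (ev f₂ τ v) c + μ • ten (ev f₂ c v) c) := fun v => by
    rw [hq, krG_val, hEval, Units.val_one, kronecker_add, one_kronecker_one, add_mulVec, one_mulVec,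
      kron_siegMat_mulVec hf₂]
  set m' := q⁻¹ * m with hm'
  have hm'M : m' ∈ M := M.mul_mem (M.inv_mem (hLM hqL)) hmM
  have hm'fix : ∀ v, ev f₂ c v = 0 → (m' : Matrix (Idx a b) (Idx a b) F) *ᵥ v = v := by
    intro v hv
    refine ker_eq_sum hf₂ c hv (P := fun v => (m' : Matrix (Idx a b) (Idx a b) F) *ᵥ v = v)
      (fun u w hu hw => by rw [mulVec_add, hu, hw]) (mulVec_zero _) fun x w hw => ?_
    apply mulVec_injective_iff_isUnit.mpr q.isUnit
    show (q : Matrix (Idx a b) (Idx a b) F) *ᵥ _ = (q : Matrix (Idx a b) (Idx a b) F) *ᵥ _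
    rw [mulVec_mulVec, ← Units.val_mul, hm', mul_inv_cancel_left, hX x w hw, hφ w hw, hφτ w hw, hqv,
      ev_ten hf₂, ev_ten hf₂, hw, smul_mulVec, one_mulVec]
    simp only [ten_smul_left]
    simp [ten_eq_zero.mpr (Or.inl rfl), ten_smul_left, sub_eq_add_neg]
  have hm'B : ∀ x, (m' : Matrix (Idx a b) (Idx a b) F) *ᵥ ten x c = ten x c := fun x =>
    hm'fix _ (by rw [ev_ten hf₂, hcc, zero_smul])
  let Al : (Fin a → F) →ₗ[F] (Fin a → F) :=
    { toFun := fun x => colDot α ((m' : Matrix (Idx a b) (Idx a b) F) *ᵥ ten x e - ten x e)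
      map_add' := fun x y => by rw [ten_add_left, mulVec_add, add_sub_add_comm, map_add]
      map_smul' := fun k x => by rw [ten_smul_left, mulVec_smul, ← smul_sub, map_smul, RingHom.id_apply] }
  have hm'val : (m' : Matrix (Idx a b) (Idx a b) F) = 1 + LinearMap.toMatrix' Al ⊗ₖ pMat f₂ c := by
    refine Matrix.ext_iff_mulVec.mpr fun v => ?_
    rw [add_mulVec, one_mulVec, kron_pMat_mulVec hf₂, LinearMap.toMatrix'_mulVec]
    set x := ev f₂ c v with hx
    have hsplit : (m' : Matrix (Idx a b) (Idx a b) F) *ᵥ (v - ten x e) = v - ten x e := hm'fix _ (by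
      rw [ev_sub hf₂, ev_ten hf₂, hec, one_smul, ← hx, sub_self])
    rw [mulVec_sub, sub_eq_iff_eq_add] at hsplit
    set δ := (m' : Matrix (Idx a b) (Idx a b) F) *ᵥ ten x e - ten x e with hδ
    have hrows : ∀ i, ∃ k : F, k • c = row δ i := by
      intro i
      refine exists_smul_of_orth hf₂ fun w hw => ?_
      have h0 : ev f₂ w δ = 0 := eq_of_forall hf₁ fun z => by
        rw [← form_ten_right hf₁ hf₂, hs₁.zero_left, hδ, hsf.sub_left]
        conv_lhs => arg 1; rw [← hm'fix (ten z w) (by rw [ev_ten hf₂, hw, zero_smul])]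
        rw [(hM hm'M).1, sub_self]
      exact congrFun h0 i
    choose k hk using hrows
    have hδeq : δ = ten (Al x) c := by
      funext ⟨i, j⟩
      have hAl : Al x = colDot α δ := rfl
      show row δ i j = Al x i * c j
      rw [hAl, ← hk i]
      show k i * c j = (α ⬝ᵥ row δ i) * c j
      rw [← hk i, dotProduct_smul, hαc, smul_eq_mul, mul_one]
    rw [hsplit, ← hδeq, hδ]
    abel
  obtain ⟨k, hk⟩ := hdone _ ⟨m', hm'M, hm'val⟩
  rw [hk, smul_kronecker, ← kronecker_smul] at hm'val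
  have hskew : σ k = -k := by
    have h := (hM hm'M).1 (ten x₀ e)
    obtain ⟨z, hz⟩ := (hf₁.nondegenerate x₀ hx₀0).2
    have h1 := h (ten z e)
    simp only [hm'val, add_mulVec, one_mulVec, kron_mulVec_ten, smul_mulVec, pMat_mulVec hf₂, hec,
      ten_smul_right, one_smul, hsf.add_left, hsf.add_right, hsf.smul_left, hsf.smul_right,
      form_ten_ten hf₁ hf₂, hcc, hce, hec, mul_zero, mul_one, add_zero] at h1
    refine mul_right_cancel₀ hz ?_
    linear_combination h1
  have hm'L : m' ∈ tensU f₁ f₂ := by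
    have e : m' = uroot a f₂ c k := Units.ext (by rw [hm'val, uroot_val hf₂ hcc])
    rw [e]
    exact uroot_mem hf₁ hf₂ hcc hskew
  have := (tensU f₁ f₂).mul_mem hqL hm'L
  rwa [hm', mul_inv_cancel_left] at this

end CfsgLib.TensorUnitary
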