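import Cfsg.Agent.TensorUnitary.RootGroup
import Cfsg.Agent.TensorUnitary.FixStab
import Cfsg.Agent.TensorUnitary.GroupLemma

/-!
# An overgroup of a unitary tensor stabiliser fuses a root element outside the stabiliser
-/

set_option autoImplicit false
set_option linter.unusedSectionVars false

namespace CfsgLib.TensorUnitary

open Matrix Cfsg.Geo CfsgLib.MaxSub CfsgLib.TensorMax
open scoped Kronecker

variable {F : Type*} [Field F] [Finite F] {a b : ℕ} {σ : F ≃+* F}
  {f₁ : (Fin a → F) → (Fin a → F) → F} {f₂ : (Fin b → F) → (Fin b → F) → F}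

/-- An outside element of an overgroup conjugates some root element into the tensor stabiliser. -/
theorem exists_fusion (hf₁ : IsUnitaryForm σ f₁) (hf₂ : IsUnitaryForm σ f₂) (ha : 2 ≤ a) (hab : a < b)
    (hb : 5 ≤ b) {M : Subgroup (GL (Idx a b) F)} (hLM : tensU f₁ f₂ ≤ M) (hM : M ≤ su (form f₁ f₂))
    {g : GL (Idx a b) F} (hgM : g ∈ M) (hgL : g ∉ tensU f₁ f₂) :
    ∃ (c : Fin b → F) (l : F), c ≠ 0 ∧ f₂ c c = 0 ∧ l ≠ 0 ∧ σ l = -l ∧
      ∃ y ∈ M, y ∉ tensU f₁ f₂ ∧ y * uroot a f₂ c l * y⁻¹ ∈ tensU f₁ f₂ := by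
  classical
  by_contra hcon
  push Not at hcon
  set L := tensU f₁ f₂ with hL
  have no : ∀ c : Fin b → F, c ≠ 0 → f₂ c c = 0 → ∀ l : F, l ≠ 0 → σ l = -l → ∀ y ∈ M,
      y * uroot a f₂ c l * y⁻¹ ∈ L → y ∈ L := fun c hc hcc l hl0 hl y hy hyL => by
    by_contra h
    exact hcon c l hc hcc hl0 hl y hy h hyL
  have hs₁ := sesqForm_of_unitary hf₁
  have hs₂ := sesqForm_of_unitary hf₂
  set p := ringChar F
  have : Fact p.Prime := ⟨CharP.char_is_prime F p⟩
  obtain ⟨t, ht0, ht⟩ := exists_traceZero hf₂.ne_refl hf₂.involutive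
  obtain ⟨c, -, hc0, hcc⟩ := exists_iso_mem hf₂ ⊤ (by rw [finrank_top, Module.finrank_fin_fun]; omega)
  obtain ⟨α, hα⟩ := exists_dot_eq_one hc0
  obtain ⟨d, hd, hd0, hdd⟩ := exists_iso_mem hf₂ (dotsKer ![leftVec f₂ c, α])
    (by have := finrank_dotsKer ![leftVec f₂ c, α]; rw [Fintype.card_fin] at this; omega)
  rw [mem_dotsKer] at hd
  have hdc : f₂ d c = 0 := by have := hd 0; simpa [hs₂.dot_leftVec] using this
  have hcd : f₂ c d = 0 := unitary_orth_symm hf₂ hdc
  have hind : ∀ k : F, k • c ≠ d := by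
    intro k hk
    have h := hd 1
    simp only [Matrix.cons_val_one, Matrix.head_cons] at h
    rw [← hk, dotProduct_smul, smul_eq_mul] at h
    have hα' : α ⬝ᵥ c = 1 := by first | exact hα | rwa [dotProduct_comm]
    simp only [Matrix.cons_val_zero, hα', mul_one] at h
    exact hd0 (by rw [← hk, h, zero_smul])
  -- an element fixing a large subspace
  set r := uroot a f₂ c t with hr
  have hrL : r ∈ L := uroot_mem hf₁ hf₂ hcc ht
  set m := g * r * g⁻¹ * r⁻¹ with hm
  have hmM : m ∈ M := M.mul_mem (M.mul_mem (M.mul_mem hgM (hLM hrL)) (M.inv_mem hgM)) (M.inv_mem (hLM hrL))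
  have hmL : m ∉ L := fun h => hgL (no c hc0 hcc t ht0 ht g hgM (by
    have := L.mul_mem h hrL
    rwa [hm, inv_mul_cancel_right] at this))
  set H := dotsKer ![leftVec f₂ c, leftVec f₂ d] with hH
  have hHmem : ∀ y, y ∈ H ↔ f₂ y c = 0 ∧ f₂ y d = 0 := fun y => by
    rw [hH, mem_dotsKer, Fin.forall_fin_two]
    simp [hs₂.dot_leftVec]
  have hHdim : b ≤ Module.finrank F H + 2 := by
    have := finrank_dotsKer ![leftVec f₂ c, leftVec f₂ d]
    rwa [Fintype.card_fin] at this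
  set E := (evL hf₂ c).comp (Matrix.mulVecLin ((g⁻¹ : GL (Idx a b) F) : Matrix (Idx a b) (Idx a b) F))
  set N := rowsIn a H ⊓ LinearMap.ker E with hN
  have hNdim : a * Module.finrank F H ≤ Module.finrank F N + a := by
    have h1 := Submodule.finrank_sup_add_finrank_inf_eq (rowsIn a H) (LinearMap.ker E)
    have h2 := E.finrank_range_add_finrank_ker
    have h3 := Submodule.finrank_le (LinearMap.range E)
    have h4 := Submodule.finrank_le (rowsIn a H ⊔ LinearMap.ker E)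
    rw [← finrank_rowsIn]
    rw [Module.finrank_fin_fun] at h3
    have h5 : Module.finrank F (Idx a b → F) = Fintype.card (Idx a b) := Module.finrank_fintype_fun_eq_card F
    rw [h5] at h2 h4
    rw [hN]
    omega
  have hmfix : ∀ v ∈ N, (m : Matrix (Idx a b) (Idx a b) F) *ᵥ v = v := by
    rintro v ⟨hv1, hv2⟩
    have e1 : ev f₂ c v = 0 := funext fun i => ((hHmem _).mp (hv1 i)).1
    have e2 : ev f₂ c (((g⁻¹ : GL (Idx a b) F) : Matrix (Idx a b) (Idx a b) F) *ᵥ v) = 0 := hv2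
    rw [hm, Units.val_mul, Units.val_mul, Units.val_mul, ← mulVec_mulVec, ← mulVec_mulVec, ← mulVec_mulVec,
      hr, uroot_inv hf₂ hcc, uroot_fix hf₂ hcc _ e1, uroot_fix hf₂ hcc _ e2, mulVec_mulVec, Units.mul_inv,
      one_mulVec]
  have hnoblock : ∀ w : Fin b → F, w ≠ 0 → f₂ w w = 0 → (∀ x, ten x w ∈ N) → False := by
    intro w hw0 hww hw
    refine hmL (no w hw0 hww t ht0 ht m hmM ?_)
    rw [conj_uroot_of_fix hf₁ hf₂ hww t (hM hmM).1 fun x => hmfix _ (hw x)]
    exact uroot_mem hf₁ hf₂ hww ht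
  have hsupp : ∀ H' : Submodule F (Fin b → F), H' ≤ H → N ≤ rowsIn a H' → H' = H := by
    intro H' hle hNH
    by_contra hne
    have hlt := Submodule.finrank_lt_finrank_of_lt (lt_of_le_of_ne hle hne)
    have h1 := Submodule.finrank_mono hNH
    rw [finrank_rowsIn] at h1
    have h2 : a * Module.finrank F H' + a ≤ a * Module.finrank F H :=
      (Nat.mul_succ a _).ge.trans (Nat.mul_le_mul_left a hlt)
    have heq : N = rowsIn a H' := Submodule.eq_of_le_of_finrank_le hNH (by rw [finrank_rowsIn]; omega)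
    have h3 : 2 ≤ Module.finrank F H' := by
      have e : a * Module.finrank F H ≤ a * (Module.finrank F H' + 1) := by
        rw [Nat.mul_succ]; omega
      have := Nat.le_of_mul_le_mul_left e (by omega)
      omega
    obtain ⟨w, hw, hw0, hww⟩ := exists_iso_mem hf₂ H' h3
    exact hnoblock w hw0 hww fun x => heq ▸ ten_mem_rowsIn x hw
  -- the pointwise stabiliser
  let G : Subgroup (GL (Idx a b) F) :=
    { carrier := {y | y ∈ M ∧ ∀ v ∈ N, (y : Matrix (Idx a b) (Idx a b) F) *ᵥ v = v}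
      one_mem' := ⟨M.one_mem, fun v _ => by rw [Units.val_one, one_mulVec]⟩
      mul_mem' := fun {y z} hy hz => ⟨M.mul_mem hy.1 hz.1, fun v hv => by
        rw [Units.val_mul, ← mulVec_mulVec, hz.2 v hv, hy.2 v hv]⟩
      inv_mem' := fun {y} hy => ⟨M.inv_mem hy.1, fun v hv => by
        conv_lhs => rw [← hy.2 v hv]
        rw [mulVec_mulVec, Units.inv_mul, one_mulVec]⟩ }
  have hkey : ∀ z, (∀ h ∈ H, f₂ z h = 0) → z ∈ H := fun z hz =>
    (hHmem z).mpr ⟨hz c ((hHmem c).mpr ⟨hcc, hcd⟩), hz d ((hHmem d).mpr ⟨hdc, hdd⟩)⟩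
  have hcomm : IsMulCommutative (L ⊓ G : Subgroup (GL (Idx a b) F)) :=
    ⟨⟨fun y z => Subtype.ext (commute_of_fix hf₁ hf₂ ha (by omega) (by omega) (by omega) hkey inf_le_left
      hNdim hsupp y.2.1 z.2.1 y.2.2.2 z.2.2.2)⟩⟩
  have hroots : ∀ w, f₂ w c = 0 → f₂ w d = 0 → f₂ w w = 0 → w ∈ Submodule.span F {c, d} →
      ∀ l, σ l = -l → uroot a f₂ w l ∈ L ⊓ G := by
    intro w hwc hwd hww hwW l hl
    refine ⟨uroot_mem hf₁ hf₂ hww hl, hLM (uroot_mem hf₁ hf₂ hww hl), fun v hv => uroot_fix hf₂ hww l ?_⟩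
    funext i
    obtain ⟨x, y, rfl⟩ := Submodule.mem_span_pair.mp hwW
    obtain ⟨e1, e2⟩ := (hHmem _).mp (hv.1 i)
    simp only [ev, hs₂.add_right, hs₂.smul_right, e1, e2, mul_zero, add_zero]
    rfl
  have : Finite (GL (Idx a b) F) := inferInstance
  have hle := le_of_commutative_of_fusion (p := p) (G := G) (A := L ⊓ G)
    (R := abelR (L ⊓ G) (Submodule.span F {c, d})) inf_le_right hcomm (abelR_le _ _)
    (isElementaryAbelian_abelR p _ _) fun B hB hidx => by
      obtain ⟨w, hw0, hww, l, hl0, hl, hwB⟩ :=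
        exists_uroot_mem hf₁ hf₂ hcc hdd hdc hind hc0 hroots hB hidx
      exact ⟨_, hwB, fun y hy hyA => ⟨no w hw0 hww l hl0 hl y hy.1 hyA.1, hy⟩⟩
  exact hmL (hle ⟨hmM, hmfix⟩).1

end CfsgLib.TensorUnitary
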