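import Cfsg.Agent.TensorUnitary.Radical
import Cfsg.Agent.TensorUnitary.Fusion

/-!
# An overgroup contains a central element of the radical with non-scalar component
-/

set_option autoImplicit false
set_option linter.unusedSectionVars false

namespace CfsgLib.TensorUnitary

open Matrix Cfsg.Geo CfsgLib.MaxSub CfsgLib.TensorMax
open scoped Kronecker

variable {F : Type*} [Field F] [Finite F] {a b : ℕ} {σ : F ≃+* F}
  {f₁ : (Fin a → F) → (Fin a → F) → F} {f₂ : (Fin b → F) → (Fin b → F) → F}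

/-- `y ↦ u ⊗ y`. -/
def tenR (u : Fin a → F) : (Fin b → F) →ₗ[F] (Idx a b → F) where
  toFun y := ten u y
  map_add' x y := ten_add_right u x y
  map_smul' k y := ten_smul_right k u y

theorem rank_pMat_kron_one (hf₁ : IsUnitaryForm σ f₁) {u : Fin a → F} (hu0 : u ≠ 0) :
    ((pMat f₁ u) ⊗ₖ (1 : Matrix (Fin b) (Fin b) F)).rank = b := by
  obtain ⟨z, hz⟩ := (sesqForm_of_unitary hf₁).exists_left_ne_zero hu0
  have hrange : LinearMap.range ((pMat f₁ u) ⊗ₖ (1 : Matrix (Fin b) (Fin b) F)).mulVecLin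
      = LinearMap.range (tenR u) := by
    refine le_antisymm ?_ ?_
    · rintro _ ⟨v, rfl⟩
      induction v using ten_induction with
      | hadd v w hv hw => rw [map_add]; exact Submodule.add_mem _ hv hw
      | h0 => rw [map_zero]; exact Submodule.zero_mem _
      | h x y =>
        refine ⟨f₁ x u • y, ?_⟩
        show ten u _ = _
        rw [mulVecLin_apply, kron_mulVec_ten, pMat_mulVec hf₁, one_mulVec, ten_smul_left, ten_smul_right]
    · rintro _ ⟨y, rfl⟩
      refine ⟨(f₁ z u)⁻¹ • ten z y, ?_⟩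
      show _ = ten u y
      rw [map_smul, mulVecLin_apply, kron_mulVec_ten, pMat_mulVec hf₁, one_mulVec, ten_smul_left, smul_smul,
        inv_mul_cancel₀ hz, one_smul]
  rw [Matrix.rank, hrange, LinearMap.finrank_range_of_inj (f := tenR u) fun x y h => ten_inj_right hu0 h,
    Module.finrank_fin_fun]

theorem smul_one_kron_eq (k : F) (A : Matrix (Fin b) (Fin b) F) :
    (k • (1 : Matrix (Fin a) (Fin a) F)) ⊗ₖ A = (1 : Matrix (Fin a) (Fin a) F) ⊗ₖ (k • A) := by
  rw [smul_kronecker, kronecker_smul]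

/-- An outside element of an overgroup stabilising some isotropic slice and scaling it by a matrix. -/
theorem exists_block_fixing (hf₁ : IsUnitaryForm σ f₁) (hf₂ : IsUnitaryForm σ f₂) (ha : 2 ≤ a)
    (hab : a < b) (hb : 5 ≤ b) {M : Subgroup (GL (Idx a b) F)} (hLM : tensU f₁ f₂ ≤ M)
    (hM : M ≤ su (form f₁ f₂)) {g : GL (Idx a b) F} (hgM : g ∈ M) (hgL : g ∉ tensU f₁ f₂) :
    ∃ y ∈ M, y ∉ tensU f₁ f₂ ∧ ∃ c : Fin b → F, c ≠ 0 ∧ f₂ c c = 0 ∧ ∃ S : GL (Fin a) F,
      ∀ x, (y : Matrix (Idx a b) (Idx a b) F) *ᵥ ten x c = ten ((S : Matrix (Fin a) (Fin a) F) *ᵥ x) c := by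
  classical
  obtain ⟨c, l, hc0, hcc, hl0, hl, y, hyM, hyL, hyr⟩ := exists_fusion hf₁ hf₂ ha hab hb hLM hM hgM hgL
  have : NeZero a := ⟨by omega⟩
  have hs₂ := sesqForm_of_unitary hf₂
  set p := ringChar F
  have : Fact p.Prime := ⟨CharP.char_is_prime F p⟩
  have hψ : leftVec f₂ c ≠ 0 := hs₂.leftVec_ne_zero hc0
  have hlc : l • c ≠ 0 := smul_ne_zero hl0 hc0
  have horth : leftVec f₂ c ⬝ᵥ (l • c) = 0 := uroot_orth hf₂ hcc l
  have hpow : (uroot a f₂ c l) ^ p ^ 1 = 1 := by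
    apply Units.ext
    have hsq : ((1 : Matrix (Fin a) (Fin a) F) ⊗ₖ vecMulVec (l • c) (leftVec f₂ c)) ^ p = 0 :=
      pow_eq_zero_of_le (Fact.out (p := p.Prime)).two_le
        (by rw [pow_two, ← mul_kronecker_mul, vecMulVec_sq horth, kronecker_zero])
    have : NeZero b := ⟨by omega⟩
    rw [pow_one, Units.val_pow_eq_pow_val, uroot, root_val horth,
      add_pow_char_of_commute p (Commute.one_left _), hsq, add_zero, one_pow, Units.val_one]
  obtain ⟨c', ψ', hc', hψ', hcψ', he⟩ := eq_root_of_rank hab (p := p) hyr.1 (k := 1)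
    (by rw [conj_pow, hpow, mul_one, mul_inv_cancel])
    (by rw [rank_conj_sub_one]; exact rank_root_sub_one hlc hψ horth)
  have hmap : ∀ x, ∃ x', (y : Matrix (Idx a b) (Idx a b) F) *ᵥ ten x c = ten x' c' := by
    intro x
    obtain ⟨w, hw⟩ : ten x (l • c) ∈ LinearMap.range
        (((uroot a f₂ c l : Matrix (Idx a b) (Idx a b) F) - 1).mulVecLin) := by
      rw [uroot, range_root_sub_one hψ horth]; exact ⟨x, rfl⟩
    have hmem : (y : Matrix (Idx a b) (Idx a b) F) *ᵥ ten x (l • c) ∈ LinearMap.range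
        (((root (a := a) c' ψ' : Matrix (Idx a b) (Idx a b) F) - 1).mulVecLin) := by
      refine ⟨(y : Matrix (Idx a b) (Idx a b) F) *ᵥ w, ?_⟩
      rw [← hw, ← he, mulVecLin_apply, mulVecLin_apply, mulVec_mulVec, mulVec_mulVec]
      congr 1
      rw [sub_mul, mul_sub, Units.val_mul, Units.val_mul, one_mul, mul_one, mul_assoc, Units.inv_mul, mul_one]
    rw [range_root_sub_one hψ' hcψ'] at hmem
    obtain ⟨x', hx'⟩ := hmem
    refine ⟨l⁻¹ • x', ?_⟩
    rw [ten_smul_left, show ten x' c' = _ from hx', ten_smul_right, mulVec_smul, smul_smul,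
      inv_mul_cancel₀ hl0, one_smul]
  obtain ⟨α, hα⟩ := exists_dot_eq_one hc'
  have hαc : α ⬝ᵥ c' = 1 := by first | exact hα | rwa [dotProduct_comm]
  let Sl : (Fin a → F) →ₗ[F] (Fin a → F) :=
    { toFun := fun x => colDot α ((y : Matrix (Idx a b) (Idx a b) F) *ᵥ ten x c)
      map_add' := fun x z => by rw [ten_add_left, mulVec_add, map_add]
      map_smul' := fun k x => by rw [ten_smul_left, mulVec_smul, map_smul, RingHom.id_apply] }
  have hSl : ∀ x, (y : Matrix (Idx a b) (Idx a b) F) *ᵥ ten x c = ten (Sl x) c' := by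
    intro x
    obtain ⟨x', hx'⟩ := hmap x
    show _ = ten (colDot α _) c'
    rw [hx', colDot_ten, hαc, one_smul]
  have hinj : Function.Injective Sl := fun x z h => ten_inj_left hc0
    (mulVec_injective_iff_isUnit.mpr y.isUnit (by rw [hSl, hSl, h]))
  have hcc' : f₂ c' c' = 0 := by
    obtain ⟨x', hx'⟩ := (hf₁.nondegenerate (Sl (Pi.single 0 1)) (fun h => by
      have := hinj (h.trans (map_zero Sl).symm)
      simp at this)).2
    obtain ⟨z, hz⟩ := LinearMap.surjective_of_injective hinj x'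
    have h := (hM hyM).1 (ten (Pi.single 0 1) c) (ten z c)
    rw [hSl, hSl, form_ten_ten hf₁ hf₂, form_ten_ten hf₁ hf₂, hcc, mul_zero, hz] at h
    exact (mul_eq_zero.mp h).resolve_left hx'
  obtain ⟨T, hT, k, hk, hTc⟩ := exists_move_line hf₂ hc' hcc' hc0 hcc
  have hkL : krG ((1 : GL (Fin a) F), T) ∈ tensU f₁ f₂ := krG_mem_tensU hf₁ hf₂ (Subgroup.one_mem _) hT
  have hS : (k • LinearMap.toMatrix' Sl).det ≠ 0 := by
    have hu : IsUnit (k • LinearMap.toMatrix' Sl) := by
      refine mulVec_injective_iff_isUnit.mp fun x z h => ?_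
      simp only [smul_mulVec, LinearMap.toMatrix'_mulVec] at h
      exact hinj (smul_right_injective _ hk h)
    exact ((Matrix.isUnit_iff_isUnit_det _).mp hu).ne_zero
  refine ⟨_, M.mul_mem (hLM hkL) hyM, fun h => hyL ?_, c, hc0, hcc,
    Matrix.GeneralLinearGroup.mkOfDetNeZero _ hS, fun x => ?_⟩
  · have := (tensU f₁ f₂).mul_mem ((tensU f₁ f₂).inv_mem hkL) h
    rwa [inv_mul_cancel_left] at this
  · rw [Units.val_mul, ← mulVec_mulVec, hSl, krG_val, kron_mulVec_ten, Units.val_one, one_mulVec, hTc]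
    show _ = ten ((k • LinearMap.toMatrix' Sl) *ᵥ x) c
    rw [smul_mulVec, LinearMap.toMatrix'_mulVec, ten_smul_right, ten_smul_left]

/-- The central element. -/
theorem exists_central (hf₁ : IsUnitaryForm σ f₁) (hf₂ : IsUnitaryForm σ f₂) (ha : 2 ≤ a) (hab : a < b)
    (hex : 3 ≤ a ∨ ∃ k : F, σ k = k ∧ k ≠ 0 ∧ k ≠ 1)
    {M : Subgroup (GL (Idx a b) F)} (hLM : tensU f₁ f₂ ≤ M)
    (hM : M ≤ su (form f₁ f₂))
    (hblock : ∃ y ∈ M, y ∉ tensU f₁ f₂ ∧ ∃ c : Fin b → F, c ≠ 0 ∧ f₂ c c = 0 ∧ ∃ S : GL (Fin a) F,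
      ∀ x, (y : Matrix (Idx a b) (Idx a b) F) *ᵥ ten x c = ten ((S : Matrix (Fin a) (Fin a) F) *ᵥ x) c) :
    ∃ c : Fin b → F, c ≠ 0 ∧ f₂ c c = 0 ∧ ∃ A ∈ centralSet M f₂ c, ∀ k : F, A ≠ k • 1 := by
  classical
  obtain ⟨y, hyM, hyL, c, hc0, hcc, Sg, hSg⟩ := hblock
  refine ⟨c, hc0, hcc, ?_⟩
  by_contra hdone
  have hs₁ := sesqForm_of_unitary hf₁
  have hs₂ := sesqForm_of_unitary hf₂
  have hsf := sesqForm_of_unitary (isUnitary_form hf₁ hf₂)
  set S := (Sg : Matrix (Fin a) (Fin a) F) with hS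
  set Si := ((Sg⁻¹ : GL (Fin a) F) : Matrix (Fin a) (Fin a) F) with hSi
  have hSSi : ∀ x, S *ᵥ (Si *ᵥ x) = x := fun x => by rw [mulVec_mulVec, Units.mul_inv, one_mulVec]
  have hSiS : ∀ x, Si *ᵥ (S *ᵥ x) = x := fun x => by rw [mulVec_mulVec, Units.inv_mul, one_mulVec]
  have : NeZero a := ⟨by omega⟩
  obtain ⟨t, ht0, ht⟩ := exists_traceZero hf₁.ne_refl hf₁.involutive
  set yi := ((y⁻¹ : GL (Idx a b) F) : Matrix (Idx a b) (Idx a b) F) with hyi
  have hyyi : ∀ v, (y : Matrix (Idx a b) (Idx a b) F) *ᵥ (yi *ᵥ v) = v := fun v => by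
    rw [mulVec_mulVec, Units.mul_inv, one_mulVec]
  obtain ⟨D, hD⟩ := exists_adjoint hf₁ S
  have hev : ∀ v, ev f₂ c (yi *ᵥ v) = D *ᵥ ev f₂ c v := fun v => eq_of_forall hf₁ fun x => by
    rw [hD, form_ten_right' hf₁ hf₂ y (hM hyM).1, hSg, form_ten_right hf₁ hf₂]
  -- the slice is mapped by a similitude
  have hrootM : y * uroot a f₂ c t * y⁻¹ ∈ M :=
    M.mul_mem (M.mul_mem hyM (hLM (uroot_mem hf₁ hf₂ hcc ht))) (M.inv_mem hyM)
  have hrval : ((y * uroot a f₂ c t * y⁻¹ : GL (Idx a b) F) : Matrix (Idx a b) (Idx a b) F)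
      = 1 + (t • (S * D)) ⊗ₖ pMat f₂ c := by
    refine Matrix.ext_iff_mulVec.mpr fun v => ?_
    rw [Units.val_mul, Units.val_mul, ← mulVec_mulVec, ← mulVec_mulVec, uroot_mulVec hf₂ hcc, mulVec_add,
      mulVec_smul, hyyi, hSg, hev, add_mulVec, one_mulVec, kron_pMat_mulVec hf₂, smul_mulVec, ← mulVec_mulVec,
      ten_smul_left]
  obtain ⟨k, hk⟩ : ∃ k : F, t • (S * D) = k • 1 := by
    by_contra h
    push Not at h
    exact hdone ⟨_, ⟨_, hrootM, hrval⟩, h⟩
  set κ := k / t with hκ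
  have hSD : ∀ x, S *ᵥ (D *ᵥ x) = κ • x := fun x => by
    have := congrArg (fun A : Matrix (Fin a) (Fin a) F => t⁻¹ • (A *ᵥ x)) hk
    simp only [smul_mulVec, one_mulVec, smul_smul, inv_mul_cancel₀ ht0, one_smul, ← mulVec_mulVec] at this
    rw [this, hκ, div_eq_inv_mul]
  have hDx : ∀ x, D *ᵥ x = κ • (Si *ᵥ x) := fun x => by
    have h := congrArg (fun z => Si *ᵥ z) (hSD x)
    simp only [hSiS, mulVec_smul] at h
    exact h
  have hsim : ∀ x x', f₁ (S *ᵥ x) (S *ᵥ x') = κ * f₁ x x' := fun x x' => by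
    rw [← hD, hDx, hSiS, hs₁.smul_left]
  have hκ0 : κ ≠ 0 := by
    intro h
    obtain ⟨x, hx⟩ : ∃ x : Fin a → F, x ≠ 0 := ⟨Pi.single 0 1, by simp⟩
    obtain ⟨z, hz⟩ := (hf₁.nondegenerate (S *ᵥ x) (fun h0 => hx (by rw [← hSiS x, h0, mulVec_zero]))).2
    exact hz (by rw [← hSSi z, hsim, h, zero_mul])
  -- `y` preserves the orthogonal of the slice
  have hevy : ∀ v, ev f₂ c ((y : Matrix (Idx a b) (Idx a b) F) *ᵥ v) = 0 ↔ ev f₂ c v = 0 := by
    intro v
    have := hev ((y : Matrix (Idx a b) (Idx a b) F) *ᵥ v)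
    rw [hyi, mulVec_mulVec, Units.inv_mul, one_mulVec, hDx] at this
    rw [this]
    refine ⟨fun h => by rw [h, mulVec_zero, smul_zero], fun h => ?_⟩
    have h' := (smul_eq_zero.mp h).resolve_left hκ0
    rw [← hSSi (ev f₂ c _), h', mulVec_zero]
  obtain ⟨e₀, he₀⟩ := hs₂.exists_left_ne_zero hc0
  set e := (f₂ e₀ c)⁻¹ • e₀ with he
  have hec : f₂ e c = 1 := by rw [he, hs₂.smul_left, inv_mul_cancel₀ he₀]
  clear_value e
  -- the induced map on the quotient
  have hτ : ∀ w, f₂ w c = 0 → ∃ τ, ∀ x, ∃ x', (y : Matrix (Idx a b) (Idx a b) F) *ᵥ ten x w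
      = ten (S *ᵥ x) τ + ten x' c := by
    intro w hw
    obtain ⟨μ, hμ⟩ := trace_surjective hf₂.ne_refl hf₂.involutive (a := - f₂ w w)
      (by rw [map_neg, herm_self hf₂])
    obtain ⟨E, hE, hEval⟩ := exists_sieg hf₂ hcc hw hμ
    set q := krG ((1 : GL (Fin a) F), E) with hq
    have hqL : q ∈ tensU f₁ f₂ := krG_mem_tensU hf₁ hf₂ (Subgroup.one_mem _) hE
    set m := y * q * y⁻¹ with hm
    have hmM : m ∈ M := M.mul_mem (M.mul_mem hyM (hLM hqL)) (M.inv_mem hyM)
    have hmv : ∀ v, (m : Matrix (Idx a b) (Idx a b) F) *ᵥ v = v +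
        ((y : Matrix (Idx a b) (Idx a b) F) *ᵥ ten (D *ᵥ ev f₂ c v) w
          - ten (S *ᵥ ev f₂ w (yi *ᵥ v)) c + μ • ten (S *ᵥ (D *ᵥ ev f₂ c v)) c) := fun v => by
      rw [hm, Units.val_mul, Units.val_mul, ← mulVec_mulVec, ← mulVec_mulVec, ← hyi, hq, krG_val, hEval,
        Units.val_one, kronecker_add, one_kronecker_one, add_mulVec, one_mulVec, kron_siegMat_mulVec hf₂,
        mulVec_add, hyyi, mulVec_add, mulVec_sub, mulVec_smul, hev, hSg, hSg]
    have hmB : ∀ x, (m : Matrix (Idx a b) (Idx a b) F) *ᵥ ten x c = ten x c := fun x => by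
      have hy' : yi *ᵥ ten x c = ten (Si *ᵥ x) c := by
        apply mulVec_injective_iff_isUnit.mpr y.isUnit
        show (y : Matrix (Idx a b) (Idx a b) F) *ᵥ _ = (y : Matrix (Idx a b) (Idx a b) F) *ᵥ _
        rw [hyyi, hSg, hSSi]
      rw [hmv, hy', ev_ten hf₂, ev_ten hf₂, hcc, unitary_orth_symm hf₂ hw]
      simp [ten_eq_zero.mpr (Or.inl rfl)]
    have hmK : ∀ x u, f₂ u c = 0 → ∃ x', (m : Matrix (Idx a b) (Idx a b) F) *ᵥ ten x u = ten x u + ten x' c := by
      intro x u hu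
      refine ⟨-(S *ᵥ ev f₂ w (yi *ᵥ ten x u)), ?_⟩
      rw [hmv, ev_ten hf₂, hu, zero_smul, mulVec_zero, mulVec_zero, ten_eq_zero.mpr (Or.inl rfl), mulVec_zero,
        ten_eq_zero.mpr (Or.inl rfl), smul_zero, add_zero, zero_sub,
        ← neg_one_smul F (S *ᵥ _), ten_smul_left, neg_one_smul]
    obtain hmL | hc' := mem_or_central hf₁ hf₂ (by omega) hLM hM hc0 hcc hmM hmB hmK
    swap
    · exact absurd hc' hdone
    obtain ⟨A, B, hAB⟩ := hmL.1
    obtain ⟨s, hs⟩ := scalar_of_fix_slice (T := (B : Matrix (Fin b) (Fin b) F)) hc0 fun x => by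
      rw [← hAB]; exact hmB x
    rw [hs, smul_one_kron_eq] at hAB
    refine ⟨κ⁻¹ • ((s • (B : Matrix (Fin b) (Fin b) F)) *ᵥ e - e), fun x => ?_⟩
    have h := hmv (ten (S *ᵥ x) e)
    rw [hAB, kron_mulVec_ten, one_mulVec, ev_ten hf₂, hec, one_smul, hDx, hSiS, ten_smul_left, mulVec_smul,
      mulVec_smul] at h
    refine ⟨κ⁻¹ • (S *ᵥ ev f₂ w (yi *ᵥ ten (S *ᵥ x) e) - μ • (κ • (S *ᵥ x))), ?_⟩
    have e2 : ∀ z z' : Fin a → F, ∀ k : F, ten (z - k • z') c = ten z c - k • ten z' c := fun z z' k => by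
      rw [sub_eq_add_neg, ← neg_smul, ten_add_left, ten_smul_left, neg_smul, ← sub_eq_add_neg]
    have e3 : ∀ (z : Fin a → F) (p r : Fin b → F), ten z (p - r) = ten z p - ten z r := fun z p r => by
      rw [eq_sub_iff_add_eq, ← ten_add_right, sub_add_cancel]
    rw [ten_smul_left, ten_smul_right, e2, e3, h, ten_smul_left, ← smul_add]
    rw [eq_inv_smul_iff₀ hκ0]
    abel
  -- the left factor commutes with `y` up to the action on the slice
  have hconj : ∀ (u : Fin a → F), u ≠ 0 → f₁ u u = 0 → ∀ s : F, σ s = -s → ∃ E : Matrix (Fin b) (Fin b) F,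
      IsUnit E ∧ (y : Matrix (Idx a b) (Idx a b) F) * ((1 + s • pMat f₁ u) ⊗ₖ (1 : Matrix (Fin b) (Fin b) F)) * yi
        = (1 + (s / κ) • pMat f₁ (S *ᵥ u)) ⊗ₖ E := by
    intro u hu0 hu s hs
    have hSu : f₁ (S *ᵥ u) (S *ᵥ u) = 0 := by rw [hsim, hu, mul_zero]
    have hκσ : σ κ = κ := by
      obtain ⟨w, hw, hwu, huw⟩ := exists_partner hf₁ hu0 hu
      have h1 := hsim u w
      have h2 := hsim w u
      rw [hf₁.herm, h2, hwu, huw, map_mul, map_one, mul_one, mul_one] at h1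
      exact h1
    set L₀ := tv (s • u) (leftVec f₁ u)
    set L₁ := tv ((s / κ) • (S *ᵥ u)) (leftVec f₁ (S *ᵥ u)) with hL₁
    have hsκ : σ (s / κ) = -(s / κ) := by rw [map_div₀, hs, hκσ, neg_div]
    have hT0 : krG (L₀, (1 : GL (Fin b) F)) ∈ tensU f₁ f₂ :=
      krG_mem_tensU hf₁ hf₂ (tv_mem_su hf₁ hu hs) (Subgroup.one_mem _)
    have hT1 : krG (L₁, (1 : GL (Fin b) F)) ∈ tensU f₁ f₂ :=
      krG_mem_tensU hf₁ hf₂ (tv_mem_su hf₁ hSu hsκ) (Subgroup.one_mem _)
    have hL1S : ∀ x, (L₁ : Matrix (Fin a) (Fin a) F) *ᵥ (S *ᵥ x)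
        = S *ᵥ ((L₀ : Matrix (Fin a) (Fin a) F) *ᵥ x) := fun x => by
      rw [tv_eq_pMat hf₁ hu, tv_eq_pMat hf₁ hSu, add_mulVec, add_mulVec, one_mulVec, one_mulVec, smul_mulVec,
        smul_mulVec, pMat_mulVec hf₁, pMat_mulVec hf₁, hsim, mulVec_add, mulVec_smul, mulVec_smul, smul_smul,
        smul_smul]
      congr 2
      field_simp
    set m := (krG (L₁, (1 : GL (Fin b) F)))⁻¹ * (y * krG (L₀, (1 : GL (Fin b) F)) * y⁻¹) with hm
    have hmM : m ∈ M := M.mul_mem (M.inv_mem (hLM hT1)) (M.mul_mem (M.mul_mem hyM (hLM hT0)) (M.inv_mem hyM))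
    clear_value m
    have hmy : ∀ v, (krG (L₁, (1 : GL (Fin b) F)) : Matrix (Idx a b) (Idx a b) F) *ᵥ
        ((m : Matrix (Idx a b) (Idx a b) F) *ᵥ ((y : Matrix (Idx a b) (Idx a b) F) *ᵥ v))
        = (y : Matrix (Idx a b) (Idx a b) F) *ᵥ
          ((krG (L₀, (1 : GL (Fin b) F)) : Matrix (Idx a b) (Idx a b) F) *ᵥ v) := fun v => by
      simp only [mulVec_mulVec, ← Units.val_mul, hm, ← mul_assoc, mul_inv_cancel_left, mul_inv_cancel,
        one_mul, inv_mul_cancel_right]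
    have hL1inj : Function.Injective (krG (L₁, (1 : GL (Fin b) F)) : Matrix (Idx a b) (Idx a b) F).mulVec :=
      mulVec_injective_iff_isUnit.mpr (krG (L₁, (1 : GL (Fin b) F))).isUnit
    have hmB : ∀ x, (m : Matrix (Idx a b) (Idx a b) F) *ᵥ ten x c = ten x c := fun x => by
      apply hL1inj
      have h := hmy (ten (Si *ᵥ x) c)
      rw [hSg, hSSi] at h
      rw [h, krG_val, krG_val, kron_mulVec_ten, kron_mulVec_ten, Units.val_one, one_mulVec, hSg, ← hL1S, hSSi]
    have hmK : ∀ x u', f₂ u' c = 0 →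
        ∃ x', (m : Matrix (Idx a b) (Idx a b) F) *ᵥ ten x u' = ten x u' + ten x' c := by
      intro x u' hu'
      suffices hall : ∀ v, ev f₂ c v = 0 → ∃ x', (m : Matrix (Idx a b) (Idx a b) F) *ᵥ
          ((y : Matrix (Idx a b) (Idx a b) F) *ᵥ v) = (y : Matrix (Idx a b) (Idx a b) F) *ᵥ v + ten x' c by
        have h0 : ev f₂ c (yi *ᵥ ten x u') = 0 := by rw [hev, ev_ten hf₂, hu', zero_smul, mulVec_zero]
        obtain ⟨x', hx'⟩ := hall _ h0
        rw [hyyi] at hx'
        exact ⟨x', hx'⟩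
      intro v hv
      refine ker_eq_sum hf₂ c hv
        (P := fun v => ∃ x', (m : Matrix (Idx a b) (Idx a b) F) *ᵥ
          ((y : Matrix (Idx a b) (Idx a b) F) *ᵥ v) = (y : Matrix (Idx a b) (Idx a b) F) *ᵥ v + ten x' c)
        ?_ ⟨0, by simp [ten_eq_zero.mpr (Or.inl rfl)]⟩ fun z w hw => ?_
      · rintro v₁ v₂ ⟨x₁, h₁⟩ ⟨x₂, h₂⟩
        exact ⟨x₁ + x₂, by rw [mulVec_add, mulVec_add, h₁, h₂, ten_add_left]; abel⟩
      obtain ⟨τ, hτ⟩ := hτ w hw
      obtain ⟨z₁, hz₁⟩ := hτ z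
      obtain ⟨z₂, hz₂⟩ := hτ ((L₀ : Matrix (Fin a) (Fin a) F) *ᵥ z)
      set L₁i := ((L₁⁻¹ : GL (Fin a) F) : Matrix (Fin a) (Fin a) F)
      refine ⟨L₁i *ᵥ z₂ - z₁, hL1inj ?_⟩
      rw [hmy, krG_val, krG_val, kron_mulVec_ten, Units.val_one, one_mulVec, hz₂, hz₁, mulVec_add,
        mulVec_add, kron_mulVec_ten, kron_mulVec_ten, kron_mulVec_ten, one_mulVec, one_mulVec, mulVec_sub,
        mulVec_mulVec z₂, Units.mul_inv, one_mulVec, hL1S, add_assoc, ← ten_add_left, add_sub_cancel]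
    obtain hmL | hc' := mem_or_central hf₁ hf₂ (by omega) hLM hM hc0 hcc hmM hmB hmK
    swap
    · exact absurd hc' hdone
    obtain ⟨A, B, hAB⟩ := hmL.1
    obtain ⟨r, hr⟩ := scalar_of_fix_slice (T := (B : Matrix (Fin b) (Fin b) F)) hc0 fun x => by
      rw [← hAB]; exact hmB x
    rw [hr, smul_one_kron_eq] at hAB
    refine ⟨r • (B : Matrix (Fin b) (Fin b) F), ?_, ?_⟩
    · rw [Matrix.isUnit_iff_isUnit_det]
      have h0 : ((m : Matrix (Idx a b) (Idx a b) F)).det ≠ 0 :=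
        ((Matrix.isUnit_iff_isUnit_det _).mp m.isUnit).ne_zero
      rw [hAB, det_kronecker, det_one, one_pow, one_mul] at h0
      exact (ne_zero_pow (by rw [Fintype.card_fin]; omega) h0).isUnit
    · have e1 : (krG (L₁, (1 : GL (Fin b) F)) * m : GL (Idx a b) F) = y * krG (L₀, 1) * y⁻¹ := by
        rw [hm, mul_inv_cancel_left]
      have := congrArg Units.val e1
      rw [Units.val_mul, Units.val_mul, Units.val_mul, hAB, krG_val, krG_val, Units.val_one, tv_eq_pMat hf₁ hu,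
        tv_eq_pMat hf₁ hSu, ← mul_kronecker_mul, mul_one, one_mul] at this
      exact this.symm
  -- transvections of the left factor are carried to themselves
  have hP : ∀ u : Fin a → F, u ≠ 0 → f₁ u u = 0 →
      (y : Matrix (Idx a b) (Idx a b) F) * (pMat f₁ u ⊗ₖ (1 : Matrix (Fin b) (Fin b) F))
        = ((S * pMat f₁ u * Si) ⊗ₖ (1 : Matrix (Fin b) (Fin b) F)) * (y : Matrix (Idx a b) (Idx a b) F) := by
    intro u hu0 hu
    obtain ⟨E, hEu, hE⟩ := hconj u hu0 hu t ht
    set D₀ := (y : Matrix (Idx a b) (Idx a b) F) * (pMat f₁ u ⊗ₖ (1 : Matrix (Fin b) (Fin b) F)) * yi with hD₀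
    set w := S *ᵥ u with hwdef
    have hw0 : w ≠ 0 := fun h => hu0 (by rw [← hSiS u, ← hwdef, h, mulVec_zero])
    have hww : f₁ w w = 0 := by rw [hwdef, hsim, hu, mul_zero]
    have hlin : ∀ s : F, (y : Matrix (Idx a b) (Idx a b) F) *
        ((1 + s • pMat f₁ u) ⊗ₖ (1 : Matrix (Fin b) (Fin b) F)) * yi = 1 + s • D₀ := fun s => by
      rw [add_kronecker, one_kronecker_one, smul_kronecker, mul_add, mul_one, add_mul, Matrix.mul_smul,
        Matrix.smul_mul, hyi, Units.mul_inv, hD₀]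
    rw [hlin] at hE
    have hEone : E = 1 := by
      have hs₁' := hs₁
      set t' := t / κ with ht'
      have ht'0 : t' ≠ 0 := div_ne_zero ht0 hκ0
      rcases hex with ha3 | ⟨q, hq, hq0, hq1⟩
      · by_contra hE1
        obtain ⟨y₀, hy₀⟩ : ∃ y₀, E *ᵥ y₀ - y₀ ≠ 0 := by
          by_contra hcon
          push Not at hcon
          exact hE1 (Matrix.ext_iff_mulVec.mpr fun v => by rw [one_mulVec]; exact sub_eq_zero.mp (hcon v))
        set h := E *ᵥ y₀ - y₀
        obtain ⟨z, hzw, hzne⟩ : ∃ z, f₁ z w = 0 ∧ ∀ k : F, k • w ≠ z := by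
          by_contra hcon
          push Not at hcon
          have hle : dotsKer ![leftVec f₁ w] ≤ Submodule.span F {w} := fun v hv => by
            obtain ⟨k, hk⟩ := hcon v (by
              have := (mem_dotsKer.mp hv) 0
              simpa [hs₁.dot_leftVec] using this)
            exact Submodule.mem_span_singleton.mpr ⟨k, hk⟩
          have h1 := Submodule.finrank_mono hle
          have h2 := finrank_dotsKer ![leftVec f₁ w]
          rw [finrank_span_singleton hw0] at h1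
          rw [Fintype.card_fin] at h2
          omega
        obtain ⟨x₀, hxw, hxw', hwx⟩ := exists_partner hf₁ hw0 hww
        obtain ⟨M1, hM1⟩ : ∃ M1, M1 = (1 + t' • pMat f₁ w) ⊗ₖ E - 1 := ⟨_, rfl⟩
        have hrank : M1.rank = b := by
          rw [hM1, ← hE, add_sub_cancel_left]
          have hu' : IsUnit ((t • (1 : Matrix (Idx a b) (Idx a b) F))).det := by
            rw [det_smul, det_one, mul_one]; exact (pow_ne_zero _ ht0).isUnit
          rw [show t • D₀ = (t • (1 : Matrix (Idx a b) (Idx a b) F)) * D₀ by rw [smul_mul, one_mul],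
            rank_mul_eq_right_of_isUnit_det _ _ hu', hD₀, hyi,
            rank_mul_eq_left_of_isUnit_det _ _ ((Matrix.isUnit_iff_isUnit_det _).mp (y⁻¹).isUnit),
            rank_mul_eq_right_of_isUnit_det _ _ ((Matrix.isUnit_iff_isUnit_det _).mp y.isUnit),
            rank_pMat_kron_one hf₁ hu0]
        let Φ : ((Fin b → F) × F) →ₗ[F] (Idx a b → F) :=
          M1.mulVecLin.comp (tenR x₀ ∘ₗ LinearMap.fst F _ _ +
            (LinearMap.toSpanSingleton F _ (ten z y₀)) ∘ₗ LinearMap.snd F _ _)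
        have hMten : ∀ x v, M1 *ᵥ ten x v = ten x (E *ᵥ v) + (t' * f₁ x w) • ten w (E *ᵥ v) - ten x v := fun x v => by
          rw [hM1, sub_mulVec, one_mulVec, kron_mulVec_ten, add_mulVec, one_mulVec, smul_mulVec,
            pMat_mulVec hf₁, smul_smul, ten_add_left, ten_smul_left]
        have hΦ : Function.Injective Φ := by
          rw [injective_iff_map_eq_zero]
          rintro ⟨v, s⟩ hv
          simp only [Φ, LinearMap.comp_apply, LinearMap.add_apply, mulVecLin_apply, LinearMap.fst_apply,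
            LinearMap.snd_apply, LinearMap.toSpanSingleton_apply, mulVec_add, mulVec_smul] at hv
          change M1 *ᵥ ten x₀ v + s • M1 *ᵥ ten z y₀ = 0 at hv
          rw [hMten, hMten, hxw', hzw, mul_one, mul_zero, zero_smul, add_zero] at hv
          have hrow : ∀ i, x₀ i • (E *ᵥ v - v) + (t' * w i) • (E *ᵥ v) + (s * z i) • h = 0 := fun i => by
            have := congrArg (fun q => row q i) hv
            refine Eq.trans ?_ this
            funext j
            simp [row, ten, h]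
            ring
          have hcomb : ∀ l : Fin a → F, (l ⬝ᵥ x₀) • (E *ᵥ v - v) + (t' * (l ⬝ᵥ w)) • (E *ᵥ v)
              + (s * (l ⬝ᵥ z)) • h = 0 := fun l => by
            have e := Finset.sum_eq_zero (s := Finset.univ) (f := fun i => l i • (x₀ i • (E *ᵥ v - v)
              + (t' * w i) • (E *ᵥ v) + (s * z i) • h)) fun i _ => by rw [hrow i, smul_zero]
            refine Eq.trans ?_ e
            simp only [dotProduct, Finset.mul_sum, Finset.sum_smul, ← Finset.sum_add_distrib]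
            exact Finset.sum_congr rfl fun i _ => by module
          -- pair with the three functionals
          have e1 : E *ᵥ v - v = 0 := by
            have := hcomb (leftVec f₁ w)
            simpa [hs₁.dot_leftVec, hxw', hww, hzw] using this
          obtain ⟨r, hrw, hrz⟩ := hs₁.exists_orth_not_orth (u := w) (v := z) hzne
          obtain ⟨p, hpw⟩ : ∃ p, f₁ w p = 1 := ⟨x₀, hwx⟩
          have e2 : s = 0 := by
            have hwr : f₁ w r = 0 := unitary_orth_symm hf₁ hrw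
            have hzr : f₁ z r = 1 := by rw [hf₁.herm, hrz, map_one]
            have := hcomb (leftVec f₁ r)
            simp only [hs₁.dot_leftVec, hwr, hzr, e1, mul_zero, zero_smul, smul_zero, zero_add, mul_one] at this
            exact (smul_eq_zero.mp this).resolve_right hy₀
          have e3 : E *ᵥ v = 0 := by
            have := hcomb (leftVec f₁ p)
            simp only [hs₁.dot_leftVec, hpw, e1, e2, zero_mul, zero_smul, smul_zero, zero_add, add_zero, mul_one] at this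
            exact (smul_eq_zero.mp this).resolve_left ht'0
          refine Prod.ext (mulVec_injective_iff_isUnit.mpr hEu (e3.trans (mulVec_zero _).symm)) e2
        have hle := Submodule.finrank_mono (show LinearMap.range Φ ≤ LinearMap.range M1.mulVecLin from
          LinearMap.range_comp_le_range _ _)
        rw [LinearMap.finrank_range_of_inj hΦ, Module.finrank_prod, Module.finrank_fin_fun,
          Module.finrank_self, ← Matrix.rank, hrank] at hle
        omega
      · obtain ⟨E', -, hE'⟩ := hconj u hu0 hu (q * t) (by rw [map_mul, hq, ht]; ring)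
        rw [hlin, ← hwdef] at hE'
        obtain ⟨x₀, hxw, hxw', hwx⟩ := exists_partner hf₁ hw0 hww
        have key : ∀ v, ten x₀ (E' *ᵥ v - v) + (q * t') • ten w (E' *ᵥ v)
            = q • (ten x₀ (E *ᵥ v - v) + t' • ten w (E *ᵥ v)) := by
          intro v
          have h1 := congrArg (· *ᵥ ten x₀ v) hE
          have h2 := congrArg (· *ᵥ ten x₀ v) hE'
          simp only [add_mulVec, one_mulVec, smul_mulVec, kron_mulVec_ten, pMat_mulVec hf₁, hxw', one_smul,
            ten_add_left, ten_smul_left, mul_div_assoc] at h1 h2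
          have e3 : ∀ p r : Fin b → F, ten x₀ (p - r) = ten x₀ p - ten x₀ r := fun p r => by
            rw [eq_sub_iff_add_eq, ← ten_add_right, sub_add_cancel]
          rw [e3, e3]
          linear_combination (norm := module) q • h1 - h2
        refine Matrix.ext_iff_mulVec.mpr fun v => ?_
        rw [one_mulVec]
        have hsplit : ∀ p p' r r' : Fin b → F, ten x₀ p + ten w r = ten x₀ p' + ten w r' → p = p' ∧ r = r' := by
          intro p p' r r' hpr
          have hrow : ∀ l : Fin a → F, (l ⬝ᵥ x₀) • p + (l ⬝ᵥ w) • r = (l ⬝ᵥ x₀) • p' + (l ⬝ᵥ w) • r' := fun l => by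
            simpa [map_add, rowDot_ten] using congrArg (rowDot l) hpr
          have h1 := hrow (leftVec f₁ w)
          have h2 := hrow (leftVec f₁ x₀)
          simp [hs₁.dot_leftVec, hxw', hww, hwx, hxw] at h1 h2
          exact ⟨h1, h2⟩
        have h := key v
        rw [smul_add, ← ten_smul_right, ← ten_smul_right, smul_smul, ← ten_smul_right] at h
        obtain ⟨e1, e2⟩ := hsplit _ _ _ _ h
        have e4 : E' *ᵥ v = E *ᵥ v := smul_right_injective _ (mul_ne_zero hq0 ht'0) e2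
        rw [e4] at e1
        have : (1 - q) • (E *ᵥ v - v) = 0 := by rw [sub_smul, one_smul, ← e1, sub_self]
        exact sub_eq_zero.mp ((smul_eq_zero.mp this).resolve_left (sub_ne_zero.mpr (Ne.symm hq1)))
    rw [hEone, add_kronecker, one_kronecker_one, smul_kronecker, add_right_inj] at hE
    have hDval : D₀ = (κ⁻¹ • pMat f₁ w) ⊗ₖ (1 : Matrix (Fin b) (Fin b) F) := by
      have := congrArg (t⁻¹ • ·) hE
      simp only [smul_smul, inv_mul_cancel₀ ht0, one_smul] at this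
      rw [this, smul_kronecker]
      congr 1
      field_simp
    have hSPS : S * pMat f₁ u * Si = κ⁻¹ • pMat f₁ w := Matrix.ext_iff_mulVec.mpr fun v => by
      rw [← mulVec_mulVec, ← mulVec_mulVec, pMat_mulVec hf₁, mulVec_smul, smul_mulVec, pMat_mulVec hf₁, smul_smul]
      congr 1
      conv_rhs => arg 2; rw [← hSSi v]
      rw [hwdef, hsim, ← mul_assoc, inv_mul_cancel₀ hκ0, one_mul]
    rw [hSPS, ← hDval, hD₀, hyi, mul_assoc _ ((y⁻¹ : GL (Idx a b) F) : Matrix (Idx a b) (Idx a b) F),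
      Units.inv_mul, mul_one]
  -- hence every left matrix
  let 𝒮 : Submodule F (Matrix (Fin a) (Fin a) F) :=
    { carrier := {A | (y : Matrix (Idx a b) (Idx a b) F) * (A ⊗ₖ (1 : Matrix (Fin b) (Fin b) F))
        = ((S * A * Si) ⊗ₖ (1 : Matrix (Fin b) (Fin b) F)) * (y : Matrix (Idx a b) (Idx a b) F)}
      add_mem' := fun {A B} hA hB => by
        simp only [Set.mem_ofPred_eq, add_kronecker, mul_add, add_mul] at hA hB ⊢
        rw [hA, hB]
      zero_mem' := by simp
      smul_mem' := fun k A hA => by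
        simp only [Set.mem_ofPred_eq, smul_kronecker, Matrix.mul_smul, Matrix.smul_mul] at hA ⊢
        rw [hA] }
  have hmul : ∀ A ∈ 𝒮, ∀ B ∈ 𝒮, A * B ∈ 𝒮 := by
    intro A hA B hB
    show _ = _
    rw [← one_mul (1 : Matrix (Fin b) (Fin b) F), mul_kronecker_mul, ← mul_assoc,
      show (y : Matrix (Idx a b) (Idx a b) F) * (A ⊗ₖ 1) = _ from hA, mul_assoc,
      show (y : Matrix (Idx a b) (Idx a b) F) * (B ⊗ₖ 1) = _ from hB, ← mul_assoc, ← mul_kronecker_mul]
    congr 2
    rw [show S * A * Si * (S * B * Si) = S * A * (Si * S) * B * Si by simp only [mul_assoc], hSi, hS,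
      Units.inv_mul, mul_one]
    simp only [mul_assoc]
  have hpp : ∀ u v : Fin a → F, pMat f₁ u * pMat f₁ v = f₁ v u • vecMulVec u (leftVec f₁ v) := fun u v =>
    Matrix.ext_iff_mulVec.mpr fun x => by
      rw [← mulVec_mulVec, pMat_mulVec hf₁ v, mulVec_smul, pMat_mulVec hf₁, smul_mulVec, vecMulVec_mulVec',
        hs₁.dot_leftVec, smul_smul, smul_smul, mul_comm]
  have hiso : ∀ u v : Fin a → F, f₁ u u = 0 → f₁ v v = 0 → vecMulVec u (leftVec f₁ v) ∈ 𝒮 := by
    intro u v hu hv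
    rcases eq_or_ne u 0 with rfl | hu0
    · rw [zero_vecMulVec]; exact 𝒮.zero_mem
    rcases eq_or_ne v 0 with rfl | hv0
    · rw [show leftVec f₁ (0 : Fin a → F) = 0 from funext fun j => hs₁.zero_right _, vecMulVec_zero]
      exact 𝒮.zero_mem
    obtain ⟨z, hz, hzu, hzv⟩ := exists_partner_both hf₁ hu0 hu hv0 hv
    have hz0 : z ≠ 0 := fun h => hzu (h ▸ hs₁.zero_left _)
    have hm := hmul _ (hmul _ (hP u hu0 hu) _ (hP z hz0 hz)) _ (hP v hv0 hv)
    rw [hpp] at hm
    have e : f₁ z u • vecMulVec u (leftVec f₁ z) * pMat f₁ v = (f₁ z u * f₁ v z) • vecMulVec u (leftVec f₁ v) := by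
      refine Matrix.ext_iff_mulVec.mpr fun x => ?_
      rw [← mulVec_mulVec, pMat_mulVec hf₁, smul_mulVec, smul_mulVec, mulVec_smul, vecMulVec_mulVec',
        vecMulVec_mulVec', hs₁.dot_leftVec, hs₁.dot_leftVec, smul_smul, smul_smul, smul_smul]
      congr 1
      ring
    rw [e] at hm
    exact (𝒮.smul_mem_iff (mul_ne_zero hzu (unitary_ne_symm hf₁ hzv))).mp hm
  have hall : ∀ x v : Fin a → F, vecMulVec x (leftVec f₁ v) ∈ 𝒮 := by
    intro x
    let Sv : Submodule F (Fin a → F) :=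
      { carrier := {v | vecMulVec x (leftVec f₁ v) ∈ 𝒮}
        add_mem' := fun {p q} hp hq => by
          show vecMulVec x (leftVec f₁ (p + q)) ∈ 𝒮
          rw [hs₁.leftVec_add, vecMulVec_add]; exact 𝒮.add_mem hp hq
        zero_mem' := by
          show vecMulVec x (leftVec f₁ 0) ∈ 𝒮
          rw [show leftVec f₁ (0 : Fin a → F) = 0 from funext fun j => hs₁.zero_right _, vecMulVec_zero]
          exact 𝒮.zero_mem
        smul_mem' := fun k p hp => by
          show vecMulVec x (leftVec f₁ (k • p)) ∈ 𝒮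
          rw [hs₁.leftVec_smul, vecMulVec_smul]; exact 𝒮.smul_mem _ hp }
    suffices h : Sv = ⊤ from fun v => (h ▸ Submodule.mem_top : v ∈ Sv)
    refine eq_top_of_iso_mem hf₁ (by rw [Fintype.card_fin]; omega) fun v hv => ?_
    let Sx : Submodule F (Fin a → F) :=
      { carrier := {x | vecMulVec x (leftVec f₁ v) ∈ 𝒮}
        add_mem' := fun {p q} hp hq => by
          show vecMulVec (p + q) _ ∈ 𝒮
          rw [add_vecMulVec]; exact 𝒮.add_mem hp hq
        zero_mem' := by show vecMulVec 0 _ ∈ 𝒮; rw [zero_vecMulVec]; exact 𝒮.zero_mem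
        smul_mem' := fun k p hp => by
          show vecMulVec (k • p) _ ∈ 𝒮
          rw [smul_vecMulVec]; exact 𝒮.smul_mem _ hp }
    have hx : Sx = ⊤ := eq_top_of_iso_mem hf₁ (by rw [Fintype.card_fin]; omega) fun u hu => hiso u v hu hv
    exact (hx ▸ Submodule.mem_top : x ∈ Sx)
  have hA : ∀ A, A ∈ 𝒮 := by
    intro A
    have e : A = ∑ i, vecMulVec (Pi.single i (1 : F)) (A i) := by
      ext j l
      rw [Matrix.sum_apply, Finset.sum_eq_single j] <;> simp +contextual [vecMulVec_apply]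
    rw [e]
    refine Submodule.sum_mem _ fun i _ => ?_
    obtain ⟨v, hv⟩ := hs₁.leftVec_surjective (A i)
    rw [← hv]; exact hall _ v
  -- so `y` is a Kronecker product
  set K := (Si ⊗ₖ (1 : Matrix (Fin b) (Fin b) F)) * (y : Matrix (Idx a b) (Idx a b) F) with hK
  have hKcomm : ∀ A, K * (A ⊗ₖ (1 : Matrix (Fin b) (Fin b) F)) = (A ⊗ₖ 1) * K := fun A => by
    rw [hK, mul_assoc, show (y : Matrix (Idx a b) (Idx a b) F) * (A ⊗ₖ 1) = _ from hA A, ← mul_assoc,
      ← mul_kronecker_mul, ← mul_assoc (A ⊗ₖ _), ← mul_kronecker_mul]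
    congr 2
    rw [show Si * (S * A * Si) = (Si * S) * A * Si by simp only [mul_assoc], hSi, hS, Units.inv_mul, one_mul]
  set i₀ : Fin a := 0
  let Tl : (Fin b → F) →ₗ[F] (Fin b → F) :=
    { toFun := fun w => row (K *ᵥ ten (Pi.single i₀ 1) w) i₀
      map_add' := fun p q => by rw [ten_add_right, mulVec_add]; rfl
      map_smul' := fun k p => by rw [ten_smul_right, mulVec_smul]; rfl }
  have hKval : K = (1 : Matrix (Fin a) (Fin a) F) ⊗ₖ LinearMap.toMatrix' Tl := by
    refine mat_ext_ten fun x w => ?_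
    set A := vecMulVec x (Pi.single i₀ (1 : F)) with hAdef
    have hx : ten x w = (A ⊗ₖ (1 : Matrix (Fin b) (Fin b) F)) *ᵥ ten (Pi.single i₀ 1) w := by
      rw [kron_mulVec_ten, one_mulVec, hAdef, vecMulVec_mulVec', single_dotProduct, Pi.single_eq_same,
        one_mul, one_smul]
    rw [kron_mulVec_ten, one_mulVec, LinearMap.toMatrix'_mulVec, hx, mulVec_mulVec, hKcomm,
      ← mulVec_mulVec]
    set v := K *ᵥ ten (Pi.single i₀ 1) w
    show _ = ten x (row v i₀)
    funext ⟨i, j⟩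
    show row ((A ⊗ₖ (1 : Matrix (Fin b) (Fin b) F)) *ᵥ v) i j = x i * row v i₀ j
    rw [row_kron_mulVec, hAdef, Finset.sum_apply, Finset.sum_eq_single i₀]
    · simp [vecMulVec_apply, one_mulVec]
    · intro r _ hr; simp [vecMulVec_apply, hr]
    · simp
  refine hyL ⟨?_, hM hyM⟩
  have hyval : (y : Matrix (Idx a b) (Idx a b) F) = S ⊗ₖ LinearMap.toMatrix' Tl := by
    calc (y : Matrix (Idx a b) (Idx a b) F) = (S ⊗ₖ (1 : Matrix (Fin b) (Fin b) F)) * K := by
          rw [hK, ← mul_assoc, ← mul_kronecker_mul, hS, hSi, Units.mul_inv, one_mul, one_kronecker_one, one_mul]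
      _ = _ := by rw [hKval, ← mul_kronecker_mul, mul_one, one_mul]
  have hdet : (LinearMap.toMatrix' Tl).det ≠ 0 := fun h0 => by
    refine ((Matrix.isUnit_iff_isUnit_det _).mp y.isUnit).ne_zero ?_
    rw [hyval, det_kronecker, h0, Fintype.card_fin a, zero_pow (by omega), mul_zero]
  exact ⟨Sg, Matrix.GeneralLinearGroup.mkOfDetNeZero _ hdet, hyval⟩

end CfsgLib.TensorUnitary
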