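import Cfsg.Agent.TensorUnitary.RootGroup
import Cfsg.Agent.TensorUnitary.Radical

/-!
# Elements outside the stabiliser fixing a slice: tools and the case of a two-dimensional left factor
-/

set_option autoImplicit false
set_option linter.unusedSectionVars false

namespace CfsgLib.TensorUnitary

open Matrix Cfsg.Geo CfsgLib.MaxSub CfsgLib.TensorMax
open scoped Kronecker

variable {F : Type*} [Field F] [Finite F] {a b : ℕ} {σ : F ≃+* F}
  {f₁ : (Fin a → F) → (Fin a → F) → F} {f₂ : (Fin b → F) → (Fin b → F) → F}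

/-- An element of `M` outside the stabiliser maps an isotropic slice to itself. -/
def HasBlock (M : Subgroup (GL (Idx a b) F)) (f₁ : (Fin a → F) → (Fin a → F) → F)
    (f₂ : (Fin b → F) → (Fin b → F) → F) : Prop :=
  ∃ y ∈ M, y ∉ tensU f₁ f₂ ∧ ∃ c : Fin b → F, c ≠ 0 ∧ f₂ c c = 0 ∧ ∃ S : GL (Fin a) F,
    ∀ x, (y : Matrix (Idx a b) (Idx a b) F) *ᵥ ten x c = ten ((S : Matrix (Fin a) (Fin a) F) *ᵥ x) c

theorem mulVec_inv_cancel {ι : Type} [Fintype ι] [DecidableEq ι] (g : GL ι F) (v : ι → F) :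
    ((g⁻¹ : GL ι F) : Matrix ι ι F) *ᵥ ((g : Matrix ι ι F) *ᵥ v) = v := by
  rw [mulVec_mulVec, Units.inv_mul, one_mulVec]

theorem mulVec_inv_cancel' {ι : Type} [Fintype ι] [DecidableEq ι] (g : GL ι F) (v : ι → F) :
    (g : Matrix ι ι F) *ᵥ (((g⁻¹ : GL ι F) : Matrix ι ι F) *ᵥ v) = v := by
  rw [mulVec_mulVec, Units.mul_inv, one_mulVec]

theorem conj_mulVec {ι : Type} [Fintype ι] [DecidableEq ι] (g r : GL ι F) (v : ι → F) :
    ((g * r * g⁻¹ : GL ι F) : Matrix ι ι F) *ᵥ v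
      = (g : Matrix ι ι F) *ᵥ ((r : Matrix ι ι F) *ᵥ (((g⁻¹ : GL ι F) : Matrix ι ι F) *ᵥ v)) := by
  rw [Units.val_mul, Units.val_mul, ← mulVec_mulVec, ← mulVec_mulVec]

variable (hf₁ : IsUnitaryForm σ f₁) (hf₂ : IsUnitaryForm σ f₂)
  {M : Subgroup (GL (Idx a b) F)} (hLM : tensU f₁ f₂ ≤ M) (hM : M ≤ su (form f₁ f₂))

section
include hf₁ hf₂ hLM hM

/-- An element mapping an isotropic slice into a slice. -/
theorem hasBlock_of_map (ha : 1 ≤ a) {y : GL (Idx a b) F} (hyM : y ∈ M) (hyL : y ∉ tensU f₁ f₂)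
    {c c' : Fin b → F} (hc0 : c ≠ 0) (hcc : f₂ c c = 0) (hc' : c' ≠ 0)
    (hmap : ∀ x, ∃ x', (y : Matrix (Idx a b) (Idx a b) F) *ᵥ ten x c = ten x' c') :
    HasBlock M f₁ f₂ := by
  have : NeZero a := ⟨by omega⟩
  obtain ⟨α, hα⟩ := exists_dot_eq_one hc'
  have hαc : α ⬝ᵥ c' = 1 := hα
  let Sl : (Fin a → F) →ₗ[F] (Fin a → F) :=
    { toFun := fun x => colDot α ((y : Matrix (Idx a b) (Idx a b) F) *ᵥ ten x c)
      map_add' := fun x z => by rw [ten_add_left, mulVec_add, map_add]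
      map_smul' := fun k x => by rw [ten_smul_left, mulVec_smul, map_smul, RingHom.id_apply] }
  have hSl : ∀ x, (y : Matrix (Idx a b) (Idx a b) F) *ᵥ ten x c = ten (Sl x) c' := by
    intro x
    obtain ⟨x', hx'⟩ := hmap x
    show _ = ten (colDot α _) c'
    rw [hx', colDot_ten, hαc, one_smul]
  have hinj : Function.Injective Sl := fun x z h => ten_inj_left hc0
    (mulVec_injective_iff_isUnit.mpr y.isUnit (by rw [hSl, hSl, h]))
  have hcc' : f₂ c' c' = 0 := by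
    obtain ⟨x', hx'⟩ := (hf₁.nondegenerate (Sl (Pi.single 0 1)) (fun h => by
      have := hinj (h.trans (map_zero Sl).symm)
      simp at this)).2
    obtain ⟨z, hz⟩ := LinearMap.surjective_of_injective hinj x'
    have h := (hM hyM).1 (ten (Pi.single 0 1) c) (ten z c)
    rw [hSl, hSl, form_ten_ten hf₁ hf₂, form_ten_ten hf₁ hf₂, hcc, mul_zero, hz] at h
    exact (mul_eq_zero.mp h).resolve_left hx'
  obtain ⟨T, hT, k, hk, hTc⟩ := exists_move_line hf₂ hc' hcc' hc0 hcc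
  have hkL : krG ((1 : GL (Fin a) F), T) ∈ tensU f₁ f₂ := krG_mem_tensU hf₁ hf₂ (Subgroup.one_mem _) hT
  have hS : (k • LinearMap.toMatrix' Sl).det ≠ 0 := by
    have hu : IsUnit (k • LinearMap.toMatrix' Sl) := by
      refine mulVec_injective_iff_isUnit.mp fun x z h => ?_
      simp only [smul_mulVec, LinearMap.toMatrix'_mulVec] at h
      exact hinj (smul_right_injective _ hk h)
    exact ((Matrix.isUnit_iff_isUnit_det _).mp hu).ne_zero
  refine ⟨_, M.mul_mem (hLM hkL) hyM, fun h => hyL ?_, c, hc0, hcc,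
    Matrix.GeneralLinearGroup.mkOfDetNeZero _ hS, fun x => ?_⟩
  · have := (tensU f₁ f₂).mul_mem ((tensU f₁ f₂).inv_mem hkL) h
    rwa [inv_mul_cancel_left] at this
  · rw [Units.val_mul, ← mulVec_mulVec, hSl, krG_val, kron_mulVec_ten, Units.val_one, one_mulVec, hTc]
    show _ = ten ((k • LinearMap.toMatrix' Sl) *ᵥ x) c
    rw [smul_mulVec, LinearMap.toMatrix'_mulVec, ten_smul_right, ten_smul_left]

omit hLM hM in
/-- A conjugate of a root element in the stabiliser is a root element. -/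
theorem exists_eq_root (ha : 1 ≤ a) (hab : a < b) (g : GL (Idx a b) F) {c : Fin b → F} (hc0 : c ≠ 0)
    (hcc : f₂ c c = 0) {l : F} (hl0 : l ≠ 0) (h : g * uroot a f₂ c l * g⁻¹ ∈ tensU f₁ f₂) :
    ∃ c' ψ' : Fin b → F, c' ≠ 0 ∧ ψ' ≠ 0 ∧ ψ' ⬝ᵥ c' = 0 ∧ g * uroot a f₂ c l * g⁻¹ = root c' ψ' := by
  classical
  have : NeZero a := ⟨by omega⟩
  have : NeZero b := ⟨by omega⟩
  set p := ringChar F
  have : Fact p.Prime := ⟨CharP.char_is_prime F p⟩
  have horth : leftVec f₂ c ⬝ᵥ (l • c) = 0 := uroot_orth hf₂ hcc l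
  have hpow : (uroot a f₂ c l) ^ p ^ 1 = 1 := by
    apply Units.ext
    have hsq : ((1 : Matrix (Fin a) (Fin a) F) ⊗ₖ vecMulVec (l • c) (leftVec f₂ c)) ^ p = 0 :=
      pow_eq_zero_of_le (Fact.out (p := p.Prime)).two_le
        (by rw [pow_two, ← mul_kronecker_mul, vecMulVec_sq horth, kronecker_zero])
    rw [pow_one, Units.val_pow_eq_pow_val, uroot, root_val horth,
      add_pow_char_of_commute p (Commute.one_left _), hsq, add_zero, one_pow, Units.val_one]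
  exact eq_root_of_rank hab (p := p) h.1 (k := 1)
    (by rw [conj_pow, hpow, mul_one, mul_inv_cancel])
    (by rw [rank_conj_sub_one]
        exact rank_root_sub_one (smul_ne_zero hl0 hc0) ((sesqForm_of_unitary hf₂).leftVec_ne_zero hc0) horth)

/-- An element conjugating a root element into the stabiliser. -/
theorem hasBlock_of_fusion (ha : 1 ≤ a) (hab : a < b) {y : GL (Idx a b) F} (hyM : y ∈ M)
    (hyL : y ∉ tensU f₁ f₂) {c : Fin b → F} (hc0 : c ≠ 0) (hcc : f₂ c c = 0) {l : F} (hl0 : l ≠ 0)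
    (h : y * uroot a f₂ c l * y⁻¹ ∈ tensU f₁ f₂) : HasBlock M f₁ f₂ := by
  obtain ⟨c', ψ', hc', hψ', hcψ', he⟩ := exists_eq_root hf₁ hf₂ ha hab y hc0 hcc hl0 h
  refine hasBlock_of_map hf₁ hf₂ hLM hM ha hyM hyL hc0 hcc hc' fun x => ?_
  have hψ : leftVec f₂ c ≠ 0 := (sesqForm_of_unitary hf₂).leftVec_ne_zero hc0
  have horth : leftVec f₂ c ⬝ᵥ (l • c) = 0 := uroot_orth hf₂ hcc l
  obtain ⟨w, hw⟩ : ten x (l • c) ∈ LinearMap.range
      (((uroot a f₂ c l : Matrix (Idx a b) (Idx a b) F) - 1).mulVecLin) := by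
    rw [uroot, range_root_sub_one hψ horth]; exact ⟨x, rfl⟩
  have hmem : (y : Matrix (Idx a b) (Idx a b) F) *ᵥ ten x (l • c) ∈ LinearMap.range
      (((root (a := a) c' ψ' : Matrix (Idx a b) (Idx a b) F) - 1).mulVecLin) := by
    refine ⟨(y : Matrix (Idx a b) (Idx a b) F) *ᵥ w, ?_⟩
    rw [← hw, ← he, mulVecLin_apply, mulVecLin_apply, mulVec_mulVec, mulVec_mulVec]
    congr 1
    rw [sub_mul, mul_sub, Units.val_mul, Units.val_mul, one_mul, mul_one, mul_assoc, Units.inv_mul, mul_one]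
  rw [range_root_sub_one hψ' hcψ'] at hmem
  obtain ⟨x', hx'⟩ := hmem
  refine ⟨l⁻¹ • x', ?_⟩
  rw [ten_smul_left, show ten x' c' = _ from hx', ten_smul_right, mulVec_smul, smul_smul,
    inv_mul_cancel₀ hl0, one_smul]

/-- An image of an isotropic slice orthogonal to an isotropic slice. -/
theorem hasBlock_of_orth (ha : 1 ≤ a) (hab : a < b) {m : GL (Idx a b) F} (hmM : m ∈ M)
    (hmL : m ∉ tensU f₁ f₂) {c w : Fin b → F} (hc0 : c ≠ 0) (hcc : f₂ c c = 0) (hw0 : w ≠ 0)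
    (hww : f₂ w w = 0) (h : ∀ x, ev f₂ c ((m : Matrix (Idx a b) (Idx a b) F) *ᵥ ten x w) = 0) :
    HasBlock M f₁ f₂ := by
  have hs₁ := sesqForm_of_unitary hf₁
  have hff := isUnitary_form hf₁ hf₂
  obtain ⟨t, ht0, ht⟩ := exists_traceZero hf₂.ne_refl hf₂.involutive
  by_cases hL : m * uroot a f₂ w t * m⁻¹ ∈ tensU f₁ f₂
  · exact hasBlock_of_fusion hf₁ hf₂ hLM hM ha hab hmM hmL hw0 hww ht0 hL
  refine hasBlock_of_map hf₁ hf₂ hLM hM ha
    (M.mul_mem (M.mul_mem hmM (hLM (uroot_mem hf₁ hf₂ hww ht))) (M.inv_mem hmM)) hL hc0 hcc hc0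
    fun p => ⟨p, ?_⟩
  rw [conj_mulVec, uroot_fix hf₂ hww t, mulVec_inv_cancel']
  by_contra hne
  obtain ⟨x, hx⟩ := (hf₁.nondegenerate _ hne).2
  refine hx ?_
  rw [form_ten_right' hf₁ hf₂ m (hM hmM).1, hff.herm, form_ten_right hf₁ hf₂, h, hs₁.zero_left, map_zero]

/-- An element scaling the tensors of an isotropic slice over the orthogonal of an isotropic vector. -/
theorem hasBlock_of_iso_hyperplane (ha : 2 ≤ a) (hab : a < b) {m : GL (Idx a b) F} (hmM : m ∈ M)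
    (hmL : m ∉ tensU f₁ f₂) {c : Fin b → F} (hc0 : c ≠ 0) (hcc : f₂ c c = 0) {z : Fin a → F}
    (hz0 : z ≠ 0) (hz : f₁ z z = 0) {k : F} (hk : k ≠ 0)
    (h : ∀ x, f₁ x z = 0 → (m : Matrix (Idx a b) (Idx a b) F) *ᵥ ten x c = k • ten x c) :
    HasBlock M f₁ f₂ := by
  have hs₁ := sesqForm_of_unitary hf₁
  have hff := isUnitary_form hf₁ hf₂
  have hsf := sesqForm_of_unitary hff
  have : NeZero a := ⟨by omega⟩
  obtain ⟨t, ht0, ht⟩ := exists_traceZero hf₂.ne_refl hf₂.involutive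
  have hσk : σ k ≠ 0 := (map_ne_zero_iff σ σ.injective).mpr hk
  have hev : ∀ x, ∃ s : F, ev f₂ c ((m : Matrix (Idx a b) (Idx a b) F) *ᵥ ten x c) = s • z := by
    intro x
    obtain ⟨s, hs⟩ := exists_smul_of_orth hf₁ (c := z)
      (z := ev f₂ c ((m : Matrix (Idx a b) (Idx a b) F) *ᵥ ten x c)) fun p hp => by
      have h1 := (hM hmM).1 (ten x c) (ten p c)
      rw [h p hp, form_ten_ten hf₁ hf₂, hcc, mul_zero, hsf.smul_right, form_ten_right hf₁ hf₂] at h1
      exact (mul_eq_zero.mp h1).resolve_left hσk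
    exact ⟨s, hs.symm⟩
  choose s hs using hev
  have hz' : ((m⁻¹ : GL (Idx a b) F) : Matrix (Idx a b) (Idx a b) F) *ᵥ ten z c = k⁻¹ • ten z c := by
    apply mulVec_injective_iff_isUnit.mpr m.isUnit
    show (m : Matrix (Idx a b) (Idx a b) F) *ᵥ _ = (m : Matrix (Idx a b) (Idx a b) F) *ᵥ _
    rw [mulVec_inv_cancel', mulVec_smul, h z hz, smul_smul, inv_mul_cancel₀ hk, one_smul]
  set y := m⁻¹ * uroot a f₂ c t * m with hy
  have hval : ∀ x, (y : Matrix (Idx a b) (Idx a b) F) *ᵥ ten x c = ten (x + (t * s x * k⁻¹) • z) c := by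
    intro x
    rw [hy, Units.val_mul, Units.val_mul, ← mulVec_mulVec, ← mulVec_mulVec, uroot_mulVec hf₂ hcc, hs,
      mulVec_add, mulVec_inv_cancel, mulVec_smul, ten_smul_left, mulVec_smul, hz', ten_add_left,
      ten_smul_left, smul_smul, smul_smul]
  by_cases hyL : y ∈ tensU f₁ f₂
  swap
  · exact hasBlock_of_map hf₁ hf₂ hLM hM (by omega)
      (M.mul_mem (M.mul_mem (M.inv_mem hmM) (hLM (uroot_mem hf₁ hf₂ hcc ht))) hmM) hyL hc0 hcc hc0
      fun x => ⟨_, hval x⟩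
  refine hasBlock_of_orth hf₁ hf₂ hLM hM (by omega) hab hmM hmL hc0 hcc hc0 hcc ?_
  have hyL' : m⁻¹ * uroot a f₂ c t * (m⁻¹)⁻¹ ∈ tensU f₁ f₂ := by rw [inv_inv]; exact hyL
  obtain ⟨c', ψ', hc', -, hcψ', he⟩ := exists_eq_root hf₁ hf₂ (by omega) hab m⁻¹ hc0 hcc ht0 hyL'
  rw [inv_inv, ← hy] at he
  have hroot : ∀ x, ten x ((ψ' ⬝ᵥ c) • c') = (t * s x * k⁻¹) • ten z c := by
    intro x
    have h1 := hval x
    rw [he, root_val hcψ', add_mulVec, one_mulVec, kron_mulVec_ten, one_mulVec, vecMulVec_mulVec',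
      ten_add_left, add_right_inj, ten_smul_left] at h1
    exact h1
  intro x
  rw [hs]
  suffices hs0 : t * s x * k⁻¹ = 0 by
    simp only [mul_eq_zero, inv_eq_zero, ht0, hk, or_false, false_or] at hs0
    rw [hs0, zero_smul]
  by_contra hne
  obtain ⟨x₁, hx₁⟩ : ∃ x₁ : Fin a → F, ∀ r : F, r • z ≠ x₁ := by
    by_contra hcon
    push Not at hcon
    have h1 : (⊤ : Submodule F (Fin a → F)) ≤ Submodule.span F {z} := fun p _ => by
      obtain ⟨r, hr⟩ := hcon p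
      exact Submodule.mem_span_singleton.mpr ⟨r, hr⟩
    have h2 := Submodule.finrank_mono h1
    rw [finrank_top, Module.finrank_fin_fun, finrank_span_singleton hz0] at h2
    omega
  have hψc : ψ' ⬝ᵥ c ≠ 0 := fun h0 => by
    have := hroot x
    rw [h0, zero_smul, ten_eq_zero.mpr (Or.inr rfl), eq_comm, smul_eq_zero, ten_eq_zero] at this
    exact this.elim hne (Or.rec hz0 hc0)
  obtain ⟨α, hα⟩ := exists_dot_eq_one hc'
  have hαc : α ⬝ᵥ c' = 1 := hα
  have h2 := congrArg (colDot α) (hroot x₁)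
  rw [map_smul, colDot_ten, colDot_ten, dotProduct_smul, hαc, smul_eq_mul, mul_one, smul_smul] at h2
  refine hx₁ ((ψ' ⬝ᵥ c)⁻¹ * (t * s x₁ * k⁻¹ * (α ⬝ᵥ c))) ?_
  rw [mul_smul, ← h2, smul_smul, inv_mul_cancel₀ hψc, one_smul]

omit hLM hM in
theorem orth_iso_two (ha : a = 2) {u x : Fin a → F} (hu0 : u ≠ 0) (hu : f₁ u u = 0) (hx : f₁ x u = 0) :
    ∃ k : F, k • u = x := by
  have hs₁ := sesqForm_of_unitary hf₁
  set K := dotsKer ![leftVec f₁ u]
  have hmem : ∀ p, p ∈ K ↔ f₁ p u = 0 := fun p => by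
    rw [mem_dotsKer]; simp [hs₁.dot_leftVec]
  have hK : Module.finrank F K ≤ 1 := by
    by_contra hcon
    obtain ⟨w, hw⟩ := hs₁.exists_left_ne_zero hu0
    have htop : K = ⊤ := Submodule.eq_top_of_finrank_eq (le_antisymm (Submodule.finrank_le _) (by
      rw [Module.finrank_fin_fun]; omega))
    exact hw ((hmem w).mp (htop ▸ Submodule.mem_top))
  have hle : Submodule.span F {u} ≤ K := (Submodule.span_singleton_le_iff_mem _ _).mpr ((hmem u).mpr hu)
  have heq := Submodule.eq_of_le_of_finrank_le hle (by rw [finrank_span_singleton hu0]; exact hK)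
  exact Submodule.mem_span_singleton.mp (heq ▸ (hmem x).mpr hx)

/-- An element scaling a pure isotropic tensor, two-dimensional left factor. -/
theorem hasBlock_of_eigen (ha : a = 2) (hab : a < b) {m : GL (Idx a b) F} (hmM : m ∈ M)
    (hmL : m ∉ tensU f₁ f₂) {c : Fin b → F} (hc0 : c ≠ 0) (hcc : f₂ c c = 0) {u : Fin a → F}
    (hu0 : u ≠ 0) (hu : f₁ u u = 0) {k : F} (hk : k ≠ 0)
    (h : (m : Matrix (Idx a b) (Idx a b) F) *ᵥ ten u c = k • ten u c) : HasBlock M f₁ f₂ :=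
  hasBlock_of_iso_hyperplane hf₁ hf₂ hLM hM (by omega) hab hmM hmL hc0 hcc hu0 hu hk fun x hx => by
    obtain ⟨r, rfl⟩ := orth_iso_two hf₁ hf₂ ha hu0 hu hx
    rw [ten_smul_left, mulVec_smul, h, smul_comm]

end

end CfsgLib.TensorUnitary
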