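import Cfsg.Agent.TensorUnitary.Siegel
import Cfsg.Agent.TensorUnitary.SmallBlock

/-!
# An overgroup of the stabiliser contains every isotropic transvection
-/

set_option autoImplicit false
set_option linter.unusedSectionVars false

namespace CfsgLib.TensorUnitary

open Matrix Cfsg.Geo CfsgLib.MaxSub CfsgLib.TensorMax
open scoped Kronecker

variable {F : Type*} [Field F] [Finite F] {a b : ℕ} {σ : F ≃+* F}
  {f₁ : (Fin a → F) → (Fin a → F) → F} {f₂ : (Fin b → F) → (Fin b → F) → F}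

theorem pMat_kron_rMat (hf₁ : IsUnitaryForm σ f₁) (hf₂ : IsUnitaryForm σ f₂) (u : Fin a → F)
    (c v : Fin b → F) :
    pMat f₁ u ⊗ₖ rMat f₂ c v = rMat (form f₁ f₂) (ten u c) (ten u v) :=
  mat_ext_ten fun x y => by
    rw [kron_mulVec_ten, pMat_mulVec hf₁, rMat_mulVec hf₂, rMat_mulVec (isUnitary_form hf₁ hf₂),
      form_ten_ten hf₁ hf₂, form_ten_ten hf₁ hf₂, sub_eq_add_neg, ← neg_smul, ten_add_right,
      ten_smul_left, ten_smul_left, ten_smul_right, ten_smul_right, smul_smul, smul_smul, mul_neg,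
      neg_smul, sub_eq_add_neg]

/-- The elements `B` with `1 + P_u ⊗ B` in `M`. -/
def slotGroup (hf₁ : IsUnitaryForm σ f₁) (f₂ : (Fin b → F) → (Fin b → F) → F)
    (M : Subgroup (GL (Idx a b) F)) {u : Fin a → F} (hu : f₁ u u = 0) :
    AddSubgroup (Matrix (Fin b) (Fin b) F) where
  carrier := {B | ∃ g ∈ M, (g : Matrix (Idx a b) (Idx a b) F) = 1 + pMat f₁ u ⊗ₖ B}
  add_mem' {A B} hA hB := by
    obtain ⟨g, hg, hgA⟩ := hA
    obtain ⟨h, hh, hhB⟩ := hB
    refine ⟨g * h, M.mul_mem hg hh, ?_⟩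
    rw [Units.val_mul, hgA, hhB, mul_add, mul_one, add_mul, one_mul, ← mul_kronecker_mul,
      pMat_mul_self hf₁ hu, zero_kronecker, add_zero, add_assoc, ← kronecker_add]
  zero_mem' := ⟨1, M.one_mem, by rw [kronecker_zero, add_zero, Units.val_one]⟩
  neg_mem' {A} hA := by
    obtain ⟨g, hg, hgA⟩ := hA
    refine ⟨g⁻¹, M.inv_mem hg, Units.inv_eq_of_mul_eq_one_right ?_⟩
    rw [hgA, mul_add, mul_one, add_mul, one_mul, ← mul_kronecker_mul,
      pMat_mul_self hf₁ hu, zero_kronecker, add_zero, add_assoc, ← kronecker_add, add_neg_cancel,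
      kronecker_zero, add_zero]

variable (hf₁ : IsUnitaryForm σ f₁) (hf₂ : IsUnitaryForm σ f₂)
  {M : Subgroup (GL (Idx a b) F)} (hLM : tensU f₁ f₂ ≤ M) (hM : M ≤ su (form f₁ f₂))
  (hC : ∀ x y, f₁ x x = 0 → f₂ y y = 0 → IsCentre σ (form f₁ f₂) M (ten x y))

include hf₁ hf₂ hLM hC in
theorem isSieg_seed {u : Fin a → F} (hu : f₁ u u = 0) {c : Fin b → F} (hc0 : c ≠ 0) (hc : f₂ c c = 0)
    {v : Fin b → F} (hv : f₂ v c = 0) : IsSieg (form f₁ f₂) M (ten u c) (ten u v) := by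
  have hff := isUnitary_form hf₁ hf₂
  have hs₂ := sesqForm_of_unitary hf₂
  let ℬ := slotGroup hf₁ f₂ M hu
  have hℬ : ConjInv f₂ ℬ := by
    rintro T hT B ⟨m, hm, hmB⟩
    have hk := hLM (krG_mem_tensU hf₁ hf₂ (Subgroup.one_mem (su f₁)) hT)
    refine ⟨krG (1, T) * m * (krG (1, T))⁻¹, M.mul_mem (M.mul_mem hk hm) (M.inv_mem hk), ?_⟩
    rw [← map_inv, Prod.inv_mk, inv_one, Units.val_mul, Units.val_mul, hmB, krG_val, krG_val,
      Units.val_one, mul_add, mul_one, add_mul, ← mul_kronecker_mul, ← mul_kronecker_mul, ← mul_kronecker_mul,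
      Units.mul_inv, one_mul, one_mul, mul_one, one_kronecker_one]
  have hP : ∀ y, f₂ y y = 0 → ∀ k, σ k = -k → k • pMat f₂ y ∈ ℬ := by
    intro y hy k hk
    obtain ⟨g, hg, hgv⟩ := hC u y hu hy k hk
    exact ⟨g, hg, by rw [hgv, kronecker_smul, pMat_kron hf₁ hf₂]⟩
  obtain ⟨t, ht0, ht⟩ := exists_traceZero hf₂.ne_refl hf₂.involutive
  obtain ⟨c₂, hc₂, hc₂c, hcc₂⟩ := exists_partner hf₂ hc0 hc
  have hi : f₂ (c₂ + t • c) (c₂ + t • c) = 0 := by
    rw [hs₂.add_left, hs₂.add_right, hs₂.add_right, hs₂.smul_left, hs₂.smul_left, hs₂.smul_right,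
      hs₂.smul_right, hc₂, hc, hc₂c, hcc₂, ht]
    ring
  have hD := ℬ.sub_mem (hP _ hi t ht) (hP _ hc₂ t ht)
  rw [pMat_shift hf₂ c c₂ ht] at hD
  obtain ⟨r, -, hr⟩ := exists_rMat_mem hf₂ hℬ hc (by
    rw [hs₂.smul_left, hc₂c, mul_one]
    exact mul_ne_zero ht0 ((map_ne_zero_iff σ σ.injective).mpr ht0)) hD hv
  obtain ⟨g, hg, hgv⟩ := hr
  refine ⟨by rw [form_ten_ten hf₁ hf₂, hu, zero_mul], r, g, hg, ?_⟩
  rw [hgv, siegMat, kronecker_add, kronecker_smul, pMat_kron hf₁ hf₂, pMat_kron_rMat hf₁ hf₂]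

include hf₁ hf₂ hLM hM hC in
/-- All directions killed by the contraction with `c`. -/
theorem isSieg_of_ev (ha : 2 ≤ a) (hb : 4 ≤ b) {u : Fin a → F} (hu0 : u ≠ 0) (hu : f₁ u u = 0)
    {c : Fin b → F} (hc0 : c ≠ 0) (hc : f₂ c c = 0) {w : Idx a b → F} (hw : ev f₂ c w = 0) :
    IsSieg (form f₁ f₂) M (ten u c) w := by
  have hff := isUnitary_form hf₁ hf₂
  have hs₁ := sesqForm_of_unitary hf₁
  have hs₂ := sesqForm_of_unitary hf₂
  have hx₀ : form f₁ f₂ (ten u c) (ten u c) = 0 := by rw [form_ten_ten hf₁ hf₂, hu, zero_mul]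
  obtain ⟨t, ht0, ht⟩ := exists_traceZero hf₁.ne_refl hf₁.involutive
  have hY : ∀ y, f₂ y y = 0 → f₂ y c = 0 → (∀ k : F, k • c ≠ y) →
      ∀ (x : Fin a → F) (s : F), IsSieg (form f₁ f₂) M (ten u c) (s • ten x y) := by
    intro y hy hyc hne
    let X : Submodule F (Fin a → F) :=
      { carrier := {x | ∀ s : F, IsSieg (form f₁ f₂) M (ten u c) (s • ten x y)}
        add_mem' := fun {p q} hp hq s => by
          rw [ten_add_left, smul_add]; exact isSieg_add hff hx₀ (hp s) (hq s)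
        zero_mem' := fun s => by
          rw [ten_eq_zero.mpr (Or.inl rfl), smul_zero]; exact isSieg_zero hff M _
        smul_mem' := fun k p hp s => by rw [ten_smul_left, smul_smul]; exact hp _ }
    suffices h : X = ⊤ from fun x => (h ▸ Submodule.mem_top : x ∈ X)
    refine top_of_iso_not_orth hf₁ (by rw [Fintype.card_fin]; omega) hu0 hu fun x hx hxu => ?_
    intro s
    obtain ⟨v, hvc, hvy⟩ := hs₂.exists_orth_not_orth hne
    have hux := unitary_ne_symm hf₁ hxu
    have hseed := isSieg_seed hf₁ hf₂ hLM hC hu hc0 hc (v := (s / (t * f₁ u x)) • v)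
      (by rw [hs₂.smul_left, hvc, mul_zero])
    have h := isSieg_comm hff hx₀ hM hseed (z := ten x y)
      (by rw [form_ten_ten hf₁ hf₂, hx, zero_mul]) (by rw [form_ten_ten hf₁ hf₂, hyc, mul_zero])
      (hC x y hx hy) ht
    rw [form_ten_ten hf₁ hf₂, hs₂.smul_left, hvy, mul_one] at h
    convert h using 2
    field_simp
  let Y : Submodule F (Fin b → F) :=
    { carrier := {y | ∀ x, IsSieg (form f₁ f₂) M (ten u c) (ten x y)}
      add_mem' := fun {p q} hp hq x => by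
        rw [ten_add_right]; exact isSieg_add hff hx₀ (hp x) (hq x)
      zero_mem' := fun x => by
        rw [ten_eq_zero.mpr (Or.inr rfl)]; exact isSieg_zero hff M _
      smul_mem' := fun k p hp x => by
        rw [ten_smul_right, ← ten_smul_left]; exact hp _ }
  refine ker_eq_sum hf₂ c hw (fun p q => isSieg_add hff hx₀) (isSieg_zero hff M _) fun x v hv => ?_
  have : v ∈ Y := orth_le_of_iso_mem (Y := Y) hf₂ (by rw [Fintype.card_fin]; omega) hc0 hc
    (fun y hy hyc hne x => by simpa using hY y hy hyc hne x 1) hv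
  exact this x

include hf₁ hf₂ hLM hM hC in
/-- All Siegel directions at a pure isotropic tensor. -/
theorem isSieg_all (ha : 2 ≤ a) (hb : 4 ≤ b) {u : Fin a → F} (hu0 : u ≠ 0) (hu : f₁ u u = 0)
    {c : Fin b → F} (hc0 : c ≠ 0) (hc : f₂ c c = 0) {w : Idx a b → F}
    (hw : form f₁ f₂ w (ten u c) = 0) : IsSieg (form f₁ f₂) M (ten u c) w := by
  have hff := isUnitary_form hf₁ hf₂
  have hs₁ := sesqForm_of_unitary hf₁
  have hs₂ := sesqForm_of_unitary hf₂
  have hsf := sesqForm_of_unitary hff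
  have hx₀ : form f₁ f₂ (ten u c) (ten u c) = 0 := by rw [form_ten_ten hf₁ hf₂, hu, zero_mul]
  obtain ⟨c', y, -, hc'c, hcc', hy0, hy, hyc, hyc'⟩ :=
    exists_frame hf₂ (by rw [Fintype.card_fin]; omega) hc0 hc
  set e := ev f₂ c w with he
  set w' := ten e c' with hw'
  have heu : f₁ e u = 0 := by rw [he, ← form_ten_right hf₁ hf₂, hw]
  have hw'y : ev f₂ y w' = 0 := by rw [hw', ev_ten hf₂, unitary_orth_symm hf₂ hyc', zero_smul]
  have hw'x : form f₁ f₂ w' (ten u c) = 0 := by rw [hw', form_ten_ten hf₁ hf₂, heu, zero_mul]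
  have hfirst : IsSieg (form f₁ f₂) M (ten u c) w' := by
    obtain ⟨-, k, h, hhM, hhv⟩ := isSieg_of_ev hf₁ hf₂ hLM hM hC ha hb hu0 hu hy0 hy hw'y
    have hval : ∀ z, (h : Matrix (Idx a b) (Idx a b) F) *ᵥ z = z + (form f₁ f₂ z (ten u y) • w'
        - form f₁ f₂ z w' • ten u y + (k * form f₁ f₂ z (ten u y)) • ten u y) := fun z => by
      rw [hhv, add_mulVec, one_mulVec, siegMat_mulVec hff]
    have hfix : (h : Matrix (Idx a b) (Idx a b) F) *ᵥ ten u c = ten u c := by
      rw [hval, form_ten_ten hf₁ hf₂, hu, zero_mul, unitary_orth_symm hff hw'x]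
      simp
    obtain ⟨x, -, hxu, -⟩ := exists_partner hf₁ hu0 hu
    obtain ⟨v, hvc, hvy⟩ := hs₂.exists_orth_not_orth (u := c) (v := y) fun k hk => hy0 (by
      rw [← hk, hs₂.smul_left, hcc', mul_one] at hyc'
      rw [← hk, hyc', zero_smul])
    have hz : IsSieg (form f₁ f₂) M (ten u c) (ten x v) :=
      isSieg_of_ev hf₁ hf₂ hLM hM hC ha hb hu0 hu hc0 hc (by rw [ev_ten hf₂, hvc, zero_smul])
    have h1 := isSieg_sub hff hx₀ (isSieg_map hff hz (hM hhM).1 hhM hfix) hz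
    rw [hval, add_sub_cancel_left, form_ten_ten hf₁ hf₂, hxu, hvy, one_mul, one_smul, mul_one] at h1
    have h2 : IsSieg (form f₁ f₂) M (ten u c) ((k - form f₁ f₂ (ten x v) w') • ten u y) :=
      isSieg_of_ev hf₁ hf₂ hLM hM hC ha hb hu0 hu hc0 hc
        (by rw [ev_smul hf₂, ev_ten hf₂, hyc, zero_smul, smul_zero])
    have h3 := isSieg_sub hff hx₀ h1 h2
    convert h3 using 1
    module
  have hsecond : IsSieg (form f₁ f₂) M (ten u c) (w - w') :=
    isSieg_of_ev hf₁ hf₂ hLM hM hC ha hb hu0 hu hc0 hc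
      (by rw [ev_sub hf₂, hw', ev_ten hf₂, hc'c, one_smul, he, sub_self])
  simpa using isSieg_add hff hx₀ hfirst hsecond

include hf₁ hf₂ hLM hM hC in
/-- All Siegel directions at a pure isotropic tensor, two-dimensional left factor. -/
theorem isSieg_all_two (ha : a = 2) (hb : 3 ≤ b) {u : Fin a → F} (hu0 : u ≠ 0) (hu : f₁ u u = 0)
    {c : Fin b → F} (hc0 : c ≠ 0) (hc : f₂ c c = 0) {w : Idx a b → F}
    (hw : form f₁ f₂ w (ten u c) = 0) : IsSieg (form f₁ f₂) M (ten u c) w := by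
  have hff := isUnitary_form hf₁ hf₂
  have hs₁ := sesqForm_of_unitary hf₁
  have hs₂ := sesqForm_of_unitary hf₂
  have hsf := sesqForm_of_unitary hff
  have hx₀ : form f₁ f₂ (ten u c) (ten u c) = 0 := by rw [form_ten_ten hf₁ hf₂, hu, zero_mul]
  obtain ⟨t, ht0, ht⟩ := exists_traceZero hf₁.ne_refl hf₁.involutive
  obtain ⟨x, hx, hxu, hux⟩ := exists_partner hf₁ hu0 hu
  obtain ⟨c', hc', hc'c, hcc'⟩ := exists_partner hf₂ hc0 hc
  obtain ⟨e₀, he₀c, he₀c', he₀⟩ := exists_noniso_orth hf₂ (by rw [Fintype.card_fin]; omega) hc hc' hc'c hcc'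
  obtain ⟨d, hd⟩ := exists_moved hf₁.ne_refl
  have hd0 : d ≠ 0 := fun h => hd (by rw [h, map_zero])
  have hd1 : d - 1 ≠ 0 := sub_ne_zero.mpr fun h => hd (by rw [h, map_one])
  -- the centres `u ⊗ c' + x ⊗ e`
  have hZ : ∀ e, f₂ e c = 0 → f₂ e c' = 0 →
      IsCentre σ (form f₁ f₂) M (ten u c' + ten x e) ∧
        form f₁ f₂ (ten u c' + ten x e) (ten u c' + ten x e) = 0 := by
    intro e hec hec'
    have hc'e : f₂ c' e = 0 := unitary_orth_symm hf₂ hec'
    have hiso : form f₁ f₂ (ten u c' + ten x e) (ten u c' + ten x e) = 0 := by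
      rw [hsf.add_left, hsf.add_right, hsf.add_right]
      simp only [form_ten_ten hf₁ hf₂, hu, hx, hec', hc'e]
      ring
    refine ⟨?_, hiso⟩
    obtain ⟨-, k, g, hgM, hgv⟩ := isSieg_seed hf₁ hf₂ hLM hC hx hc0 hc hec
    have hgz := isCentre_map hff (hC u c' hu hc') (hM hgM).1 hgM
    have hval : (g : Matrix (Idx a b) (Idx a b) F) *ᵥ ten u c' = ten u c' + ten x e + k • ten x c := by
      rw [hgv, add_mulVec, one_mulVec, siegMat_mulVec hff, form_ten_ten hf₁ hf₂, form_ten_ten hf₁ hf₂, hux,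
        hc'c, hc'e]
      module
    rw [hval] at hgz
    have hk : σ k = -k := by
      have h1 := (hM hgM).1 (ten u c') (ten u c')
      rw [hval] at h1
      simp only [hsf.add_left, hsf.add_right, hsf.smul_left, hsf.smul_right, form_ten_ten hf₁ hf₂, hu, hx,
        hxu, hux, hc, hc', hc'c, hcc', hec, hec', hc'e, unitary_orth_symm hf₂ hec] at h1
      linear_combination h1
    obtain ⟨g', hg', hg'v⟩ := hC x c hx hc (-k) (by rw [map_neg, hk])
    have := isCentre_map hff hgz (hM hg').1 hg'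
    rwa [hg'v, add_mulVec, one_mulVec, smul_mulVec, pMat_mulVec hff,
      show form f₁ f₂ (ten u c' + ten x e + k • ten x c) (ten x c) = 1 by
        simp [hsf.add_left, hsf.smul_left, form_ten_ten hf₁ hf₂, hux, hx, hc'c],
      one_smul, neg_smul, add_neg_cancel_right] at this
  have hZdir : ∀ e, f₂ e c = 0 → f₂ e c' = 0 → f₂ e₀ e ≠ 0 → ∀ s : F,
      IsSieg (form f₁ f₂) M (ten u c) (s • (ten u c' + ten x e)) := by
    intro e hec hec' hne s
    obtain ⟨hcen, hiso⟩ := hZ e hec hec'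
    have hseed := isSieg_seed hf₁ hf₂ hLM hC hu hc0 hc (v := (s / (t * f₂ e₀ e)) • e₀)
      (by rw [hs₂.smul_left, he₀c, mul_zero])
    have h := isSieg_comm hff hx₀ hM hseed hiso (by
      rw [hsf.add_left, form_ten_ten hf₁ hf₂, form_ten_ten hf₁ hf₂, hu, hec]; ring) hcen ht
    rw [hsf.add_right, form_ten_ten hf₁ hf₂, form_ten_ten hf₁ hf₂, hu, hux, hs₂.smul_left, hs₂.smul_left] at h
    convert h using 2
    field_simp
    ring
  have he₀' : ∀ s : F, IsSieg (form f₁ f₂) M (ten u c) (s • ten x e₀) := by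
    intro s
    have h := isSieg_sub hff hx₀
      (hZdir (d • e₀) (by rw [hs₂.smul_left, he₀c, mul_zero]) (by rw [hs₂.smul_left, he₀c', mul_zero])
        (by rw [hs₂.smul_right]; exact mul_ne_zero ((map_ne_zero_iff σ σ.injective).mpr hd0) he₀) (s / (d - 1)))
      (hZdir e₀ he₀c he₀c' he₀ (s / (d - 1)))
    convert h using 1
    rw [ten_smul_right, ← smul_sub, add_sub_add_left_eq_sub, show d • ten x e₀ - ten x e₀ = (d - 1) • ten x e₀ by rw [sub_smul, one_smul], smul_smul,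
      div_mul_cancel₀ _ hd1]
  have hc'dir : ∀ s : F, IsSieg (form f₁ f₂) M (ten u c) (s • ten u c') := by
    intro s
    have h := isSieg_sub hff hx₀ (hZdir e₀ he₀c he₀c' he₀ s) (he₀' s)
    convert h using 1
    module
  have hxe : ∀ e, f₂ e c = 0 → f₂ e c' = 0 → ∀ s : F, IsSieg (form f₁ f₂) M (ten u c) (s • ten x e) := by
    intro e hec hec' s
    by_cases hne : f₂ e₀ e = 0
    · have h := isSieg_sub hff hx₀ (isSieg_sub hff hx₀ (hZdir (e + e₀)
        (by rw [hs₂.add_left, hec, he₀c, add_zero]) (by rw [hs₂.add_left, hec', he₀c', add_zero])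
        (by rw [hs₂.add_right, hne, zero_add]; exact he₀) s) (hc'dir s)) (he₀' s)
      convert h using 1
      rw [ten_add_right]
      module
    · have h := isSieg_sub hff hx₀ (hZdir e hec hec' hne s) (hc'dir s)
      convert h using 1
      module
  have hxc : ∀ s : F, IsSieg (form f₁ f₂) M (ten u c) (s • ten x c) := by
    intro s
    have h := isSieg_comm hff hx₀ hM (hc'dir (s / t)) (z := ten x c)
      (by rw [form_ten_ten hf₁ hf₂, hx, zero_mul]) (by rw [form_ten_ten hf₁ hf₂, hc, mul_zero])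
      (hC x c hx hc) ht
    rw [hsf.smul_left, form_ten_ten hf₁ hf₂, hux, hc'c, mul_one, mul_one, mul_div_cancel₀ _ ht0] at h
    exact h
  have hker : ∀ x' v, f₂ v c = 0 → IsSieg (form f₁ f₂) M (ten u c) (ten x' v) := by
    intro x' v hv
    obtain ⟨r, hr⟩ := orth_iso_two hf₁ hf₂ ha hu0 hu (x := x' - f₁ x' u • x)
      (by rw [hs₁.sub_left, hs₁.smul_left, hxu, mul_one, sub_self])
    have h1 := isSieg_seed hf₁ hf₂ hLM hC hu hc0 hc (v := r • v) (by rw [hs₂.smul_left, hv, mul_zero])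
    have h2 := isSieg_add hff hx₀
      (hxe (v - f₂ v c' • c) (by rw [hs₂.sub_left, hs₂.smul_left, hv, hc, mul_zero, sub_zero])
        (by rw [hs₂.sub_left, hs₂.smul_left, hcc', mul_one, sub_self]) (f₁ x' u))
      (hxc (f₁ x' u * f₂ v c'))
    convert isSieg_add hff hx₀ h1 h2 using 1
    rw [show x' = f₁ x' u • x + r • u by rw [hr, add_sub_cancel]]
    simp only [ten_add_left, ten_smul_left, sub_eq_add_neg, ten_add_right, ← neg_smul, ten_smul_right]
    rw [show f₁ (f₁ x' u • x + r • u) u = f₁ x' u by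
      rw [hf₁.add_left, hs₁.smul_left, hs₁.smul_left, hxu, hu]; ring]
    module
  obtain ⟨r, hr⟩ := orth_iso_two hf₁ hf₂ ha hu0 hu (x := ev f₂ c w)
    (by rw [← form_ten_right hf₁ hf₂, hw])
  have hrest : IsSieg (form f₁ f₂) M (ten u c) (w - r • ten u c') :=
    ker_eq_sum hf₂ c (v := w - r • ten u c')
      (by rw [ev_sub hf₂, ev_smul hf₂, ev_ten hf₂, hc'c, one_smul, hr, sub_self])
      (fun p q => isSieg_add hff hx₀) (isSieg_zero hff M _) fun x' v hv => hker x' v hv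
  simpa using isSieg_add hff hx₀ (hc'dir r) hrest

include hf₁ hf₂ hLM hM hC in
/-- Every isotropic vector is a centre. -/
theorem isCentre_all (ha : 2 ≤ a) (hb : 4 ≤ b ∨ a = 2 ∧ b = 3) {v : Idx a b → F} (hv : form f₁ f₂ v v = 0) :
    IsCentre σ (form f₁ f₂) M v := by
  have hff := isUnitary_form hf₁ hf₂
  have hs₁ := sesqForm_of_unitary hf₁
  have hs₂ := sesqForm_of_unitary hf₂
  have hsf := sesqForm_of_unitary hff
  rcases eq_or_ne v 0 with rfl | hv0
  · have := isCentre_smul hff (hC 0 0 (hs₁.zero_left _) (hs₂.zero_left _)) 0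
    simpa using this
  obtain ⟨u, c, hu, hc, hne⟩ : ∃ u c, f₁ u u = 0 ∧ f₂ c c = 0 ∧ form f₁ f₂ v (ten u c) ≠ 0 := by
    by_contra hcon
    push Not at hcon
    refine hv0 (form_eq_zero hf₁ hf₂ fun x y => ?_)
    let Y : Submodule F (Fin b → F) :=
      { carrier := {y | form f₁ f₂ v (ten x y) = 0}
        add_mem' := fun {p q} hp hq => by
          show form f₁ f₂ v (ten x (p + q)) = 0
          rw [ten_add_right, hsf.add_right, hp, hq, add_zero]
        zero_mem' := by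
          show form f₁ f₂ v (ten x 0) = 0
          rw [ten_eq_zero.mpr (Or.inr rfl), hsf.zero_right]
        smul_mem' := fun k p hp => by
          show form f₁ f₂ v (ten x (k • p)) = 0
          rw [ten_smul_right, hsf.smul_right, hp, mul_zero] }
    suffices h : Y = ⊤ from (h ▸ Submodule.mem_top : y ∈ Y)
    refine eq_top_of_iso_mem hf₂ (by rw [Fintype.card_fin]; omega) fun q hq => ?_
    let X : Submodule F (Fin a → F) :=
      { carrier := {x | form f₁ f₂ v (ten x q) = 0}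
        add_mem' := fun {p r} hp hr => by
          show form f₁ f₂ v (ten (p + r) q) = 0
          rw [ten_add_left, hsf.add_right, hp, hr, add_zero]
        zero_mem' := by
          show form f₁ f₂ v (ten 0 q) = 0
          rw [ten_eq_zero.mpr (Or.inl rfl), hsf.zero_right]
        smul_mem' := fun k p hp => by
          show form f₁ f₂ v (ten (k • p) q) = 0
          rw [ten_smul_left, hsf.smul_right, hp, mul_zero] }
    have hX : X = ⊤ := eq_top_of_iso_mem hf₁ (by rw [Fintype.card_fin]; omega) fun p hp => hcon p q hp hq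
    exact (hX ▸ Submodule.mem_top : x ∈ X)
  set x₀ := ten u c with hx₀def
  have hu0 : u ≠ 0 := fun h => hne (by rw [hx₀def, h, ten_eq_zero.mpr (Or.inl rfl), hsf.zero_right])
  have hc0 : c ≠ 0 := fun h => hne (by rw [hx₀def, h, ten_eq_zero.mpr (Or.inr rfl), hsf.zero_right])
  have hx₀ : form f₁ f₂ x₀ x₀ = 0 := by rw [hx₀def, form_ten_ten hf₁ hf₂, hu, zero_mul]
  obtain ⟨u', hu', hu'u, huu'⟩ := exists_partner hf₁ hu0 hu
  obtain ⟨c', hc', hc'c, hcc'⟩ := exists_partner hf₂ hc0 hc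
  set z₀ := ten u' c' with hz₀def
  have hz₀ : form f₁ f₂ z₀ z₀ = 0 := by rw [hz₀def, form_ten_ten hf₁ hf₂, hu', zero_mul]
  have hzx : form f₁ f₂ z₀ x₀ = 1 := by rw [hz₀def, hx₀def, form_ten_ten hf₁ hf₂, hu'u, hc'c, one_mul]
  set d := form f₁ f₂ v x₀ with hd
  set v' := d⁻¹ • v with hv'def
  have hv'x : form f₁ f₂ v' x₀ = 1 := by rw [hv'def, hsf.smul_left, ← hd, inv_mul_cancel₀ hne]
  have hv' : form f₁ f₂ v' v' = 0 := by rw [hv'def, hsf.smul_left, hsf.smul_right, hv, mul_zero, mul_zero]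
  clear_value v'
  suffices h : IsCentre σ (form f₁ f₂) M v' by
    have := isCentre_smul hff h d
    rwa [hv'def, smul_smul, mul_inv_cancel₀ hne, one_smul] at this
  obtain ⟨-, k, g, hgM, hgv⟩ : IsSieg (form f₁ f₂) M (ten u c) (v' - z₀) := by
    rcases hb with hb4 | ⟨ha2, hb3⟩
    · exact isSieg_all hf₁ hf₂ hLM hM hC ha hb4 hu0 hu hc0 hc (by rw [hsf.sub_left, hv'x, hzx, sub_self])
    · exact isSieg_all_two hf₁ hf₂ hLM hM hC ha2 (by omega) hu0 hu hc0 hc
        (by rw [hsf.sub_left, hv'x, hzx, sub_self])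
  have hgz := isCentre_map hff (hC u' c' hu' hc') (hM hgM).1 hgM
  set r := k - form f₁ f₂ z₀ (v' - z₀) with hr
  have hval : (g : Matrix (Idx a b) (Idx a b) F) *ᵥ z₀ = v' + r • x₀ := by
    rw [hgv, add_mulVec, one_mulVec, siegMat_mulVec hff, hzx, hr]
    module
  rw [hval] at hgz
  have hiso : form f₁ f₂ (v' + r • x₀) (v' + r • x₀) = 0 := by
    rw [← hval, (hM hgM).1, hz₀]
  rw [hsf.add_left, hsf.add_right, hsf.add_right, hsf.smul_left, hsf.smul_left, hsf.smul_right,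
    hsf.smul_right, hv', hx₀, hff.herm x₀ v', hv'x, map_one, mul_one, mul_one] at hiso
  obtain ⟨t, ht, htv⟩ := hC u c hu hc (-r) (by rw [map_neg]; linear_combination -hiso)
  have := isCentre_map hff hgz (hM ht).1 ht
  rwa [htv, add_mulVec, one_mulVec, smul_mulVec, pMat_mulVec hff, hsf.add_left, hv'x, hsf.smul_left,
    hx₀, mul_zero, add_zero, one_smul, neg_smul, add_neg_cancel_right] at this

/-- An overgroup of the stabiliser other than itself contains all isotropic transvections. -/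
theorem isCentre_of_overgroup (hf₁ : IsUnitaryForm σ f₁) (hf₂ : IsUnitaryForm σ f₂) (ha : 2 ≤ a)
    (hab : a < b) (hb : 4 ≤ b ∨ a = 2 ∧ b = 3) (hex : 3 ≤ a ∨ ∃ k : F, σ k = k ∧ k ≠ 0 ∧ k ≠ 1)
    {M : Subgroup (GL (Idx a b) F)} (hLM : tensU f₁ f₂ ≤ M)
    (hM : M ≤ su (form f₁ f₂)) (hblock : HasBlock M f₁ f₂)
    {v : Idx a b → F} (hv : form f₁ f₂ v v = 0) : IsCentre σ (form f₁ f₂) M v :=
  isCentre_all hf₁ hf₂ hLM hM
    (fun _ _ hx hy => isCentre_ten hf₁ hf₂ ha hab hex hLM hM hblock hx hy) ha hb hv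

end CfsgLib.TensorUnitary
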