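import Cfsg.Agent.SimilarityMax.Unitary

/-!
# Elements of special unitary groups used for tensor stabilisers

Transvections, Siegel elements, moves between isotropic vectors, and a lemma on conjugation invariant
additive sets of skew-adjoint matrices.
-/

set_option autoImplicit false
set_option linter.unusedSectionVars false

namespace CfsgLib.TensorUnitary

open Matrix Cfsg.Geo CfsgLib.MaxSub

variable {ι : Type} [Fintype ι] [DecidableEq ι] {F : Type*} [Field F]
  {σ : F ≃+* F} {f : (ι → F) → (ι → F) → F}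

/-- The isometries of `f`. -/
def isom (f : (ι → F) → (ι → F) → F) : Subgroup (GL ι F) where
  carrier := {g | ∀ x y, f ((g : Matrix ι ι F) *ᵥ x) ((g : Matrix ι ι F) *ᵥ y) = f x y}
  one_mem' x y := by simp
  mul_mem' {g h} hg hh x y := by rw [Units.val_mul, ← mulVec_mulVec, ← mulVec_mulVec, hg, hh]
  inv_mem' {g} hg x y := by
    rw [← hg, mulVec_mulVec, mulVec_mulVec, Units.mul_inv, one_mulVec, one_mulVec]

/-- The isometries of determinant one. -/
def su (f : (ι → F) → (ι → F) → F) : Subgroup (GL ι F) := isom f ⊓ specialLinear ι F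

/-- An isometry moves the form to the other side by its inverse. -/
theorem isom_flip {g : GL ι F} (hg : g ∈ isom f) (x y : ι → F) :
    f (((g⁻¹ : GL ι F) : Matrix ι ι F) *ᵥ x) y = f x ((g : Matrix ι ι F) *ᵥ y) := by
  rw [← hg, mulVec_mulVec, Units.mul_inv, one_mulVec]

/-- `x ↦ f x u • u`. -/
def pMat (f : (ι → F) → (ι → F) → F) (u : ι → F) : Matrix ι ι F := vecMulVec u (leftVec f u)

/-- `x ↦ f x u • z - f x z • u`. -/
def rMat (f : (ι → F) → (ι → F) → F) (u z : ι → F) : Matrix ι ι F :=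
  vecMulVec z (leftVec f u) - vecMulVec u (leftVec f z)

/-- The matrix of a Siegel element. -/
def siegMat (f : (ι → F) → (ι → F) → F) (u v : ι → F) (m : F) : Matrix ι ι F :=
  rMat f u v + m • pMat f u

section Basic

variable (hf : IsUnitaryForm σ f)
include hf

theorem pMat_mulVec (u x : ι → F) : pMat f u *ᵥ x = f x u • u := by
  rw [pMat, vecMulVec_mulVec', (sesqForm_of_unitary hf).dot_leftVec]

theorem rMat_mulVec (u z x : ι → F) : rMat f u z *ᵥ x = f x u • z - f x z • u := by
  rw [rMat, sub_mulVec, vecMulVec_mulVec', vecMulVec_mulVec', (sesqForm_of_unitary hf).dot_leftVec,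
    (sesqForm_of_unitary hf).dot_leftVec]

theorem siegMat_mulVec (u v : ι → F) (m : F) (x : ι → F) :
    siegMat f u v m *ᵥ x = f x u • v - f x v • u + (m * f x u) • u := by
  rw [siegMat, add_mulVec, rMat_mulVec hf, smul_mulVec, pMat_mulVec hf, smul_smul]

theorem rMat_sub (u z z' : ι → F) : rMat f u (z - z') = rMat f u z - rMat f u z' := by
  have hs := sesqForm_of_unitary hf
  refine Matrix.ext_iff_mulVec.mpr fun x => ?_
  rw [sub_mulVec, rMat_mulVec hf, rMat_mulVec hf, rMat_mulVec hf, hs.sub_right, smul_sub, sub_smul]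
  abel

theorem rMat_add (u z z' : ι → F) : rMat f u (z + z') = rMat f u z + rMat f u z' := by
  have hs := sesqForm_of_unitary hf
  refine Matrix.ext_iff_mulVec.mpr fun x => ?_
  rw [add_mulVec, rMat_mulVec hf, rMat_mulVec hf, rMat_mulVec hf, hs.add_right, smul_add, add_smul]
  abel

theorem rMat_smul_self (u : ι → F) (c : F) : rMat f u (c • u) = (c - σ c) • pMat f u := by
  have hs := sesqForm_of_unitary hf
  refine Matrix.ext_iff_mulVec.mpr fun x => ?_
  rw [rMat_mulVec hf, smul_mulVec, pMat_mulVec hf, hs.smul_right, smul_smul, smul_smul, sub_mul,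
    sub_smul, mul_comm c]

theorem conj_pMat {g : GL ι F} (hg : g ∈ isom f) (u : ι → F) :
    (g : Matrix ι ι F) * pMat f u * ((g⁻¹ : GL ι F) : Matrix ι ι F)
      = pMat f ((g : Matrix ι ι F) *ᵥ u) := by
  refine Matrix.ext_iff_mulVec.mpr fun x => ?_
  rw [← mulVec_mulVec, ← mulVec_mulVec, pMat_mulVec hf, pMat_mulVec hf, mulVec_smul, isom_flip hg]

theorem conj_rMat {g : GL ι F} (hg : g ∈ isom f) (u z : ι → F) :
    (g : Matrix ι ι F) * rMat f u z * ((g⁻¹ : GL ι F) : Matrix ι ι F)
      = rMat f ((g : Matrix ι ι F) *ᵥ u) ((g : Matrix ι ι F) *ᵥ z) := by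
  refine Matrix.ext_iff_mulVec.mpr fun x => ?_
  rw [← mulVec_mulVec, ← mulVec_mulVec, rMat_mulVec hf, rMat_mulVec hf, mulVec_sub, mulVec_smul,
    mulVec_smul, isom_flip hg, isom_flip hg]

/-- A transvection at an isotropic vector is in `su`. -/
theorem tv_mem_su {u : ι → F} (hu : f u u = 0) {c : F} (hc : σ c = -c) :
    tv (c • u) (leftVec f u) ∈ su f := by
  have hs := sesqForm_of_unitary hf
  have h0 : leftVec f u ⬝ᵥ (c • u) = 0 := by rw [dotProduct_smul, hs.dot_leftVec, hu, smul_zero]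
  refine ⟨fun x y => ?_, tv_mem_specialLinear _ _⟩
  rw [tv_mulVec h0, tv_mulVec h0, hs.dot_leftVec, hs.dot_leftVec, hs.add_left, hs.add_right,
    hs.add_right, hs.smul_left, hs.smul_left, hs.smul_left, hs.smul_left, hs.smul_right, hs.smul_right,
    hs.smul_right, hs.smul_right, hu, hc, hf.herm u y]
  ring

theorem tv_eq_pMat {u : ι → F} (hu : f u u = 0) (c : F) :
    (tv (c • u) (leftVec f u) : Matrix ι ι F) = 1 + c • pMat f u := by
  rw [tv_coe (by rw [dotProduct_smul, (sesqForm_of_unitary hf).dot_leftVec, hu, smul_zero]), pMat,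
    smul_vecMulVec]

end Basic

/-- A unipotent matrix over a finite field has determinant one. -/
theorem det_eq_one_of_isNilpotent [Finite F] {N : Matrix ι ι F} (h : IsNilpotent N) :
    (1 + N).det = 1 := by
  rcases isEmpty_or_nonempty ι with hι | hι
  · exact det_isEmpty
  set p := ringChar F
  have : Fact p.Prime := ⟨CharP.char_is_prime F p⟩
  obtain ⟨k, hk⟩ := h
  obtain ⟨j, hj⟩ : ∃ j, k ≤ p ^ j := ⟨k, (Nat.lt_pow_self (Fact.out (p := p.Prime)).one_lt).le⟩
  have h1 : (1 + N) ^ p ^ j = 1 := by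
    rw [add_pow_char_pow_of_commute _ _ (Commute.one_left _), one_pow, pow_eq_zero_of_le hj hk, add_zero]
  have h2 := congrArg Matrix.det h1
  rw [det_pow, det_one] at h2
  exact iterateFrobenius_inj F p j (by rw [iterateFrobenius_def, iterateFrobenius_def, h2, one_pow])

section Elements

variable [Finite F] (hf : IsUnitaryForm σ f)
include hf

/-- Siegel elements. -/
theorem exists_sieg {u v : ι → F} (hu : f u u = 0) (hvu : f v u = 0) {m : F}
    (hm : m + σ m = - f v v) :
    ∃ g ∈ su f, (g : Matrix ι ι F) = 1 + siegMat f u v m := by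
  have hs := sesqForm_of_unitary hf
  have huv : f u v = 0 := unitary_orth_symm hf hvu
  set N := siegMat f u v m with hN
  have hN3 : N * N * N = 0 := by
    refine Matrix.ext_iff_mulVec.mpr fun x => ?_
    rw [← mulVec_mulVec, ← mulVec_mulVec, zero_mulVec]
    simp only [hN, siegMat_mulVec hf, hs.add_left, hs.sub_left, hs.smul_left, hu, hvu, huv]
    simp
  have hnil : IsNilpotent N := ⟨3, by rw [pow_succ, pow_two, hN3]⟩
  have hdet : (1 + N).det = 1 := det_eq_one_of_isNilpotent hnil
  refine ⟨Matrix.GeneralLinearGroup.mkOfDetNeZero (1 + N) (by rw [hdet]; exact one_ne_zero), ⟨?_, ?_⟩, rfl⟩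
  · intro x y
    show f ((1 + N) *ᵥ x) ((1 + N) *ᵥ y) = f x y
    simp only [add_mulVec, one_mulVec, hN, siegMat_mulVec hf, hs.add_left, hs.add_right, hs.sub_left,
      hs.sub_right, hs.smul_left, hs.smul_right, hu, hvu, huv, map_mul]
    rw [← hf.herm u y, ← hf.herm v y]
    linear_combination (f u y * f x u) * hm
  · show (Matrix.GeneralLinearGroup.mkOfDetNeZero (1 + N) _) ∈ specialLinear ι F
    rw [specialLinear, MonoidHom.mem_ker, Units.ext_iff, Matrix.GeneralLinearGroup.val_det_apply]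
    exact hdet

omit [Finite F] in
/-- A transvection carrying one isotropic vector to another with skew inner product. -/
theorem exists_move_skew {u v : ι → F} (hu : f u u = 0) (hv : f v v = 0) (h0 : f u v ≠ 0)
    (hskew : σ (f u v) = - f u v) : ∃ g ∈ su f, (g : Matrix ι ι F) *ᵥ u = v := by
  have hs := sesqForm_of_unitary hf
  have hw : f (v - u) (v - u) = 0 := by
    rw [hs.sub_left, hs.sub_right, hs.sub_right, hu, hv, hf.herm v u, hskew]; ring
  refine ⟨_, tv_mem_su hf hw (c := (f u v)⁻¹) (by rw [map_inv₀, hskew, inv_neg]), ?_⟩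
  rw [tv_mulVec (by rw [dotProduct_smul, hs.dot_leftVec, hw, smul_zero]), hs.dot_leftVec, hs.sub_right,
    hu, sub_zero, smul_smul, mul_inv_cancel₀ h0, one_smul]
  abel

/-- An isotropic partner. -/
theorem exists_partner {u : ι → F} (hu0 : u ≠ 0) (hu : f u u = 0) :
    ∃ w, f w w = 0 ∧ f w u = 1 ∧ f u w = 1 := by
  have hs := sesqForm_of_unitary hf
  obtain ⟨x, hx⟩ := hs.exists_left_ne_zero hu0
  obtain ⟨t, h1, h2⟩ := exists_iso_shift hf (w := (f x u)⁻¹ • x) hu
    (by rw [hs.smul_left, inv_mul_cancel₀ hx]; exact one_ne_zero)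
  rw [hs.smul_left, inv_mul_cancel₀ hx] at h2
  exact ⟨_, h1, h2, by rw [hf.herm, h2, map_one]⟩

/-- An isotropic vector not orthogonal to two given ones. -/
theorem exists_partner_both {u v : ι → F} (hu0 : u ≠ 0) (hu : f u u = 0) (hv0 : v ≠ 0)
    (hv : f v v = 0) : ∃ w, f w w = 0 ∧ f w u ≠ 0 ∧ f w v ≠ 0 := by
  have hs := sesqForm_of_unitary hf
  obtain ⟨w, hw, hwu, -⟩ := exists_partner hf hu0 hu
  by_cases hwv : f w v = 0
  swap
  · exact ⟨w, hw, by rw [hwu]; exact one_ne_zero, hwv⟩
  obtain ⟨z, hz, hzv, -⟩ := exists_partner hf hv0 hv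
  by_cases hzu : f z u = 0
  swap
  · exact ⟨z, hz, hzu, by rw [hzv]; exact one_ne_zero⟩
  -- a combination of the two
  obtain ⟨t, ht0, ht⟩ := exists_traceZero hf.ne_refl hf.involutive
  obtain ⟨k, hk0, hk⟩ : ∃ k : F, k ≠ 0 ∧ k * f z w + σ (k * f z w) = 0 := by
    by_cases h : f z w = 0
    · exact ⟨1, one_ne_zero, by simp [h]⟩
    · exact ⟨t / f z w, div_ne_zero ht0 h, by rw [div_mul_cancel₀ _ h, ht]; ring⟩
  refine ⟨w + k • z, ?_, ?_, ?_⟩
  · rw [hs.add_left, hs.add_right, hs.add_right, hs.smul_left, hs.smul_right, hs.smul_left,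
      hs.smul_right, hw, hz, hf.herm w z]
    rw [map_mul] at hk
    linear_combination hk
  · rw [hs.add_left, hs.smul_left, hwu, hzu, mul_zero, add_zero]; exact one_ne_zero
  · rw [hs.add_left, hs.smul_left, hwv, hzv, mul_one, zero_add]; exact hk0

/-- A subspace of isotropic vectors is totally isotropic. -/
theorem orth_of_all_iso {K : Submodule F (ι → F)} (h : ∀ x ∈ K, f x x = 0) {x y : ι → F}
    (hx : x ∈ K) (hy : y ∈ K) : f x y = 0 := by
  by_contra hne
  have hs := sesqForm_of_unitary hf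
  obtain ⟨m, hm⟩ := trace_surjective hf.ne_refl hf.involutive (a := (1 : F)) (map_one σ)
  have := h _ (K.add_mem (K.smul_mem (m / f x y) hx) hy)
  rw [hs.add_left, hs.add_right, hs.add_right, hs.smul_left, hs.smul_right, hs.smul_left,
    hs.smul_right, h _ hx, h _ hy, mul_zero, mul_zero, zero_add, add_zero, hf.herm y x, ← map_mul,
    div_mul_cancel₀ _ hne, hm] at this
  exact one_ne_zero this

/-- A non-isotropic vector orthogonal to a hyperbolic pair. -/
theorem exists_noniso_orth (hn : 3 ≤ Fintype.card ι) {u w : ι → F} (hu : f u u = 0) (hw : f w w = 0)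
    (hwu : f w u = 1) (huw : f u w = 1) : ∃ e, f e u = 0 ∧ f e w = 0 ∧ f e e ≠ 0 := by
  have hs := sesqForm_of_unitary hf
  let K := dotsKer ![leftVec f u, leftVec f w]
  have hmem : ∀ x, x ∈ K ↔ f x u = 0 ∧ f x w = 0 := fun x => by
    rw [mem_dotsKer, Fin.forall_fin_two]
    simp [hs.dot_leftVec]
  by_contra hcon
  push Not at hcon
  have hall : ∀ x ∈ K, f x x = 0 := fun x hx => hcon x ((hmem x).mp hx).1 ((hmem x).mp hx).2
  have hK : 1 ≤ Module.finrank F K := by
    have := finrank_dotsKer ![leftVec f u, leftVec f w]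
    show 1 ≤ Module.finrank F (dotsKer ![leftVec f u, leftVec f w])
    omega
  have hbot : K ≠ ⊥ := by intro h; rw [h, finrank_bot] at hK; omega
  obtain ⟨x, hx, hx0⟩ := Submodule.exists_mem_ne_zero_of_ne_bot hbot
  obtain ⟨y, hy⟩ := (hf.nondegenerate x hx0).2
  refine hy ?_
  obtain ⟨hxu, hxw⟩ := (hmem x).mp hx
  have hy' : y - f y w • u - f y u • w ∈ K := by
    rw [hmem]
    refine ⟨?_, ?_⟩
    · rw [hs.sub_left, hs.sub_left, hs.smul_left, hs.smul_left, hu, hwu]; ring
    · rw [hs.sub_left, hs.sub_left, hs.smul_left, hs.smul_left, hw, huw]; ring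
  have := orth_of_all_iso hf hall hx hy'
  rwa [hs.sub_right, hs.sub_right, hs.smul_right, hs.smul_right, hxu, hxw, mul_zero, mul_zero,
    sub_zero, sub_zero] at this

/-- Isotropic lines are permuted transitively. -/
theorem exists_move_line {u v : ι → F} (hu0 : u ≠ 0) (hu : f u u = 0) (hv0 : v ≠ 0) (hv : f v v = 0) :
    ∃ g ∈ su f, ∃ k : F, k ≠ 0 ∧ (g : Matrix ι ι F) *ᵥ u = k • v := by
  have hs := sesqForm_of_unitary hf
  obtain ⟨t, ht0, ht⟩ := exists_traceZero hf.ne_refl hf.involutive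
  obtain ⟨w, hw, hwu, hwv⟩ := exists_partner_both hf hu0 hu hv0 hv
  -- step to a multiple of `w`
  have step : ∀ x y : ι → F, f x x = 0 → f y y = 0 → f x y ≠ 0 →
      ∃ g ∈ su f, ∃ k : F, k ≠ 0 ∧ (g : Matrix ι ι F) *ᵥ x = k • y := by
    intro x y hx hy hxy
    set k := σ (t / f x y) with hk
    have e : f x (k • y) = t := by
      rw [hs.smul_right, hk, hf.involutive, div_mul_cancel₀ _ hxy]
    obtain ⟨g, hg, hgx⟩ := exists_move_skew hf hx (v := k • y)
      (by rw [hs.smul_left, hs.smul_right, hy, mul_zero, mul_zero]) (by rw [e]; exact ht0)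
      (by rw [e, ht])
    exact ⟨g, hg, k, by simp [hk, ht0, hxy], hgx⟩
  obtain ⟨g, hg, k, hk, hgu⟩ := step u w hu hw (unitary_ne_symm hf hwu)
  obtain ⟨h, hh, l, hl, hhw⟩ := step w v hw hv hwv
  refine ⟨h * g, (su f).mul_mem hh hg, k * l, mul_ne_zero hk hl, ?_⟩
  rw [Units.val_mul, ← mulVec_mulVec, hgu, mulVec_smul, hhw, smul_smul]

/-- An isotropic vector can be rescaled by any non-zero scalar, in dimension at least three. -/
theorem exists_scale (hn : 3 ≤ Fintype.card ι) {u : ι → F} (hu0 : u ≠ 0) (hu : f u u = 0) {z : F}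
    (hz : z ≠ 0) : ∃ g ∈ su f, (g : Matrix ι ι F) *ᵥ u = z • u := by
  have hs := sesqForm_of_unitary hf
  obtain ⟨t, ht0, ht⟩ := exists_traceZero hf.ne_refl hf.involutive
  obtain ⟨w, hw, hwu, huw⟩ := exists_partner hf hu0 hu
  obtain ⟨e₀, he0u, he0w, he0⟩ := exists_noniso_orth hf hn hu hw hwu huw
  have hσz : σ z ≠ 0 := (map_ne_zero_iff σ σ.injective).mpr hz
  set β := t / σ z with hβ
  obtain ⟨l, hl⟩ := norm_surjective hf.ne_refl hf.involutive (a := -(β + σ β) / f e₀ e₀)
    (by rw [map_div₀, map_neg, map_add, hf.involutive, herm_self hf, add_comm])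
  set v₂ := u + β • w + l • e₀ with hv2
  have hue : f u e₀ = 0 := unitary_orth_symm hf he0u
  have hwe : f w e₀ = 0 := unitary_orth_symm hf he0w
  have h2iso : f v₂ v₂ = 0 := by
    simp only [hv2, hs.add_left, hs.add_right, hs.smul_left, hs.smul_right, hu, hw, hwu, huw, he0u,
      he0w, hue, hwe]
    have := congrArg (· * f e₀ e₀) hl
    simp only [div_mul_cancel₀ _ he0] at this
    linear_combination this
  have e1 : f u (t • w) = -t := by rw [hs.smul_right, huw, mul_one, ht]
  obtain ⟨g₁, hg₁, h1⟩ := exists_move_skew hf hu (v := t • w)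
    (by rw [hs.smul_left, hs.smul_right, hw, mul_zero, mul_zero]) (by rw [e1]; exact neg_ne_zero.mpr ht0)
    (by rw [e1, map_neg, ht])
  have e2 : f (t • w) v₂ = t := by
    simp only [hv2, hs.smul_left, hs.add_right, hs.smul_right, hw, hwu, hwe]
    ring
  obtain ⟨g₂, hg₂, h2⟩ := exists_move_skew hf (u := t • w) (v := v₂)
    (by rw [hs.smul_left, hs.smul_right, hw, mul_zero, mul_zero]) h2iso (by rw [e2]; exact ht0)
    (by rw [e2, ht])
  have e3 : f v₂ (z • u) = t := by
    simp only [hv2, hs.add_left, hs.smul_left, hs.smul_right, hu, hwu, he0u]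
    rw [hβ]
    field_simp
    ring
  obtain ⟨g₃, hg₃, h3⟩ := exists_move_skew hf h2iso (v := z • u)
    (by rw [hs.smul_left, hs.smul_right, hu, mul_zero, mul_zero]) (by rw [e3]; exact ht0)
    (by rw [e3, ht])
  refine ⟨g₃ * g₂ * g₁, (su f).mul_mem ((su f).mul_mem hg₃ hg₂) hg₁, ?_⟩
  rw [Units.val_mul, Units.val_mul, ← mulVec_mulVec, ← mulVec_mulVec, h1, h2, h3]

/-- The isotropic vectors span. -/
theorem eq_top_of_iso_mem (hn : 2 ≤ Fintype.card ι) {S : Submodule F (ι → F)}
    (h : ∀ x, f x x = 0 → x ∈ S) : S = ⊤ := by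
  have hs := sesqForm_of_unitary hf
  obtain ⟨u, -, hu0, hu⟩ := exists_iso_mem hf ⊤ (by rw [finrank_top, Module.finrank_pi]; omega)
  obtain ⟨w, hw, hwu, huw⟩ := exists_partner hf hu0 hu
  refine Submodule.eq_top_iff'.mpr fun x => ?_
  set x' := x - f x w • u - f x u • w with hx'
  have h1 : f x' u = 0 := by
    rw [hx', hs.sub_left, hs.sub_left, hs.smul_left, hs.smul_left, hu, hwu]; ring
  have h2 : f x' w = 0 := by
    rw [hx', hs.sub_left, hs.sub_left, hs.smul_left, hs.smul_left, hw, huw]; ring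
  obtain ⟨a, ha⟩ := trace_surjective hf.ne_refl hf.involutive (a := - f x' x') (by rw [map_neg, herm_self hf])
  have hiso : f (x' + a • u + w) (x' + a • u + w) = 0 := by
    simp only [hs.add_left, hs.add_right, hs.smul_left, hs.smul_right, hu, hw, hwu, huw, h1, h2,
      unitary_orth_symm hf h1, unitary_orth_symm hf h2]
    linear_combination ha
  have hx'S : x' ∈ S := by
    have := S.sub_mem (S.sub_mem (h _ hiso) (h _ hw)) (S.smul_mem a (h _ hu))
    simpa [add_comm, add_left_comm, add_assoc] using this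
  have := S.add_mem (S.add_mem hx'S (S.smul_mem (f x w) (h _ hu))) (S.smul_mem (f x u) (h _ hw))
  rw [hx'] at this
  convert this using 1
  abel

end Elements

end CfsgLib.TensorUnitary
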