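import Cfsg.Agent.TensorUnitary.Herm

/-!
# Invariant additive sets of skew-adjoint matrices contain rank one elements
-/

set_option autoImplicit false
set_option linter.unusedSectionVars false

namespace CfsgLib.TensorUnitary

open Matrix Cfsg.Geo CfsgLib.MaxSub

variable {ι : Type} [Fintype ι] [DecidableEq ι] {F : Type*} [Field F] [Finite F]
  {σ : F ≃+* F} {f : (ι → F) → (ι → F) → F}

/-- Invariance under conjugation by `su f`. -/
def ConjInv (f : (ι → F) → (ι → F) → F) (𝒜 : AddSubgroup (Matrix ι ι F)) : Prop :=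
  ∀ g ∈ su f, ∀ A ∈ 𝒜, (g : Matrix ι ι F) * A * ((g⁻¹ : GL ι F) : Matrix ι ι F) ∈ 𝒜

variable (hf : IsUnitaryForm σ f) {𝒜 : AddSubgroup (Matrix ι ι F)} (h𝒜 : ConjInv f 𝒜)
include hf h𝒜

/-- Conjugating by a Siegel element at `u` isolates the second component. -/
theorem shift_mem {u z : ι → F} {k : F} (hu : f u u = 0) (hD : rMat f u z + k • pMat f u ∈ 𝒜)
    {v : ι → F} (hvu : f v u = 0) {m : F} (hm : m + σ m = - f v v) :
    rMat f u (f z u • v - f z v • u + (m * f z u) • u) ∈ 𝒜 := by
  have hs := sesqForm_of_unitary hf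
  obtain ⟨g, hg, hgval⟩ := exists_sieg hf hu hvu hm
  have hgu : (g : Matrix ι ι F) *ᵥ u = u := by
    rw [hgval, add_mulVec, one_mulVec, siegMat_mulVec hf, hu, unitary_orth_symm hf hvu]; simp
  have hgz : (g : Matrix ι ι F) *ᵥ z - z = f z u • v - f z v • u + (m * f z u) • u := by
    rw [hgval, add_mulVec, one_mulVec, siegMat_mulVec hf, add_sub_cancel_left]
  have h := 𝒜.sub_mem (h𝒜 g hg _ hD) hD
  rw [mul_add, add_mul, conj_rMat hf hg.1, Matrix.mul_smul, Matrix.smul_mul, conj_pMat hf hg.1, hgu,
    add_sub_add_right_eq_sub, ← rMat_sub hf, hgz] at h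
  exact h

/-- From an element `rMat u z + k pMat u` with `z` orthogonal to `u` and independent of it. -/
theorem pMat_mem {u z : ι → F} {k : F} (hu : f u u = 0) (hzu : f z u = 0) (hne : ∀ c : F, c • u ≠ z)
    (hD : rMat f u z + k • pMat f u ∈ 𝒜) {c : F} (hc : σ c = -c) : c • pMat f u ∈ 𝒜 := by
  have hs := sesqForm_of_unitary hf
  obtain ⟨d, hd⟩ : ∃ d : F, d - σ d = c := by
    obtain ⟨t, ht0, ht⟩ := exists_traceZero hf.ne_refl hf.involutive
    obtain ⟨r, hr⟩ := trace_surjective hf.ne_refl hf.involutive (a := c / t)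
      (by rw [map_div₀, hc, ht, neg_div_neg_eq])
    refine ⟨r * t, ?_⟩
    have := congrArg (· * t) hr
    simp only [div_mul_cancel₀ _ ht0] at this
    rw [map_mul, ht]; linear_combination this
  obtain ⟨v, hvu, hvz⟩ := hs.exists_orth_not_orth hne
  have hzv : f z v = 1 := by rw [hf.herm, hvz, map_one]
  have hv' : f (σ (-d) • v) u = 0 := by rw [hs.smul_left, hvu, mul_zero]
  obtain ⟨m, hm⟩ := trace_surjective hf.ne_refl hf.involutive
    (a := - f (σ (-d) • v) (σ (-d) • v)) (by rw [map_neg, herm_self hf])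
  have h := shift_mem hf h𝒜 hu hD hv' hm
  rw [hzu, zero_smul, mul_zero, zero_smul, add_zero, zero_sub, hs.smul_right, hf.involutive, hzv,
    mul_one, neg_smul, neg_neg, rMat_smul_self hf, hd] at h
  exact h

/-- From an element `rMat u z + k pMat u` with `z` not orthogonal to `u`. -/
theorem exists_rMat_mem {u z : ι → F} {k : F} (hu : f u u = 0) (hzu : f z u ≠ 0)
    (hD : rMat f u z + k • pMat f u ∈ 𝒜) {v : ι → F} (hvu : f v u = 0) :
    ∃ c : F, σ c = -c ∧ rMat f u v + c • pMat f u ∈ 𝒜 := by
  have hs := sesqForm_of_unitary hf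
  set v' := (f z u)⁻¹ • v with hv'def
  have hv' : f v' u = 0 := by rw [hv'def, hs.smul_left, hvu, mul_zero]
  obtain ⟨m, hm⟩ := trace_surjective hf.ne_refl hf.involutive (a := - f v' v')
    (by rw [map_neg, herm_self hf])
  have h := shift_mem hf h𝒜 hu hD hv' hm
  rw [hv'def, smul_smul, mul_inv_cancel₀ hzu, one_smul, ← hv'def,
    show v - f z v' • u + (m * f z u) • u = v + (m * f z u - f z v') • u by module,
    rMat_add hf, rMat_smul_self hf] at h
  exact ⟨_, by rw [map_sub, hf.involutive]; ring, h⟩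

/-- A non-scalar skew-adjoint element yields a rank one element, unless the dimension is two over the
field with four elements. -/
theorem exists_pMat_mem (hn : 2 ≤ Fintype.card ι)
    (hex : 3 ≤ Fintype.card ι ∨ ∃ k : F, σ k = k ∧ k ≠ 0 ∧ k ≠ 1)
    {A : Matrix ι ι F} (hA : A ∈ 𝒜) (hskew : ∀ x y, f (A *ᵥ x) y = - f x (A *ᵥ y))
    (hns : ∀ c : F, A ≠ c • 1) :
    ∃ u : ι → F, u ≠ 0 ∧ f u u = 0 ∧ ∃ c : F, c ≠ 0 ∧ σ c = -c ∧ c • pMat f u ∈ 𝒜 := by
  classical
  have hs := sesqForm_of_unitary hf
  obtain ⟨t, ht0, ht⟩ := exists_traceZero hf.ne_refl hf.involutive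
  -- an isotropic vector which is no eigenvector
  obtain ⟨u, hu0, hu, hne⟩ : ∃ u : ι → F, u ≠ 0 ∧ f u u = 0 ∧ ∀ c : F, c • u ≠ A *ᵥ u := by
    by_contra hcon
    push Not at hcon
    choose c hc using hcon
    obtain ⟨u, -, hu0, hu⟩ := exists_iso_mem hf ⊤ (by rw [finrank_top, Module.finrank_pi]; omega)
    obtain ⟨w, hw, hwu, huw⟩ := exists_partner hf hu0 hu
    have hw0 : w ≠ 0 := fun h => by rw [h, hs.zero_left] at hwu; exact zero_ne_one hwu
    have hpair : ∀ x y (hx0 : x ≠ 0) (hx : f x x = 0) (hy0 : y ≠ 0) (hy : f y y = 0),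
        f x y ≠ 0 → c x hx0 hx = c y hy0 hy := by
      intro x y hx0 hx hy0 hy hxy
      set k := σ (t / f x y) with hk
      have hk0 : k ≠ 0 := by simp [hk, ht0, hxy]
      have e : f x (k • y) = t := by rw [hs.smul_right, hk, hf.involutive, div_mul_cancel₀ _ hxy]
      have hind : ∀ a : F, a • x ≠ k • y := fun a ha => by
        rw [← ha, hs.smul_right, hx, mul_zero] at e
        exact ht0 e.symm
      have hiso : f (x + k • y) (x + k • y) = 0 := by
        have hkk : f (k • y) (k • y) = 0 := by rw [hs.smul_left, hs.smul_right, hy, mul_zero, mul_zero]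
        rw [hs.add_left, hs.add_right, hs.add_right, hx, hkk, hf.herm (k • y) x, e, ht]
        ring
      have hne0 : x + k • y ≠ 0 := fun h => hind (-1) (by rw [neg_one_smul]; exact (eq_neg_of_add_eq_zero_right h).symm)
      have h := hc (x + k • y) hne0 hiso
      rw [mulVec_add, mulVec_smul, ← hc x hx0 hx, ← hc y hy0 hy, smul_add, smul_smul, smul_smul] at h
      set a := c (x + k • y) hne0 hiso
      have h' : (a - c x hx0 hx) • x = (c y hy0 hy - a) • (k • y) := by
        rw [smul_smul]; linear_combination (norm := module) h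
      rcases eq_or_ne (c y hy0 hy - a) 0 with h0 | h0
      · rw [h0, zero_smul, smul_eq_zero, sub_eq_zero] at h'
        rcases h' with h' | h'
        · rw [sub_eq_zero.mp h0, h']
        · exact absurd h' hx0
      · exact absurd (by rw [mul_smul, h', smul_smul (c y hy0 hy - a)⁻¹, inv_mul_cancel₀ h0, one_smul])
          (hind ((c y hy0 hy - a)⁻¹ * (a - c x hx0 hx)))
    set χ := c u hu0 hu with hχ
    have hwχ : c w hw0 hw = χ := hpair w u hw0 hw hu0 hu (by rw [hwu]; exact one_ne_zero)
    refine hns χ (Matrix.ext_iff_mulVec.mpr fun x => ?_)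
    let S : Submodule F (ι → F) :=
      { carrier := {x | A *ᵥ x = χ • x}
        add_mem' := fun {x y} hx hy => by
          show A *ᵥ (x + y) = χ • (x + y)
          rw [mulVec_add, hx, hy, smul_add]
        zero_mem' := by show A *ᵥ 0 = χ • 0; rw [mulVec_zero, smul_zero]
        smul_mem' := fun a {x} hx => by
          show A *ᵥ (a • x) = χ • (a • x)
          rw [mulVec_smul, hx, smul_comm] }
    have hS : S = ⊤ := eq_top_of_iso_mem hf hn fun x hx => by
      rcases eq_or_ne x 0 with rfl | hx0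
      · exact S.zero_mem
      show A *ᵥ x = χ • x
      rw [← hc x hx0 hx]
      congr 1
      by_cases h1 : f x u = 0
      · by_cases h2 : f x w = 0
        · have hi : f (x + u) (x + u) = 0 := by
            rw [hs.add_left, hs.add_right, hs.add_right, hx, hu, h1, unitary_orth_symm hf h1]; ring
          have hxw : f (x + u) w ≠ 0 := by rw [hs.add_left, h2, huw, zero_add]; exact one_ne_zero
          have hxu0 : x + u ≠ 0 := fun h => hxw (by rw [h, hs.zero_left])
          have e := hc (x + u) hxu0 hi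
          rw [hpair _ w hxu0 hi hw0 hw hxw, hwχ, mulVec_add, ← hc u hu0 hu, ← hc x hx0 hx, ← hχ,
            smul_add, add_left_inj] at e
          exact (smul_left_injective F hx0 e).symm
        · rw [hpair x w hx0 hx hw0 hw h2, hwχ]
      · rw [hpair x u hx0 hx hu0 hu h1]
    have hxS : x ∈ S := hS ▸ Submodule.mem_top
    rw [smul_mulVec, one_mulVec]
    exact hxS
  refine ⟨u, hu0, hu, ?_⟩
  set h := f (A *ᵥ u) u with hh
  -- commutators with transvections at `u`
  have hD : ∀ s : F, σ s = -s →
      rMat f u (-(s • (A *ᵥ u))) + (-(s * s * h)) • pMat f u ∈ 𝒜 := by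
    intro s hs'
    have hsu := tv_mem_su hf hu hs'
    have hns' : σ (-s) = - -s := by rw [map_neg, hs']
    have h1 := 𝒜.sub_mem (h𝒜 _ hsu A hA) hA
    convert h1 using 1
    have hinv : (tv (s • u) (leftVec f u))⁻¹ = tv ((-s) • u) (leftVec f u) := by rw [tv_inv, neg_smul]
    rw [hinv, tv_eq_pMat hf hu, tv_eq_pMat hf hu]
    refine Matrix.ext_iff_mulVec.mpr fun x => ?_
    simp only [add_mulVec, sub_mulVec, ← mulVec_mulVec, one_mulVec, smul_mulVec, pMat_mulVec hf,
      rMat_mulVec hf, mulVec_add, mulVec_smul, hs.neg_right, hs.smul_right, 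
      hskew x u, hs', ← hh]
    module
  by_cases hn3 : 3 ≤ Fintype.card ι
  · by_cases hh0 : h = 0
    · refine ⟨t, ht0, ht, pMat_mem hf h𝒜 hu ?_ ?_ (hD t ht) ht⟩
      · rw [hs.neg_left, hs.smul_left, ← hh, hh0, mul_zero, neg_zero]
      · intro c hc
        refine hne (-(c / t)) ?_
        rw [neg_smul, div_eq_inv_mul, mul_smul, hc, smul_neg, neg_neg, smul_smul, inv_mul_cancel₀ ht0, one_smul]
    · have hzu : f (-(t • (A *ᵥ u))) u ≠ 0 := by
        rw [hs.neg_left, hs.smul_left, ← hh]; exact neg_ne_zero.mpr (mul_ne_zero ht0 hh0)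
      obtain ⟨v, hvu, hv⟩ : ∃ v, f v u = 0 ∧ ∀ c : F, c • u ≠ v := by
        by_contra hcon
        push Not at hcon
        have hle : dotsKer ![leftVec f u] ≤ Submodule.span F {u} := fun v hv => by
          obtain ⟨c, hc⟩ := hcon v (by
            have := (mem_dotsKer.mp hv) 0
            simpa [hs.dot_leftVec] using this)
          exact Submodule.mem_span_singleton.mpr ⟨c, hc⟩
        have h1 := Submodule.finrank_mono hle
        have h2 := finrank_dotsKer ![leftVec f u]
        rw [finrank_span_singleton hu0] at h1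
        omega
      obtain ⟨k, -, hk⟩ := exists_rMat_mem hf h𝒜 hu hzu (hD t ht) hvu
      exact ⟨t, ht0, ht, pMat_mem hf h𝒜 hu hvu hv hk ht⟩
  -- dimension two
  have hn2 : Fintype.card ι = 2 := by omega
  obtain ⟨k, hk, hk0, hk1⟩ := hex.resolve_left hn3
  obtain ⟨w, hw, hwu, huw⟩ := exists_partner hf hu0 hu
  have hh0 : h ≠ 0 := by
    intro h0
    have hK : dotsKer ![leftVec f u] = Submodule.span F {u} := by
      symm
      refine Submodule.eq_of_le_of_finrank_le ((Submodule.span_singleton_le_iff_mem _ _).mpr ?_) ?_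
      · rw [mem_dotsKer]; intro i; fin_cases i; simp [hs.dot_leftVec, hu]
      · have h2 := (Matrix.of ![leftVec f u]).mulVecLin.finrank_range_add_finrank_ker
        rw [Module.finrank_pi, hn2] at h2
        have h3 : 1 ≤ Module.finrank F (LinearMap.range (Matrix.of ![leftVec f u]).mulVecLin) := by
          rw [Submodule.one_le_finrank_iff]
          intro hbot
          have h4 : (Matrix.of ![leftVec f u]).mulVecLin w = 0 := by
            rw [LinearMap.range_eq_bot.mp hbot]; rfl
          have := congrFun h4 0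
          change leftVec f u ⬝ᵥ w = 0 at this
          rw [hs.dot_leftVec, hwu] at this
          exact one_ne_zero this
        rw [finrank_span_singleton hu0]
        show Module.finrank F (Matrix.of ![leftVec f u]).mulVecLin.ker ≤ 1
        omega
    have hmem : A *ᵥ u ∈ dotsKer ![leftVec f u] := by
      rw [mem_dotsKer]; intro i; fin_cases i
      simp [hs.dot_leftVec, ← hh, h0]
    rw [hK, Submodule.mem_span_singleton] at hmem
    obtain ⟨c, hc⟩ := hmem
    exact hne c hc
  -- odd characteristic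
  by_cases h2 : (2 : F) = 0
  swap
  · have hskewh : σ h = -h := by
      rw [hh, ← hf.herm, hskew u u, neg_neg]
    refine ⟨-(2 * (t * t * h)), ?_, ?_, ?_⟩
    · simp [h2, ht0, hh0]
    · rw [map_neg, map_mul, map_mul, map_mul, map_ofNat, ht, hskewh]; ring
    · have h1 := 𝒜.add_mem (hD t ht) (hD (-t) (by rw [map_neg, ht]))
      convert h1 using 1
      refine Matrix.ext_iff_mulVec.mpr fun x => ?_
      simp only [add_mulVec, smul_mulVec, pMat_mulVec hf, rMat_mulVec hf, hs.neg_right, hs.smul_right,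
        hs.neg_left, map_neg]
      module
  -- even characteristic: a torus separates
  have hchar : ∀ x : F, -x = x := fun x => by linear_combination (-x) * h2
  have hσt : σ t = t := by rw [ht, hchar]
  have hQ : ∀ s : F, σ s = -s →
      f (((rMat f u (-(s • (A *ᵥ u))) + (-(s * s * h)) • pMat f u)) *ᵥ w) w
        = -(s * (f (A *ᵥ u) w + σ (f (A *ᵥ u) w))) + -(s * s * h) := by
    intro s hs'
    simp only [add_mulVec, smul_mulVec, pMat_mulVec hf, rMat_mulVec hf, hs.add_left, hs.sub_left,
      hs.smul_left, hs.neg_left, hs.neg_right, hs.smul_right, hwu, huw, hs', hf.herm w (A *ᵥ u)]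
    ring
  obtain ⟨s, hs', hs0, hq⟩ : ∃ s : F, σ s = -s ∧ s ≠ 0 ∧
      -(s * (f (A *ᵥ u) w + σ (f (A *ᵥ u) w))) + -(s * s * h) ≠ 0 := by
    by_contra hcon
    push Not at hcon
    have e1 := hcon t ht ht0
    have e2 := hcon (k * t) (by rw [map_mul, hk, ht]; ring) (mul_ne_zero hk0 ht0)
    have : k * (k - 1) * (t * t * h) = 0 := by linear_combination -e2 + k * e1
    simp [hk0, sub_eq_zero, hk1, ht0, hh0] at this
  set D := rMat f u (-(s • (A *ᵥ u))) + (-(s * s * h)) • pMat f u with hDdef
  set q := f (D *ᵥ w) w with hqdef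
  have hq0 : q ≠ 0 := by rw [hqdef, hQ s hs']; exact hq
  have hDu : D *ᵥ u = f (D *ᵥ u) w • u := by
    have e : D *ᵥ u = (- f u (-(s • (A *ᵥ u)))) • u := by
      simp [hDdef, add_mulVec, smul_mulVec, pMat_mulVec hf, rMat_mulVec hf, hu, neg_mulVec]
    rw [e, hs.smul_left, huw, mul_one]
  have hbasis : ∀ x : ι → F, x = f x w • u + f x u • w := by
    intro x
    have h1 : f (x - f x w • u - f x u • w) u = 0 := by
      rw [hs.sub_left, hs.sub_left, hs.smul_left, hs.smul_left, hu, hwu]; ring
    have h2' : f (x - f x w • u - f x u • w) w = 0 := by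
      rw [hs.sub_left, hs.sub_left, hs.smul_left, hs.smul_left, hw, huw]; ring
    have hwu' : ∀ c : F, c • u ≠ w := fun c hc => by
      rw [← hc, hs.smul_left, hu, mul_zero] at hwu; exact zero_ne_one hwu
    have hli : LinearIndependent F ![u, w] := linearIndependent_fin2.mpr
      ⟨fun h0 => by simp at h0; rw [h0, hs.zero_left] at hwu; exact zero_ne_one hwu,
        fun c hc => by simp at hc; rw [← hc, hs.smul_left, hw, mul_zero] at huw; exact zero_ne_one huw⟩
    have htop : Submodule.span F (Set.range ![u, w]) = ⊤ :=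
      hli.span_eq_top_of_card_eq_finrank (by rw [Fintype.card_fin, Module.finrank_pi, hn2])
    rw [sub_sub] at h1 h2'
    refine sub_eq_zero.mp (hs.ext_right (v := 0) fun y => ?_)
    rw [hs.zero_right]
    have hy : y ∈ Submodule.span F (Set.range ![u, w]) := htop ▸ Submodule.mem_top
    induction hy using Submodule.span_induction with
    | mem y hy => obtain ⟨i, rfl⟩ := hy; fin_cases i <;> simp [unitary_orth_symm hf h1, unitary_orth_symm hf h2']
    | zero => exact hs.zero_left _
    | add y z _ _ hy hz => rw [hs.add_left, hy, hz, add_zero]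
    | smul a y _ hy => rw [hs.smul_left, hy, mul_zero]
  -- the torus
  have hneC : (Matrix.of fun i j => (![u, w] : Fin 2 → ι → F) ((Fintype.equivFinOfCardEq hn2) j) i).det ≠ 0 := by
    intro h0
    obtain ⟨a, ha0, ha⟩ := Matrix.exists_mulVec_eq_zero_iff.mpr h0
    set e := Fintype.equivFinOfCardEq hn2
    have h' : a (e.symm 0) • u + a (e.symm 1) • w = 0 := by
      rw [← ha]
      funext i
      simp only [mulVec, dotProduct, Matrix.of_apply, Pi.add_apply, Pi.smul_apply, smul_eq_mul]
      rw [← e.symm.sum_comp, Fin.sum_univ_two]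
      simp [mul_comm]
    have a1 := congrArg (f · u) h'
    have a2 := congrArg (f · w) h'
    simp [hs.add_left, hs.smul_left, hu, hw, hwu, huw, hs.zero_left] at a1 a2
    refine ha0 (funext fun i => ?_)
    obtain ⟨j, rfl⟩ := e.symm.surjective i
    fin_cases j <;> assumption
  set T : Matrix ι ι F := k • vecMulVec u (leftVec f w) + k⁻¹ • vecMulVec w (leftVec f u) with hTdef
  have hT : ∀ x, T *ᵥ x = (k * f x w) • u + (k⁻¹ * f x u) • w := fun x => by
    rw [hTdef, add_mulVec, smul_mulVec, smul_mulVec, vecMulVec_mulVec', vecMulVec_mulVec', hs.dot_leftVec,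
      hs.dot_leftVec, smul_smul, smul_smul]
  have hTdet : T.det = 1 := by
    set e := Fintype.equivFinOfCardEq hn2
    set C := Matrix.of fun i j => (![u, w] : Fin 2 → ι → F) (e j) i with hC
    have hTC : T * C = C * Matrix.diagonal (fun j => (![k, k⁻¹] : Fin 2 → F) (e j)) := by
      ext i j
      rw [mul_diagonal, mul_apply]
      have hcol : (∑ x, T i x * C x j) = (T *ᵥ ((![u, w] : Fin 2 → ι → F) (e j))) i := rfl
      rw [hcol, hT]
      simp only [hC, Matrix.of_apply]
      generalize e j = j'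
      fin_cases j' <;> simp [hu, hw, hwu, huw, mul_comm]
    have := congrArg Matrix.det hTC
    rw [det_mul, det_mul, det_diagonal, ← e.symm.prod_comp, Fin.prod_univ_two] at this
    simp [mul_inv_cancel₀ hk0] at this
    exact (mul_eq_right₀ hneC).mp this
  have hσk' : σ k⁻¹ = k⁻¹ := by rw [map_inv₀, hk]
  set g := Matrix.GeneralLinearGroup.mkOfDetNeZero T (by rw [hTdet]; exact one_ne_zero) with hgdef
  have hg : g ∈ su f := by
    refine ⟨fun x y => ?_, ?_⟩
    · show f (T *ᵥ x) (T *ᵥ y) = f x y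
      conv_rhs => rw [hbasis x, hbasis y]
      simp only [hT, hs.add_left, hs.add_right, hs.smul_left, hs.smul_right, hu, hw, hwu, huw, map_mul,
        hk, hσk']
      field_simp
      ring
    · show g ∈ specialLinear ι F
      rw [specialLinear, MonoidHom.mem_ker, Units.ext_iff, Matrix.GeneralLinearGroup.val_det_apply]
      exact hTdet
  refine ⟨(k * k - 1) * q, mul_ne_zero ?_ hq0, ?_, ?_⟩
  · intro h0
    have : (k - 1) * (k - 1) = 0 := by linear_combination h0 - (k - 1) * h2
    simp [sub_eq_zero, hk1] at this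
  · have hσq : σ q = -q := by
      rw [hqdef, hQ s hs', map_add, map_neg, map_neg, map_mul, map_mul, map_mul,
        map_add, hf.involutive, hs', hh, ← hf.herm, hskew u u, map_neg σ (f u (A *ᵥ u)),
        ← hf.herm (A *ᵥ u) u, hskew u u]
      ring
    rw [map_mul, map_sub, map_mul, hk, map_one, hσq]; ring
  · have h1 := 𝒜.sub_mem (h𝒜 g hg D (hD s hs')) (hD s hs')
    convert h1 using 1
    have hginv : ∀ x, ((g⁻¹ : GL ι F) : Matrix ι ι F) *ᵥ x = (k⁻¹ * f x w) • u + (k * f x u) • w := by
      intro x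
      refine mulVec_injective_iff_isUnit.mpr g.isUnit ?_
      show (g : Matrix ι ι F) *ᵥ _ = (g : Matrix ι ι F) *ᵥ _
      rw [mulVec_mulVec, Units.mul_inv, one_mulVec]
      show x = T *ᵥ _
      rw [hT, hs.add_left, hs.add_left, hs.smul_left, hs.smul_left, hs.smul_left, hs.smul_left, hu, hw,
        hwu, huw, mul_zero, add_zero, mul_one, mul_zero, zero_add, mul_one, ← mul_assoc, ← mul_assoc,
        mul_inv_cancel₀ hk0, inv_mul_cancel₀ hk0, one_mul, one_mul]
      exact hbasis x
    refine Matrix.ext_iff_mulVec.mpr fun x => ?_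
    rw [smul_mulVec, pMat_mulVec hf, sub_mulVec, ← mulVec_mulVec, ← mulVec_mulVec]
    show _ = T *ᵥ (D *ᵥ (((g⁻¹ : GL ι F) : Matrix ι ι F) *ᵥ x)) - D *ᵥ x
    rw [hginv, hT]
    conv_rhs => arg 2; rw [hbasis x]
    simp only [mulVec_add, mulVec_smul, hs.add_left, hs.smul_left]
    have hDu' : f (D *ᵥ u) u = 0 := by rw [hDu, hs.smul_left, hu, mul_zero]
    conv_rhs => arg 2; rw [hDu, hbasis (D *ᵥ w)]
    rw [hDu', hqdef]
    match_scalars <;> field_simp <;> ring

end CfsgLib.TensorUnitary
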