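import Cfsg.Agent.TensorUnitary.Central

/-!
# An overgroup contains all transvections with pure isotropic centre
-/

set_option autoImplicit false
set_option linter.unusedSectionVars false

namespace CfsgLib.TensorUnitary

open Matrix Cfsg.Geo CfsgLib.MaxSub CfsgLib.TensorMax
open scoped Kronecker

section Centre

variable {ι : Type} [Fintype ι] [DecidableEq ι] {F : Type*} [Field F]
  {σ : F ≃+* F} {f : (ι → F) → (ι → F) → F}

/-- All transvections with centre `w` lie in `M`. -/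
def IsCentre (σ : F ≃+* F) (f : (ι → F) → (ι → F) → F) (M : Subgroup (GL ι F)) (w : ι → F) : Prop :=
  ∀ k : F, σ k = -k → ∃ g ∈ M, (g : Matrix ι ι F) = 1 + k • pMat f w

variable (hf : IsUnitaryForm σ f)
include hf

theorem pMat_smul (z : F) (w : ι → F) : pMat f (z • w) = (z * σ z) • pMat f w := by
  refine Matrix.ext_iff_mulVec.mpr fun x => ?_
  rw [smul_mulVec, pMat_mulVec hf, pMat_mulVec hf, (sesqForm_of_unitary hf).smul_right, smul_smul,
    smul_smul]
  congr 1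
  ring

theorem isCentre_map {M : Subgroup (GL ι F)} {w : ι → F} (h : IsCentre σ f M w) {g : GL ι F}
    (hg : g ∈ isom f) (hgM : g ∈ M) : IsCentre σ f M ((g : Matrix ι ι F) *ᵥ w) := by
  intro k hk
  obtain ⟨t, ht, htv⟩ := h k hk
  refine ⟨g * t * g⁻¹, M.mul_mem (M.mul_mem hgM ht) (M.inv_mem hgM), ?_⟩
  rw [Units.val_mul, Units.val_mul, htv, mul_add, add_mul, mul_one, Units.mul_inv, Matrix.mul_smul,
    Matrix.smul_mul, conj_pMat hf hg]

theorem isCentre_smul {M : Subgroup (GL ι F)} {w : ι → F} (h : IsCentre σ f M w) (z : F) :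
    IsCentre σ f M (z • w) := by
  intro k hk
  obtain ⟨t, ht, htv⟩ := h (k * (z * σ z))
    (by rw [map_mul, map_mul, hk, hf.involutive]; ring)
  exact ⟨t, ht, by rw [htv, pMat_smul hf, smul_smul]⟩

end Centre

variable {F : Type*} [Field F] [Finite F] {a b : ℕ} {σ : F ≃+* F}
  {f₁ : (Fin a → F) → (Fin a → F) → F} {f₂ : (Fin b → F) → (Fin b → F) → F}

theorem pMat_kron (hf₁ : IsUnitaryForm σ f₁) (hf₂ : IsUnitaryForm σ f₂) (x : Fin a → F)
    (y : Fin b → F) : pMat f₁ x ⊗ₖ pMat f₂ y = pMat (form f₁ f₂) (ten x y) :=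
  mat_ext_ten fun u v => by
    rw [kron_mulVec_ten, pMat_mulVec hf₁, pMat_mulVec hf₂, pMat_mulVec (isUnitary_form hf₁ hf₂),
      form_ten_ten hf₁ hf₂, ten_smul_left, ten_smul_right, smul_smul]

theorem pMat_mul_self {ι : Type} [Fintype ι] [DecidableEq ι] {f : (ι → F) → (ι → F) → F}
    (hf : IsUnitaryForm σ f) {c : ι → F} (hc : f c c = 0) : pMat f c * pMat f c = 0 :=
  vecMulVec_sq (by rw [(sesqForm_of_unitary hf).dot_leftVec, hc])

/-- The central set as an additive group. -/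
def centralGroup (hf₂ : IsUnitaryForm σ f₂) (M : Subgroup (GL (Idx a b) F)) {c : Fin b → F}
    (hc : f₂ c c = 0) : AddSubgroup (Matrix (Fin a) (Fin a) F) where
  carrier := centralSet M f₂ c
  add_mem' {A B} hA hB := by
    obtain ⟨g, hg, hgA⟩ := hA
    obtain ⟨h, hh, hhB⟩ := hB
    refine ⟨g * h, M.mul_mem hg hh, ?_⟩
    rw [Units.val_mul, hgA, hhB, mul_add, mul_one, add_mul, one_mul, ← mul_kronecker_mul,
      pMat_mul_self hf₂ hc, kronecker_zero, add_zero, add_assoc, ← add_kronecker]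
  zero_mem' := ⟨1, M.one_mem, by rw [zero_kronecker, add_zero, Units.val_one]⟩
  neg_mem' {A} hA := by
    obtain ⟨g, hg, hgA⟩ := hA
    refine ⟨g⁻¹, M.inv_mem hg, Units.inv_eq_of_mul_eq_one_right ?_⟩
    rw [hgA, mul_add, mul_one, add_mul, one_mul, ← mul_kronecker_mul,
      pMat_mul_self hf₂ hc, kronecker_zero, add_zero, add_assoc, ← add_kronecker, add_neg_cancel,
      zero_kronecker, add_zero]

theorem skew_of_central (hf₁ : IsUnitaryForm σ f₁) (hf₂ : IsUnitaryForm σ f₂)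
    {M : Subgroup (GL (Idx a b) F)} (hM : M ≤ su (form f₁ f₂)) {c : Fin b → F} (hc0 : c ≠ 0)
    (hc : f₂ c c = 0) {A : Matrix (Fin a) (Fin a) F} (hA : A ∈ centralSet M f₂ c) (x x' : Fin a → F) :
    f₁ (A *ᵥ x) x' = - f₁ x (A *ᵥ x') := by
  obtain ⟨g, hgM, hg⟩ := hA
  have hs₁ := sesqForm_of_unitary hf₁
  have hs₂ := sesqForm_of_unitary hf₂
  have hsf := sesqForm_of_unitary (isUnitary_form hf₁ hf₂)
  obtain ⟨e, -, hec, hce⟩ := exists_partner hf₂ hc0 hc
  have h := (hM hgM).1 (ten x e) (ten x' e)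
  have hgt : ∀ z, (g : Matrix (Idx a b) (Idx a b) F) *ᵥ ten z e = ten z e + ten (A *ᵥ z) c := fun z => by
    rw [hg, add_mulVec, one_mulVec, kron_mulVec_ten, pMat_mulVec hf₂, hec, one_smul]
  rw [hgt, hgt, hsf.add_left, hsf.add_right, hsf.add_right, form_ten_ten hf₁ hf₂,
    form_ten_ten hf₁ hf₂, form_ten_ten hf₁ hf₂, form_ten_ten hf₁ hf₂, hec, hce, hc] at h
  linear_combination h

/-- All pure isotropic tensors are centres. -/
theorem isCentre_ten (hf₁ : IsUnitaryForm σ f₁) (hf₂ : IsUnitaryForm σ f₂) (ha : 2 ≤ a) (hab : a < b)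
    (hex : 3 ≤ a ∨ ∃ k : F, σ k = k ∧ k ≠ 0 ∧ k ≠ 1)
    {M : Subgroup (GL (Idx a b) F)} (hLM : tensU f₁ f₂ ≤ M)
    (hM : M ≤ su (form f₁ f₂))
    (hblock : ∃ y ∈ M, y ∉ tensU f₁ f₂ ∧ ∃ c : Fin b → F, c ≠ 0 ∧ f₂ c c = 0 ∧ ∃ S : GL (Fin a) F,
      ∀ x, (y : Matrix (Idx a b) (Idx a b) F) *ᵥ ten x c = ten ((S : Matrix (Fin a) (Fin a) F) *ᵥ x) c)
    {x : Fin a → F} {y : Fin b → F} (hx : f₁ x x = 0) (hy : f₂ y y = 0) :
    IsCentre σ (form f₁ f₂) M (ten x y) := by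
  have hff := isUnitary_form hf₁ hf₂
  have hs₁ := sesqForm_of_unitary hf₁
  have hs₂ := sesqForm_of_unitary hf₂
  obtain ⟨c, hc0, hc, A, hA, hns⟩ := exists_central hf₁ hf₂ ha hab hex hLM hM hblock
  let 𝒜 := centralGroup hf₂ M hc
  have h𝒜 : ConjInv f₁ 𝒜 := by
    rintro S hS B ⟨m, hm, hmB⟩
    have hk := hLM (krG_mem_tensU hf₁ hf₂ hS (Subgroup.one_mem (su f₂)))
    refine ⟨krG (S, 1) * m * (krG (S, 1))⁻¹, M.mul_mem (M.mul_mem hk hm) (M.inv_mem hk), ?_⟩
    rw [← map_inv, Prod.inv_mk, inv_one, Units.val_mul, Units.val_mul, hmB, krG_val, krG_val,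
      Units.val_one, mul_add, mul_one, add_mul, ← mul_kronecker_mul, ← mul_kronecker_mul, ← mul_kronecker_mul,
      Units.mul_inv, one_mul, one_mul, mul_one, one_kronecker_one]
  obtain ⟨u, hu0, hu, r, hr0, hr, hru⟩ := exists_pMat_mem hf₁ h𝒜 (by rw [Fintype.card_fin]; omega)
    (by rw [Fintype.card_fin]; exact hex) (A := A) hA (skew_of_central hf₁ hf₂ hM hc0 hc hA) hns
  -- every scalar at `u ⊗ c`
  have hbase : IsCentre σ (form f₁ f₂) M (ten u c) := by
    intro k hk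
    rcases eq_or_ne k 0 with rfl | hk0
    · exact ⟨1, M.one_mem, by rw [zero_smul, add_zero, Units.val_one]⟩
    obtain ⟨z, hz⟩ := norm_surjective hf₁.ne_refl hf₁.involutive (a := k / r)
      (by rw [map_div₀, hk, hr, neg_div_neg_eq])
    have hz0 : z ≠ 0 := by
      intro h
      rw [h, zero_mul, eq_comm, div_eq_zero_iff] at hz
      exact hz.elim hk0 hr0
    obtain ⟨T, hT, hTc⟩ := exists_scale hf₂ (by rw [Fintype.card_fin]; omega) hc0 hc hz0
    obtain ⟨m, hm, hmv⟩ := hru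
    have hK := krG_mem_tensU hf₁ hf₂ (Subgroup.one_mem (su f₁)) hT
    refine ⟨krG (1, T) * m * (krG (1, T))⁻¹,
      M.mul_mem (M.mul_mem (hLM hK) hm) (M.inv_mem (hLM hK)), ?_⟩
    rw [Units.val_mul, Units.val_mul, hmv, smul_kronecker, pMat_kron hf₁ hf₂, mul_add, add_mul,
      mul_one, Units.mul_inv, Matrix.mul_smul, Matrix.smul_mul, conj_pMat hff hK.2.1, krG_val,
      kron_mulVec_ten, Units.val_one, one_mulVec, hTc, ten_smul_right, pMat_smul hff, smul_smul, hz,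
      mul_div_cancel₀ _ hr0]
  rcases eq_or_ne x 0 with rfl | hx0
  · rw [ten_eq_zero.mpr (Or.inl rfl)]
    simpa using isCentre_smul hff hbase 0
  rcases eq_or_ne y 0 with rfl | hy0
  · rw [ten_eq_zero.mpr (Or.inr rfl)]
    simpa using isCentre_smul hff hbase 0
  obtain ⟨S, hS, k, hk, hSu⟩ := exists_move_line hf₁ hu0 hu hx0 hx
  obtain ⟨T, hT, l, hl, hTc⟩ := exists_move_line hf₂ hc0 hc hy0 hy
  have hK := krG_mem_tensU hf₁ hf₂ hS hT
  have h := isCentre_smul hff (isCentre_map hff hbase hK.2.1 (hLM hK)) (k * l)⁻¹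
  rwa [krG_val, kron_mulVec_ten, hSu, hTc, ten_smul_left, ten_smul_right, smul_smul, smul_smul, mul_assoc,
    inv_mul_cancel₀ (mul_ne_zero hk hl), one_smul] at h

end CfsgLib.TensorUnitary
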