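import Cfsg.Agent.TensorUnitary.Product
import Cfsg.Agent.TensorMax.Unipotent

/-!
# Root elements of the second factor
-/

set_option autoImplicit false
set_option linter.unusedSectionVars false

namespace CfsgLib.TensorUnitary

open Matrix Cfsg.Geo CfsgLib.MaxSub CfsgLib.TensorMax
open scoped Kronecker

variable {F : Type*} [Field F] {a b : ℕ} {σ : F ≃+* F}
  {f₁ : (Fin a → F) → (Fin a → F) → F} {f₂ : (Fin b → F) → (Fin b → F) → F}

/-- The root element `1 ⊗ (transvection at c)`. -/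
noncomputable def uroot (a : ℕ) (f₂ : (Fin b → F) → (Fin b → F) → F) (c : Fin b → F) (l : F) :
    GL (Idx a b) F :=
  root (l • c) (leftVec f₂ c)

variable (hf₁ : IsUnitaryForm σ f₁) (hf₂ : IsUnitaryForm σ f₂)
include hf₂

theorem uroot_orth {c : Fin b → F} (hc : f₂ c c = 0) (l : F) : leftVec f₂ c ⬝ᵥ (l • c) = 0 := by
  rw [dotProduct_smul, (sesqForm_of_unitary hf₂).dot_leftVec, hc, smul_zero]

theorem uroot_val {c : Fin b → F} (hc : f₂ c c = 0) (l : F) :
    (uroot a f₂ c l : Matrix (Idx a b) (Idx a b) F)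
      = 1 + (1 : Matrix (Fin a) (Fin a) F) ⊗ₖ (l • pMat f₂ c) := by
  rw [uroot, root_val (uroot_orth hf₂ hc l), pMat, smul_vecMulVec]

theorem uroot_mulVec {c : Fin b → F} (hc : f₂ c c = 0) (l : F) (v : Idx a b → F) :
    (uroot a f₂ c l : Matrix (Idx a b) (Idx a b) F) *ᵥ v = v + l • ten (ev f₂ c v) c := by
  rw [uroot_val hf₂ hc, add_mulVec, one_mulVec, kronecker_smul, smul_mulVec, kron_pMat_mulVec hf₂,
    one_mulVec]

theorem uroot_inv {c : Fin b → F} (hc : f₂ c c = 0) (l : F) :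
    (uroot a f₂ c l)⁻¹ = uroot a f₂ c (-l) := by
  rw [uroot, uroot, root, root, ← map_inv, Prod.inv_mk, inv_one, tv_inv, neg_smul]

theorem uroot_fix {c : Fin b → F} (hc : f₂ c c = 0) (l : F) {v : Idx a b → F} (hv : ev f₂ c v = 0) :
    (uroot a f₂ c l : Matrix (Idx a b) (Idx a b) F) *ᵥ v = v := by
  rw [uroot_mulVec hf₂ hc, hv, ten_eq_zero.mpr (Or.inl rfl), smul_zero, add_zero]

include hf₁ in
theorem uroot_mem {c : Fin b → F} (hc : f₂ c c = 0) {l : F} (hl : σ l = -l) :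
    uroot a f₂ c l ∈ tensU f₁ f₂ :=
  krG_mem_tensU hf₁ hf₂ (Subgroup.one_mem _) (tv_mem_su hf₂ hc hl)

include hf₁ in
theorem form_ten_right' (g : GL (Idx a b) F) (hg : g ∈ isom (form f₁ f₂)) (v : Idx a b → F)
    (x : Fin a → F) (y : Fin b → F) :
    f₁ (ev f₂ y (((g⁻¹ : GL (Idx a b) F) : Matrix (Idx a b) (Idx a b) F) *ᵥ v)) x
      = form f₁ f₂ v ((g : Matrix (Idx a b) (Idx a b) F) *ᵥ ten x y) := by
  rw [← form_ten_right hf₁ hf₂, isom_flip hg]

include hf₁ in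
/-- An isometry fixing `F^a ⊗ c` pointwise commutes with the root element at `c`. -/
theorem conj_uroot_of_fix {c : Fin b → F} (hc : f₂ c c = 0) (l : F) {m : GL (Idx a b) F}
    (hm : m ∈ isom (form f₁ f₂))
    (hfix : ∀ x, (m : Matrix (Idx a b) (Idx a b) F) *ᵥ ten x c = ten x c) :
    m * uroot a f₂ c l * m⁻¹ = uroot a f₂ c l := by
  refine Units.ext (Matrix.ext_iff_mulVec.mpr fun v => ?_)
  have hev : ev f₂ c (((m⁻¹ : GL (Idx a b) F) : Matrix (Idx a b) (Idx a b) F) *ᵥ v) = ev f₂ c v := by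
    have hs := sesqForm_of_unitary hf₁
    by_contra hne
    obtain ⟨x, hx⟩ := (hf₁.nondegenerate _ (sub_ne_zero.mpr hne)).2
    refine hx ?_
    rw [hs.sub_left, form_ten_right' hf₁ hf₂ m hm, hfix, form_ten_right hf₁ hf₂, sub_self]
  rw [Units.val_mul, Units.val_mul, ← mulVec_mulVec, ← mulVec_mulVec, uroot_mulVec hf₂ hc,
    uroot_mulVec hf₂ hc, mulVec_add, mulVec_smul, hfix, hev, mulVec_mulVec, Units.mul_inv, one_mulVec]

end CfsgLib.TensorUnitary
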