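import Cfsg.Agent.TensorUnitary.Root
import Cfsg.Prelude.Def_Transfer

/-!
# The elementary abelian group of root elements at a totally isotropic line pair
-/

set_option autoImplicit false
set_option linter.unusedSectionVars false

namespace CfsgLib.TensorUnitary

open Matrix Cfsg.Geo CfsgLib.MaxSub CfsgLib.TensorMax
open scoped Kronecker

variable {F : Type*} [Field F] {a b : ℕ} {σ : F ≃+* F}
  {f₁ : (Fin a → F) → (Fin a → F) → F} {f₂ : (Fin b → F) → (Fin b → F) → F}

/-- The elements `1 ⊗ (1 + X)` of `A` with `X` mapping into `W` and killing it. -/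
def abelR (A : Subgroup (GL (Idx a b) F)) (W : Submodule F (Fin b → F)) :
    Subgroup (GL (Idx a b) F) where
  carrier := {g | g ∈ A ∧ ∃ X : Matrix (Fin b) (Fin b) F, (∀ y, X *ᵥ y ∈ W) ∧ (∀ y ∈ W, X *ᵥ y = 0) ∧
    (g : Matrix (Idx a b) (Idx a b) F) = 1 + (1 : Matrix (Fin a) (Fin a) F) ⊗ₖ X}
  one_mem' := ⟨A.one_mem, 0, fun y => by rw [zero_mulVec]; exact W.zero_mem,
    fun y _ => zero_mulVec y, by rw [kronecker_zero, add_zero, Units.val_one]⟩
  mul_mem' := by
    rintro g h ⟨hg, X, hX, hX0, hgX⟩ ⟨hh, Y, hY, hY0, hhY⟩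
    refine ⟨A.mul_mem hg hh, X + Y, fun y => by rw [add_mulVec]; exact W.add_mem (hX y) (hY y),
      fun y hy => by rw [add_mulVec, hX0 y hy, hY0 y hy, add_zero], ?_⟩
    have hXY : X * Y = 0 := Matrix.ext_iff_mulVec.mpr fun y => by
      rw [← mulVec_mulVec, hX0 _ (hY y), zero_mulVec]
    rw [Units.val_mul, hgX, hhY, add_mul, one_mul, mul_add, mul_one, ← mul_kronecker_mul, one_mul, hXY,
      kronecker_zero, add_zero, kronecker_add]
    abel
  inv_mem' := by
    rintro g ⟨hg, X, hX, hX0, hgX⟩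
    refine ⟨A.inv_mem hg, -X, fun y => by rw [neg_mulVec]; exact W.neg_mem (hX y),
      fun y hy => by rw [neg_mulVec, hX0 y hy, neg_zero], ?_⟩
    have hXX : X * X = 0 := Matrix.ext_iff_mulVec.mpr fun y => by
      rw [← mulVec_mulVec, hX0 _ (hX y), zero_mulVec]
    apply Units.inv_eq_of_mul_eq_one_right
    have hm : (1 : Matrix (Fin a) (Fin a) F) ⊗ₖ (-X) = -((1 : Matrix (Fin a) (Fin a) F) ⊗ₖ X) := by
      ext i j
      simp [kroneckerMap_apply]
    rw [hgX, hm, add_mul, one_mul, mul_add, mul_one, mul_neg, ← mul_kronecker_mul, one_mul, hXX,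
      kronecker_zero, neg_zero, add_zero]
    abel

theorem abelR_le (A : Subgroup (GL (Idx a b) F)) (W : Submodule F (Fin b → F)) : abelR A W ≤ A :=
  fun _ h => h.1

theorem isElementaryAbelian_abelR (p : ℕ) [Fact p.Prime] [CharP F p] (A : Subgroup (GL (Idx a b) F))
    (W : Submodule F (Fin b → F)) : Cfsg.IsElementaryAbelian p (abelR A W) := by
  refine ⟨⟨⟨fun g h => Subtype.ext (Units.ext ?_)⟩⟩, ?_⟩
  · obtain ⟨-, X, hX, hX0, hgX⟩ := g.2
    obtain ⟨-, Y, hY, hY0, hhY⟩ := h.2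
    have hXY : X * Y = 0 := Matrix.ext_iff_mulVec.mpr fun y => by
      rw [← mulVec_mulVec, hX0 _ (hY y), zero_mulVec]
    have hYX : Y * X = 0 := Matrix.ext_iff_mulVec.mpr fun y => by
      rw [← mulVec_mulVec, hY0 _ (hX y), zero_mulVec]
    simp only [Subgroup.coe_mul, Units.val_mul, hgX, hhY, add_mul, one_mul, mul_add, mul_one,
      ← mul_kronecker_mul, hXY, hYX, kronecker_zero]
    abel
  · rintro g ⟨-, X, hX, hX0, hgX⟩
    apply Units.ext
    have hXX : X ^ 2 = 0 := by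
      rw [pow_two]
      exact Matrix.ext_iff_mulVec.mpr fun y => by rw [← mulVec_mulVec, hX0 _ (hX y), zero_mulVec]
    have hp : ((1 : Matrix (Fin a) (Fin a) F) ⊗ₖ X) ^ p = 0 :=
      pow_eq_zero_of_le (Fact.out (p := p.Prime)).two_le
        (by rw [pow_two, ← mul_kronecker_mul, ← pow_two X, hXX, kronecker_zero])
    rcases isEmpty_or_nonempty (Idx a b) with he | he
    · exact Subsingleton.elim _ _
    rw [Units.val_pow_eq_pow_val, hgX, add_pow_char_of_commute p (Commute.one_left _), one_pow, hp,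
      add_zero, Units.val_one]

variable (hf₁ : IsUnitaryForm σ f₁) (hf₂ : IsUnitaryForm σ f₂)
include hf₁ hf₂

/-- Every hyperplane of the root group of a totally isotropic line pair contains a root element. -/
theorem exists_uroot_mem [Finite F] {p : ℕ} [Fact p.Prime] [CharP F p] {A : Subgroup (GL (Idx a b) F)}
    {c d : Fin b → F} (hcc : f₂ c c = 0) (hdd : f₂ d d = 0) (hdc : f₂ d c = 0)
    (hind : ∀ k : F, k • c ≠ d) (hc0 : c ≠ 0)
    (hA : ∀ w, f₂ w c = 0 → f₂ w d = 0 → f₂ w w = 0 → w ∈ Submodule.span F {c, d} →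
      ∀ l, σ l = -l → uroot a f₂ w l ∈ A)
    {B : Subgroup (GL (Idx a b) F)} (hB : B ≤ abelR A (Submodule.span F {c, d}))
    (hidx : B.relIndex (abelR A (Submodule.span F {c, d})) ≤ p) :
    ∃ w : Fin b → F, w ≠ 0 ∧ f₂ w w = 0 ∧ ∃ l : F, l ≠ 0 ∧ σ l = -l ∧ uroot a f₂ w l ∈ B := by
  classical
  have hs₂ := sesqForm_of_unitary hf₂
  have hcd : f₂ c d = 0 := unitary_orth_symm hf₂ hdc
  set W := Submodule.span F ({c, d} : Set (Fin b → F)) with hW
  set R := abelR A W with hR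
  have hcW : c ∈ W := Submodule.subset_span (Set.mem_insert _ _)
  have hdW : d ∈ W := Submodule.subset_span (Set.mem_insert_of_mem _ rfl)
  have horth : ∀ w ∈ W, ∀ z ∈ W, f₂ w z = 0 := by
    intro w hw z hz
    obtain ⟨x, y, rfl⟩ := Submodule.mem_span_pair.mp hw
    obtain ⟨x', y', rfl⟩ := Submodule.mem_span_pair.mp hz
    simp [hs₂.add_left, hs₂.add_right, hs₂.smul_left, hs₂.smul_right, hcc, hdd, hcd, hdc]
  have hroot : ∀ w ∈ W, ∀ l, σ l = -l → uroot a f₂ w l ∈ R := by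
    intro w hw l hl
    refine ⟨hA w (horth w hw c hcW) (horth w hw d hdW) (horth w hw w hw) hw l hl, l • pMat f₂ w,
      fun y => ?_, fun y hy => ?_, uroot_val hf₂ (horth w hw w hw) l⟩
    · rw [smul_mulVec, pMat_mulVec hf₂]; exact W.smul_mem _ (W.smul_mem _ hw)
    · rw [smul_mulVec, pMat_mulVec hf₂, horth y hy w hw, zero_smul, smul_zero]
  by_contra hcon
  push Not at hcon
  obtain ⟨t, ht0, ht⟩ := exists_traceZero hf₂.ne_refl hf₂.involutive
  have hcm : IsMulCommutative R := (isElementaryAbelian_abelR p A W).1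
  haveI : (B.subgroupOf R).Normal := ⟨fun x hx y => by
    have hc : y * x = x * y := hcm.is_comm.comm y x
    rw [hc, mul_inv_cancel_right]; exact hx⟩
  let φ : R →* R ⧸ B.subgroupOf R := QuotientGroup.mk' _
  have : Finite (R ⧸ B.subgroupOf R) := Quotient.finite _
  have hQ : Nat.card (R ⧸ B.subgroupOf R) ≤ p := hidx
  let Fx := {r : F // σ r = r}
  have hskew : ∀ r : Fx, σ (t * r.1) = -(t * r.1) := fun r => by rw [map_mul, ht, r.2]; ring
  let el : (w : Fin b → F) → w ∈ W → Fx → R := fun w hw r => ⟨_, hroot w hw _ (hskew r)⟩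
  let α : Fx → R ⧸ B.subgroupOf R := fun r => φ (el c hcW r)
  have hval : ∀ w hw r, ((el w hw r : R) : GL (Idx a b) F).val
      = 1 + (1 : Matrix (Fin a) (Fin a) F) ⊗ₖ ((t * r.1) • pMat f₂ w) := fun w hw r =>
    uroot_val hf₂ (horth w hw w hw) _
  have hRmul : ∀ (g h : R) (X Y : Matrix (Fin b) (Fin b) F), X * Y = 0 →
      (g : GL (Idx a b) F).val = 1 + (1 : Matrix (Fin a) (Fin a) F) ⊗ₖ X →
      (h : GL (Idx a b) F).val = 1 + (1 : Matrix (Fin a) (Fin a) F) ⊗ₖ Y →
      ((g * h : R) : GL (Idx a b) F).val = 1 + (1 : Matrix (Fin a) (Fin a) F) ⊗ₖ (X + Y) := by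
    intro g h X Y hXY hg hh
    rw [Subgroup.coe_mul, Units.val_mul, hg, hh, add_mul, one_mul, mul_add, mul_one, ← mul_kronecker_mul,
      one_mul, hXY, kronecker_zero, add_zero, kronecker_add]
    abel
  have hPP : ∀ w ∈ W, ∀ z ∈ W, ∀ k l : F, (k • pMat f₂ w) * (l • pMat f₂ z) = 0 := by
    intro w hw z hz k l
    refine Matrix.ext_iff_mulVec.mpr fun y => ?_
    rw [← mulVec_mulVec, smul_mulVec, smul_mulVec, mulVec_smul, pMat_mulVec hf₂, pMat_mulVec hf₂,
      hs₂.smul_left, horth z hz w hw]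
    simp
  have hαadd : ∀ r s : Fx, α ⟨r.1 + s.1, by rw [map_add, r.2, s.2]⟩ = α r * α s := by
    intro r s
    show φ _ = φ _ * φ _
    rw [← map_mul]
    congr 1
    refine Subtype.ext (Units.ext ?_)
    rw [hRmul _ _ _ _ (hPP c hcW c hcW _ _) (hval c hcW r) (hval c hcW s), hval c hcW, ← add_smul, ← mul_add]
  have hαinj : Function.Injective α := by
    intro r s hrs
    by_contra hne
    have h' : α ⟨r.1 - s.1, by rw [map_sub, r.2, s.2]⟩ = 1 := by
      have := hαadd ⟨r.1 - s.1, by rw [map_sub, r.2, s.2]⟩ s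
      simp only [sub_add_cancel] at this
      have h2 : α ⟨r.1, r.2⟩ = α r := rfl
      rw [h2, hrs] at this
      exact mul_eq_right.mp this.symm
    replace h' := (QuotientGroup.eq_one_iff _).mp h'
    exact hcon c hc0 hcc _ (mul_ne_zero ht0 (sub_ne_zero.mpr fun h => hne (Subtype.ext h)))
      (hskew ⟨_, by rw [map_sub, r.2, s.2]⟩) h'
  -- the fixed field is the prime field
  let ι' : Fin p → Fx := fun i => ⟨((i : ℕ) : F), map_natCast σ _⟩
  have hι' : Function.Injective ι' := fun i j h => Fin.ext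
    (CharP.natCast_injOn_Iio F p (Set.mem_Iio.mpr i.2) (Set.mem_Iio.mpr j.2) (congrArg Subtype.val h))
  have hcard : Nat.card Fx = p := le_antisymm ((Nat.card_le_card_of_injective α hαinj).trans hQ)
    (by simpa using Nat.card_le_card_of_injective ι' hι')
  have hnat : ∀ r : Fx, ∃ n : ℕ, (n : F) = r.1 := by
    intro r
    have hbij := (Nat.bijective_iff_injective_and_card ι').mpr ⟨hι', by rw [Nat.card_fin, hcard]⟩
    obtain ⟨i, hi⟩ := hbij.2 r
    exact ⟨i, congrArg Subtype.val hi⟩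
  have hαsurj : Function.Surjective α := by
    refine ((Nat.bijective_iff_injective_and_card α).mpr ⟨hαinj, le_antisymm
      (Nat.card_le_card_of_injective α hαinj) (by rw [hcard]; exact hQ)⟩).2
  have hind0 : ∀ x : F, x • c + d ≠ 0 := fun x h => hind (-x) (by
    rw [neg_smul]; exact (eq_neg_of_add_eq_zero_right h).symm)
  have hxd : ∀ x : F, x • c + d ∈ W := fun x => W.add_mem (W.smul_mem x hcW) hdW
  let one : Fx := ⟨1, map_one σ⟩
  let nm : F → Fx := fun x => ⟨x * σ x, by rw [map_mul, hf₂.involutive, mul_comm]⟩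
  let cr : F → R := fun x => el (x • c + d) (hxd x) one * (el c hcW (nm x))⁻¹ * (el d hdW one)⁻¹
  have hcrX : ∀ x, (cr x : GL (Idx a b) F).val = 1 + (1 : Matrix (Fin a) (Fin a) F) ⊗ₖ
      (t • (σ x • vecMulVec d (leftVec f₂ c) ) + (t * x) • vecMulVec c (leftVec f₂ d)) := by
    intro x
    have key : ((t * (1 : F)) • pMat f₂ (x • c + d)) =
        (t • (σ x • vecMulVec d (leftVec f₂ c)) + (t * x) • vecMulVec c (leftVec f₂ d))
          + (t * (nm x).1) • pMat f₂ c + (t * (1 : F)) • pMat f₂ d := by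
      refine Matrix.ext_iff_mulVec.mpr fun y => ?_
      simp only [add_mulVec, smul_mulVec, pMat_mulVec hf₂, vecMulVec_mulVec', hs₂.dot_leftVec,
        hs₂.add_right, hs₂.smul_right, nm]
      module
    set Y := t • (σ x • vecMulVec d (leftVec f₂ c)) + (t * x) • vecMulVec c (leftVec f₂ d) with hY
    have hYP : ∀ w ∈ W, ∀ k : F, Y * (k • pMat f₂ w) = 0 := by
      intro w hw k
      refine Matrix.ext_iff_mulVec.mpr fun y => ?_
      rw [← mulVec_mulVec, hY]
      simp [add_mulVec, smul_mulVec, pMat_mulVec hf₂, vecMulVec_mulVec', hs₂.dot_leftVec, hs₂.smul_left,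
        horth w hw c hcW, horth w hw d hdW, mulVec_smul]
    set Gx := el (x • c + d) (hxd x) one
    set Gc := el c hcW (nm x)
    set Gd := el d hdW one
    have hY1 : Y * ((t * (nm x).1) • pMat f₂ c + t • pMat f₂ d) = 0 := by
      rw [mul_add, hYP c hcW, hYP d hdW, add_zero]
    have hcdm := hRmul Gc Gd _ _ (hPP c hcW d hdW _ _) (hval c hcW _) (hval d hdW _)
    have hGx : ((Gx : R) : GL (Idx a b) F).val
        = (1 + (1 : Matrix (Fin a) (Fin a) F) ⊗ₖ Y) * ((Gc * Gd : R) : GL (Idx a b) F).val := by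
      rw [hcdm, hval (x • c + d) (hxd x), key, add_assoc Y, kronecker_add]
      simp only [show (one : Fx).1 = (1 : F) from rfl, mul_one, add_mul, one_mul, mul_add, ← mul_kronecker_mul,
        hY1, kronecker_zero, add_zero]
      abel
    show ((Gx * Gc⁻¹ * Gd⁻¹ : R) : GL (Idx a b) F).val = _
    have hc : Gx * Gc⁻¹ * Gd⁻¹ = Gx * (Gc * Gd)⁻¹ := by
      rw [_root_.mul_inv_rev, mul_assoc]
      congr 1
      exact hcm.is_comm.comm _ _
    rw [hc, Subgroup.coe_mul, Units.val_mul, hGx, mul_assoc, Subgroup.coe_inv, Units.mul_inv, mul_one]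
  have hcradd : ∀ x y, cr (x + y) = cr x * cr y := by
    intro x y
    refine Subtype.ext (Units.ext ?_)
    rw [hRmul _ _ _ _ ?_ (hcrX x) (hcrX y), hcrX, map_add]
    · congr 2
      module
    · refine Matrix.ext_iff_mulVec.mpr fun z => ?_
      rw [← mulVec_mulVec]
      simp [add_mulVec, smul_mulVec, vecMulVec_mulVec', hs₂.dot_leftVec, hs₂.add_left, hs₂.smul_left,
        hcc, hdd, hcd, hdc, mulVec_smul, mulVec_add]
  choose Ψ hΨ using fun x => hαsurj (φ (cr x))
  have hΨadd : ∀ x y, (Ψ (x + y)).1 = (Ψ x).1 + (Ψ y).1 := fun x y => by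
    refine congrArg Subtype.val (hαinj (a₂ := ⟨(Ψ x).1 + (Ψ y).1, by rw [map_add, (Ψ x).2, (Ψ y).2]⟩) ?_)
    rw [hαadd, hΨ, hΨ, hΨ, hcradd, map_mul]
  have hΨ0 : (Ψ 0).1 = 0 := by
    have := hΨadd 0 0
    rw [add_zero] at this
    linear_combination -this
  have hΨn : ∀ (n : ℕ) x, (Ψ ((n : F) * x)).1 = n * (Ψ x).1 := by
    intro n x
    induction n with
    | zero => rw [Nat.cast_zero, zero_mul, zero_mul, hΨ0]
    | succ n ih => rw [Nat.cast_succ, add_mul, add_mul, one_mul, one_mul, hΨadd, ih]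
  have hΨlin : ∀ (r : Fx) x, (Ψ (r.1 * x)).1 = r.1 * (Ψ x).1 := by
    intro r x
    obtain ⟨n, hn⟩ := hnat r
    rw [← hn]; exact hΨn n x
  -- a trace representation
  obtain ⟨θ, hθ⟩ := exists_moved hf₂.ne_refl
  have hθ' : θ - σ θ ≠ 0 := sub_ne_zero.mpr (Ne.symm hθ)
  set κ := ((Ψ θ).1 - σ θ * (Ψ 1).1) / (θ - σ θ) with hκ
  have hσκ : σ κ = ((Ψ θ).1 - θ * (Ψ 1).1) / (σ θ - θ) := by
    rw [hκ, map_div₀, map_sub, map_mul, map_sub, hf₂.involutive, (Ψ θ).2, (Ψ 1).2]
  have hrep : ∀ x, (Ψ x).1 = κ * x + σ κ * σ x := by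
    intro x
    set r₂ := (x - σ x) / (θ - σ θ) with hr₂
    have hr₂f : σ r₂ = r₂ := by
      rw [hr₂, map_div₀, map_sub, map_sub, hf₂.involutive, hf₂.involutive, ← neg_sub x, ← neg_sub θ,
        neg_div_neg_eq]
    have hr₁f : σ (x - r₂ * θ) = x - r₂ * θ := by
      have : r₂ * (θ - σ θ) = x - σ x := div_mul_cancel₀ _ hθ'
      rw [map_sub, map_mul, hr₂f]
      linear_combination this
    have e : (Ψ x).1 = (x - r₂ * θ) * (Ψ 1).1 + r₂ * (Ψ θ).1 := by
      rw [← hΨlin ⟨_, hr₁f⟩, ← hΨlin ⟨_, hr₂f⟩, ← hΨadd]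
      congr 2
      ring
    have hθ'' : σ θ - θ ≠ 0 := sub_ne_zero.mpr hθ
    rw [e, hσκ, hκ, hr₂]
    field_simp
    ring
  obtain ⟨δ, hδ⟩ := hαsurj (φ (el d hdW one))
  obtain ⟨y, hy⟩ := norm_surjective hf₂.ne_refl hf₂.involutive (a := κ * σ κ - δ.1)
    (by rw [map_sub, map_mul, hf₂.involutive, δ.2, mul_comm])
  set x := y - σ κ with hx
  have hzero : (nm x).1 + (Ψ x).1 + δ.1 = 0 := by
    rw [hrep]
    show x * σ x + _ + _ = _
    rw [hx, map_sub, hf₂.involutive]
    linear_combination hy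
  have hα1 : α ⟨(nm x).1 + (Ψ x).1 + δ.1, by rw [map_add, map_add, (nm x).2, (Ψ x).2, δ.2]⟩ = 1 := by
    have e0 := hαadd ⟨0, map_zero σ⟩ ⟨0, map_zero σ⟩
    simp only [add_zero] at e0
    have : α ⟨0, map_zero σ⟩ = 1 := mul_eq_left.mp e0.symm
    convert this using 3
  rw [hαadd ⟨(nm x).1 + (Ψ x).1, by rw [map_add, (nm x).2, (Ψ x).2]⟩ δ, hαadd (nm x) (Ψ x), hΨ, hδ] at hα1
  have hprod : el (x • c + d) (hxd x) one = el c hcW (nm x) * cr x * el d hdW one := by
    show _ = _ * (_ * _⁻¹ * _⁻¹) * _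
    rw [hcm.is_comm.comm (el (x • c + d) (hxd x) one)]
    group
  have h1 : φ (el (x • c + d) (hxd x) one) = 1 := by
    rw [hprod, map_mul, map_mul]; exact hα1
  replace h1 := (QuotientGroup.eq_one_iff _).mp h1
  refine hcon _ (hind0 x) (horth _ (hxd x) _ (hxd x)) _ ?_ (hskew one) h1
  simpa [one] using ht0

end CfsgLib.TensorUnitary
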