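import Cfsg.Agent.TensorUnitary.RankOne

/-!
# Siegel elements inside a subgroup, and spanning sets of isotropic vectors
-/

set_option autoImplicit false
set_option linter.unusedSectionVars false

namespace CfsgLib.TensorUnitary

open Matrix Cfsg.Geo CfsgLib.MaxSub

variable {ι : Type} [Fintype ι] [DecidableEq ι] {F : Type*} [Field F]
  {σ : F ≃+* F} {f : (ι → F) → (ι → F) → F}

/-- Some Siegel element at `x` with direction `w` lies in `M`. -/
def IsSieg (f : (ι → F) → (ι → F) → F) (M : Subgroup (GL ι F)) (x w : ι → F) : Prop :=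
  f w x = 0 ∧ ∃ k : F, ∃ g ∈ M, (g : Matrix ι ι F) = 1 + siegMat f x w k

section

variable (hf : IsUnitaryForm σ f)
include hf

theorem pMat_shift (x z : ι → F) {k : F} (hk : σ k = -k) (s : F) :
    k • pMat f (z + s • x) - k • pMat f z
      = rMat f x ((k * σ s) • z) + (k * (s * σ s)) • pMat f x := by
  have hs := sesqForm_of_unitary hf
  refine Matrix.ext_iff_mulVec.mpr fun v => ?_
  simp only [sub_mulVec, add_mulVec, smul_mulVec, pMat_mulVec hf, rMat_mulVec hf, hs.add_right,
    hs.smul_right, map_mul, hk, hf.involutive]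
  module

theorem siegMat_mul {x w w' : ι → F} (hx : f x x = 0) (hw : f w x = 0) (hw' : f w' x = 0) (k k' : F) :
    (1 + siegMat f x w k) * (1 + siegMat f x w' k')
      = 1 + siegMat f x (w + w') (k + k' - f w' w) := by
  have hs := sesqForm_of_unitary hf
  refine Matrix.ext_iff_mulVec.mpr fun v => ?_
  simp only [← mulVec_mulVec, add_mulVec, one_mulVec, siegMat_mulVec hf, hs.add_left, hs.add_right,
    hs.sub_left, hs.smul_left, hx, hw', unitary_orth_symm hf hw, mul_zero, sub_zero, add_zero]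
  module

theorem siegMat_zero (x : ι → F) : siegMat f x 0 0 = 0 := by
  refine Matrix.ext_iff_mulVec.mpr fun v => ?_
  simp [siegMat_mulVec hf, (sesqForm_of_unitary hf).zero_right]

theorem isSieg_zero (M : Subgroup (GL ι F)) (x : ι → F) : IsSieg f M x 0 :=
  ⟨(sesqForm_of_unitary hf).zero_left x, 0, 1, M.one_mem, by
    rw [siegMat_zero hf, add_zero, Units.val_one]⟩

variable {M : Subgroup (GL ι F)} {x : ι → F} (hx : f x x = 0)
include hx

theorem isSieg_add {w w' : ι → F} (h : IsSieg f M x w) (h' : IsSieg f M x w') :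
    IsSieg f M x (w + w') := by
  obtain ⟨hw, k, g, hg, hgv⟩ := h
  obtain ⟨hw', k', g', hg', hgv'⟩ := h'
  refine ⟨by rw [(sesqForm_of_unitary hf).add_left, hw, hw', add_zero],
    k + k' - f w' w, g * g', M.mul_mem hg hg', ?_⟩
  rw [Units.val_mul, hgv, hgv', siegMat_mul hf hx hw hw']

theorem isSieg_neg {w : ι → F} (h : IsSieg f M x w) : IsSieg f M x (-w) := by
  have hs := sesqForm_of_unitary hf
  obtain ⟨hw, k, g, hg, hgv⟩ := h
  have hnw : f (-w) x = 0 := by rw [← neg_one_smul F w, hs.smul_left, hw, mul_zero]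
  refine ⟨hnw, -k - f w w, g⁻¹, M.inv_mem hg, Units.inv_eq_of_mul_eq_one_right ?_⟩
  rw [hgv, siegMat_mul hf hx hw hnw, add_neg_cancel,
    show k + (-k - f w w) - f (-w) w = 0 by rw [← neg_one_smul F w, hs.smul_left]; ring_nf,
    siegMat_zero hf, add_zero]

theorem isSieg_sub {w w' : ι → F} (h : IsSieg f M x w) (h' : IsSieg f M x w') :
    IsSieg f M x (w - w') := by
  rw [sub_eq_add_neg]; exact isSieg_add hf hx h (isSieg_neg hf hx h')

omit hx in
theorem isSieg_map {w : ι → F} (h : IsSieg f M x w) {g : GL ι F} (hg : g ∈ isom f) (hgM : g ∈ M)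
    (hgx : (g : Matrix ι ι F) *ᵥ x = x) : IsSieg f M x ((g : Matrix ι ι F) *ᵥ w) := by
  obtain ⟨hw, k, t, ht, htv⟩ := h
  refine ⟨?_, k, g * t * g⁻¹, M.mul_mem (M.mul_mem hgM ht) (M.inv_mem hgM), ?_⟩
  · conv_lhs => arg 2; rw [← hgx]
    rw [hg, hw]
  · rw [Units.val_mul, Units.val_mul, htv, mul_add, add_mul, mul_one, Units.mul_inv, siegMat, siegMat,
      mul_add, add_mul, Matrix.mul_smul, Matrix.smul_mul, conj_rMat hf hg, conj_pMat hf hg, hgx]

/-- The commutator rule. -/
theorem isSieg_comm (hM : M ≤ su f) {w z : ι → F} (h : IsSieg f M x w) (hz : f z z = 0)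
    (hzx : f z x = 0) (hC : IsCentre σ f M z) {c : F} (hc : σ c = -c) :
    IsSieg f M x ((c * f w z) • z) := by
  obtain ⟨t, ht, htv⟩ := hC c hc
  have hval : ∀ v, (t : Matrix ι ι F) *ᵥ v = v + (c * f v z) • z := fun v => by
    rw [htv, add_mulVec, one_mulVec, smul_mulVec, pMat_mulVec hf, smul_smul]
  have htx : (t : Matrix ι ι F) *ᵥ x = x := by
    rw [hval, unitary_orth_symm hf hzx, mul_zero, zero_smul, add_zero]
  have := isSieg_sub hf hx (isSieg_map hf h (hM ht).1 ht htx) h
  rwa [hval, add_sub_cancel_left] at this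

end

section Span

variable [Finite F] (hf : IsUnitaryForm σ f)
include hf

theorem top_of_iso_not_orth (hn : 2 ≤ Fintype.card ι) {u : ι → F} (hu0 : u ≠ 0) (hu : f u u = 0)
    {S : Submodule F (ι → F)} (h : ∀ x, f x x = 0 → f x u ≠ 0 → x ∈ S) : S = ⊤ := by
  have hs := sesqForm_of_unitary hf
  obtain ⟨t, ht0, ht⟩ := exists_traceZero hf.ne_refl hf.involutive
  obtain ⟨w, hw, hwu, huw⟩ := exists_partner hf hu0 hu
  have hwS : w ∈ S := h w hw (by rw [hwu]; exact one_ne_zero)
  refine eq_top_of_iso_mem hf hn fun x hx => ?_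
  by_cases hxu : f x u = 0
  swap
  · exact h x hx hxu
  obtain ⟨s, hs0, hsx⟩ : ∃ s : F, s ≠ 0 ∧ σ (s * f w x) = - (s * f w x) := by
    by_cases hwx : f w x = 0
    · exact ⟨1, one_ne_zero, by simp [hwx]⟩
    · exact ⟨t / f w x, div_ne_zero ht0 hwx, by rw [div_mul_cancel₀ _ hwx, ht]⟩
  have hi : f (x + s • w) (x + s • w) = 0 := by
    rw [hs.add_left, hs.add_right, hs.add_right, hx, hs.smul_left, hs.smul_left, hs.smul_right,
      hs.smul_right, hw, hf.herm x w, ← map_mul, hsx]
    ring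
  have := S.sub_mem (h _ hi (by rw [hs.add_left, hs.smul_left, hxu, hwu, zero_add, mul_one]; exact hs0))
    (S.smul_mem s hwS)
  simpa using this

theorem exists_frame (hn : 4 ≤ Fintype.card ι) {c : ι → F} (hc0 : c ≠ 0) (hc : f c c = 0) :
    ∃ c' y, f c' c' = 0 ∧ f c' c = 1 ∧ f c c' = 1 ∧ y ≠ 0 ∧ f y y = 0 ∧ f y c = 0 ∧ f y c' = 0 := by
  have hs := sesqForm_of_unitary hf
  obtain ⟨c', hc', hc'c, hcc'⟩ := exists_partner hf hc0 hc
  have h := finrank_dotsKer ![leftVec f c, leftVec f c']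
  obtain ⟨y, hy, hy0, hyy⟩ := exists_iso_mem hf (dotsKer ![leftVec f c, leftVec f c']) (by omega)
  rw [mem_dotsKer] at hy
  exact ⟨c', y, hc', hc'c, hcc', hy0, hyy, by simpa [hs.dot_leftVec] using hy 0,
    by simpa [hs.dot_leftVec] using hy 1⟩

theorem orth_le_of_iso_mem (hn : 4 ≤ Fintype.card ι) {c : ι → F} (hc0 : c ≠ 0) (hc : f c c = 0)
    {Y : Submodule F (ι → F)}
    (h : ∀ y, f y y = 0 → f y c = 0 → (∀ k : F, k • c ≠ y) → y ∈ Y) {v : ι → F} (hv : f v c = 0) :
    v ∈ Y := by
  have hs := sesqForm_of_unitary hf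
  obtain ⟨c', y, hc', hc'c, hcc', hy0, hy, hyc, hyc'⟩ := exists_frame hf hn hc0 hc
  let π : (ι → F) → (ι → F) := fun p => p - f p c' • c - f p c • c'
  have hπc : ∀ p, f (π p) c = 0 := fun p => by
    simp only [π, hs.sub_left, hs.smul_left, hc, hc'c]; ring
  have hπc' : ∀ p, f (π p) c' = 0 := fun p => by
    simp only [π, hs.sub_left, hs.smul_left, hc', hcc']; ring
  -- isotropic vectors of `{c, c'}⊥`
  have hH : ∀ q, f q q = 0 → f q c = 0 → f q c' = 0 → q ∈ Y := by
    intro q hq hqc hqc'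
    rcases eq_or_ne q 0 with rfl | hq0
    · exact Y.zero_mem
    refine h q hq hqc fun k hk => hq0 ?_
    rw [← hk, hs.smul_left, hcc', mul_one] at hqc'
    rw [← hk, hqc', zero_smul]
  obtain ⟨p, -, hpy, -⟩ := exists_partner hf hy0 hy
  have hcy : f c y = 0 := unitary_orth_symm hf hyc
  have hc'y : f c' y = 0 := unitary_orth_symm hf hyc'
  have hπy : f (π p) y = 1 := by
    simp only [π, hs.sub_left, hs.smul_left, hcy, hc'y, hpy]; ring
  obtain ⟨r, hr1, hr2⟩ := exists_iso_shift hf hy (by rw [hπy]; exact one_ne_zero)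
  set w := π p + r • y with hw
  have hwc : f w c = 0 := by rw [hw, hs.add_left, hs.smul_left, hπc, hyc, mul_zero, add_zero]
  have hwc' : f w c' = 0 := by rw [hw, hs.add_left, hs.smul_left, hπc', hyc', mul_zero, add_zero]
  have hwy : f w y = 1 := hr2.trans hπy
  have hyw : f y w = 1 := by rw [hf.herm, hwy, map_one]
  clear_value w
  have hyY := hH y hy hyc hyc'
  have hwY := hH w hr1 hwc hwc'
  have hcY : c ∈ Y := by
    have := Y.sub_mem (h (y + c) (by rw [hs.add_left, hs.add_right, hs.add_right, hy, hc, hyc, hcy]; ring)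
      (by rw [hs.add_left, hyc, hc, add_zero]) fun k hk => hy0 (by
        have h1 : f (k • c) c' = f (y + c) c' := by rw [hk]
        rw [hs.smul_left, hs.add_left, hyc', hcc', mul_one, zero_add] at h1
        rw [h1, one_smul] at hk
        exact add_eq_right.mp hk.symm)) hyY
    simpa using this
  set q := v - f v c' • c with hq
  have hqc : f q c = 0 := by rw [hq, hs.sub_left, hs.smul_left, hv, hc, mul_zero, sub_zero]
  have hqc' : f q c' = 0 := by rw [hq, hs.sub_left, hs.smul_left, hcc', mul_one, sub_self]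
  set q' := q - f q w • y - f q y • w with hq'
  have h1 : f q' y = 0 := by rw [hq', hs.sub_left, hs.sub_left, hs.smul_left, hs.smul_left, hy, hwy]; ring
  have h2 : f q' w = 0 := by rw [hq', hs.sub_left, hs.sub_left, hs.smul_left, hs.smul_left, hr1, hyw]; ring
  have h3 : f q' c = 0 := by rw [hq', hs.sub_left, hs.sub_left, hs.smul_left, hs.smul_left, hqc, hyc, hwc]; ring
  have h4 : f q' c' = 0 := by
    rw [hq', hs.sub_left, hs.sub_left, hs.smul_left, hs.smul_left, hqc', hyc', hwc']; ring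
  obtain ⟨α, hα⟩ := trace_surjective hf.ne_refl hf.involutive (a := - f q' q')
    (by rw [map_neg, herm_self hf])
  have hi := hH (q' + α • y + w)
    (by simp only [hs.add_left, hs.add_right, hs.smul_left, hs.smul_right, hy, hr1, hwy, hyw, h1, h2,
          unitary_orth_symm hf h1, unitary_orth_symm hf h2]
        linear_combination hα)
    (by simp [hs.add_left, hs.smul_left, h3, hyc, hwc])
    (by simp [hs.add_left, hs.smul_left, h4, hyc', hwc'])
  have hq'Y : q' ∈ Y := by
    have := Y.sub_mem (Y.sub_mem hi hwY) (Y.smul_mem α hyY)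
    simpa using this
  have := Y.add_mem (Y.add_mem (Y.add_mem hq'Y (Y.smul_mem (f q w) hyY)) (Y.smul_mem (f q y) hwY))
    (Y.smul_mem (f v c') hcY)
  convert this using 1
  rw [hq', hq]
  abel

end Span

end CfsgLib.TensorUnitary
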